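import Cfsg.Agent.Lib.SzSmall.Build
import Cfsg.Agent.Lib.Suzuki.Minor

/-!
# The Suzuki groups over eight and thirty-two elements are determined by their structure
-/

set_option autoImplicit false
set_option linter.unusedSectionVars false
set_option linter.style.haveILetI false

namespace Cfsg.Agent.SzSmall

open Cfsg.Agent.Zass MulAction
open Cfsg.Agent.CosetCert (allBelow allBelow_spec)
open Tab (el)

universe u v

section SzFrame

variable {F : Type*} [Field F] [Fintype F] {m : ℕ} (h : Suzuki.SzField F m)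

/-- The action on the ovoid. -/
@[reducible] def ovoidAction (F : Type*) [Field F] [Fintype F] (m : ℕ) :
    MulAction (Cfsg.Sz F m) ↥(Cfsg.suzukiOvoid F m) where
  smul g p := ⟨g • p.1, Suzuki.smul_mem_ovoid g p.2⟩
  one_smul p := Subtype.ext (one_smul _ p.1)
  mul_smul g g' p := Subtype.ext (mul_smul g g' p.1)

attribute [local instance] ovoidAction

theorem coe_smul_ovoid (g : Cfsg.Sz F m) (p : ↥(Cfsg.suzukiOvoid F m)) :
    ((g • p : ↥(Cfsg.suzukiOvoid F m)) : Projectivization F (Fin 4 → F)) = g • p.1 := rfl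

/-- The coordinates of the ovoid model. -/
def szFrame (φ : F →+* F) (hφ : ∀ x, φ x = Suzuki.θ m x) :
    Frame φ (Cfsg.Sz F m) ↥(Cfsg.suzukiOvoid F m) where
  a := ⟨_, Suzuki.pinf_mem⟩
  b := ⟨_, Suzuki.pt_mem (m := m) (0 : F) 0⟩
  T p := Suzuki.T h p.1 p.2
  d := Suzuki.HHom h
  s := Suzuki.W h
  ne e := Suzuki.pt_ne_pinf (m := m) (0 : F) 0 (congrArg Subtype.val e).symm
  T_mul p q := by simp only [pmul, hφ]; exact Suzuki.T_mul h _ _ _ _
  d_conj k p := by simp only [pact, hφ]; exact Suzuki.H_conj_T h k _ _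
  s_sq := Suzuki.W_mul_self h
  s_d k := Suzuki.W_conj_H h k
  T_a p := Subtype.ext (Suzuki.T_smul_pinf h _ _)
  d_a k := Subtype.ext (Suzuki.H_smul_pinf h k)
  d_b k := Subtype.ext (Suzuki.H_smul_pt_zero h k)
  s_a := Subtype.ext (Suzuki.W_smul_pinf h)
  reg c hc := by
    rcases Suzuki.mem_ovoid.mp c.2 with e | ⟨x, y, e⟩
    · exact absurd (Subtype.ext e) hc
    · refine ⟨(x, y), Subtype.ext ((Suzuki.T_smul_pt_zero h x y).trans e.symm), fun q hq => ?_⟩
      have := (Suzuki.T_smul_pt_zero h q.1 q.2).symm.trans ((congrArg Subtype.val hq).trans e)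
      exact Prod.ext (Suzuki.pt_inj this).1 (Suzuki.pt_inj this).2
  stab g hg := by
    obtain ⟨x, y, k, e⟩ := Suzuki.borel_form h (g := g) (congrArg Subtype.val hg)
    exact ⟨(x, y), k, e⟩
  faith g hg := by
    refine Suzuki.fix_three h Suzuki.pinf_mem (Suzuki.pt_mem (m := m) (0 : F) 0)
      (Suzuki.pt_mem (m := m) (1 : F) 0) (Suzuki.pt_ne_pinf 0 0).symm
      (fun e => zero_ne_one (Suzuki.pt_inj e).1) (Suzuki.pt_ne_pinf 1 0).symm ?_ ?_ ?_
    · exact congrArg Subtype.val (hg ⟨_, Suzuki.pinf_mem⟩)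
    · exact congrArg Subtype.val (hg ⟨_, Suzuki.pt_mem (m := m) (0 : F) 0⟩)
    · exact congrArg Subtype.val (hg ⟨_, Suzuki.pt_mem (m := m) (1 : F) 0⟩)

theorem szFrame_rel (φ : F →+* F) (hφ : ∀ x, φ x = Suzuki.θ m x) {u : F × F} (hu : u ≠ 0) :
    ∃ k g, (szFrame h φ hφ).Rel u (u.2 / Suzuki.fz m u.1 u.2, u.1 / Suzuki.fz m u.1 u.2) k g := by
  obtain ⟨f, k, g, r⟩ := (szFrame h φ hφ).rel_exists hu
  have hz : Suzuki.fz m u.1 u.2 ≠ 0 := fun e =>
    hu (Prod.ext (h.fz_eq_zero e).1 (h.fz_eq_zero e).2)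
  have e : Suzuki.W h • (Suzuki.T h u.1 u.2 • Suzuki.pt m (0 : F) 0) =
      Suzuki.T h f.1 f.2 • Suzuki.pt m (0 : F) 0 :=
    congrArg Subtype.val ((szFrame h φ hφ).rel_apply_a r)
  rw [Suzuki.T_smul_pt_zero, Suzuki.T_smul_pt_zero] at e
  obtain ⟨e1, e2⟩ := Suzuki.pt_inj ((Suzuki.wEl_smul_pt h hz).symm.trans e)
  refine ⟨k, g, ?_⟩
  rw [e1, e2]
  exact r

end SzFrame

section Recog

variable {T : Tab} [Tab.Good T] {G : Type u} [Group G] {Ω : Type v} [MulAction G Ω]

theorem recog_aux {m : ℕ} (hm : 1 ≤ m) (hn : T.n = 2 * m + 1) (hph : Code.phOK T (m + 1) = true)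
    {exc : List (ℕ × ℕ)} {cases : List (List (ℕ × ℕ × ℕ × ℕ) × (ℕ × ℕ × ℕ))}
    (hbad : Code.allBad T (m + 1) exc cases = true) (hexc : exc = [(0, 1), (1, 0), (0, 0)])
    {ops : List (ℕ × ℕ × ℕ × ℕ)} {cov : List (ℕ × ℕ)} (hs : Code.solves T (m + 1) ops cov = true)
    (h3 : ¬ 3 ∣ Nat.card G) (F : Frame (Code.phi T (m + 1) hph) G Ω) :
    Nonempty (G ≃* ↥(Cfsg.Lie.Sz (Tab.El T) (2 ^ (m + 1)))) := by
  classical
  have hF : Suzuki.SzField (Tab.El T) m := ⟨hm, by rw [Tab.card_El, Tab.q, hn]⟩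
  obtain ⟨F', f, r⟩ := exists_normal F
  obtain ⟨p, hp, h1, h2⟩ := Code.exceptional T (m + 1) hph F' hbad (x := f.1) (y := f.2) r
  have hf : f = (el p.1, el p.2) := Prod.ext h1 h2
  subst hexc
  simp only [List.mem_cons, List.not_mem_nil, or_false] at hp
  rcases hp with rfl | rfl | rfl
  · rw [hf, Tab.el_zero, Tab.el_one] at r
    exact absurd (three_dvd F' r) h3
  · rw [hf, Tab.el_zero, Tab.el_one] at r
    have hφ : ∀ x : Tab.El T, Code.phi T (m + 1) hph x = Suzuki.θ m x := phi_eq_pow (m + 1) hph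
    letI := ovoidAction (Tab.El T) m
    obtain ⟨e⟩ := equiv_of_frames F' (szFrame hF _ hφ)
      (fun u => Code.pt T (Code.szF T (m + 1) ((u.1.v : ℕ), (u.2.v : ℕ))))
      (fun u hu => Code.solved T (m + 1) hph F' hs r u hu)
      (fun u hu => by
        obtain ⟨k, g, rr⟩ := szFrame_rel hF _ hφ hu
        refine ⟨k, g, ?_⟩
        have hx := u.1.v.2
        have hy := u.2.v.2
        have hpx := (Code.ph_spec T (m + 1) hph hx).1
        have hxx := Code.mul_lt T (m + 1) hph hx hx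
        have b1 := Code.mul_lt T (m + 1) hph hx hy
        have b2 := Code.mul_lt T (m + 1) hph hpx hxx
        have b3 := (Code.ph_spec T (m + 1) hph hy).1
        have bz := Tab.xor_lt (Tab.xor_lt b1 b2) b3
        have bi := (Tab.spec bz).2.1
        have ez : (el (Tab.xor (Tab.xor (T.mul u.1.v u.2.v) (T.mul (Code.ph T (m + 1) u.1.v)
            (T.mul u.1.v u.1.v))) (Code.ph T (m + 1) u.2.v)) : Tab.El T) = Suzuki.fz m u.1 u.2 := by
          rw [Suzuki.fz_eq, Tab.el_xor (Tab.xor_lt b1 b2) b3, Tab.el_xor b1 b2, Tab.el_mul hx hy,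
            Tab.el_mul hpx hxx, Tab.el_mul hx hx, ← Code.phi_el T (m + 1) hph hx,
            ← Code.phi_el T (m + 1) hph hy, Tab.el_of_val, Tab.el_of_val, hφ, hφ, sq]
        show Frame.Rel _ u (Code.pt T (Code.szF T (m + 1) ((u.1.v : ℕ), (u.2.v : ℕ)))) k g
        rw [show Code.pt T (Code.szF T (m + 1) ((u.1.v : ℕ), (u.2.v : ℕ))) =
          (u.2 / Suzuki.fz m u.1 u.2, u.1 / Suzuki.fz m u.1 u.2) by
            simp only [Code.pt, Code.szF]
            rw [Tab.el_mul hy bi, Tab.el_mul hx bi, Tab.el_inv bz, ez, Tab.el_of_val, Tab.el_of_val,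
              div_eq_mul_inv, div_eq_mul_inv]]
        exact rr)
    exact ⟨e.trans (Suzuki.minorEquiv hF)⟩
  · rw [hf, Tab.el_zero] at r
    exact absurd rfl (F'.rel_ne_zero r).2.1

end Recog

/-- The roots of the two defining polynomials. -/
def Code.rootsOK (T : Tab) (P : ℕ → Bool) : Bool :=
  allBelow (fun a => !(P a) || (List.range T.n).any fun j => Nat.beq (Code.ph T j 2) a) T.q

/-- The defining polynomial over eight elements. -/
def Code.P3 (T : Tab) (a : ℕ) : Bool := Nat.beq (Tab.xor (T.mul a (T.mul a a)) a) 1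

/-- The defining polynomial over thirty-two elements. -/
def Code.P5 (T : Tab) (a : ℕ) : Bool :=
  Nat.beq (Tab.xor (T.mul (T.mul a a) (T.mul a (T.mul a a))) (T.mul a a)) 1

theorem roots3 : Code.rootsOK T3 (Code.P3 T3) = true := by decide +kernel
theorem roots5 : Code.rootsOK T5 (Code.P5 T5) = true := by decide +kernel
theorem gen3 : Code.genOK T3 = true := by decide +kernel
theorem gen5 : Code.genOK T5 = true := by decide +kernel

theorem phi_cases3 (φ : Tab.El T3 →+* Tab.El T3) :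
    ∃ j < 3, φ (el 2) = el 2 ^ 2 ^ j := by
  have h2 : 2 < T3.q := by decide
  have hz : (el 2 : Tab.El T3) * (el 2 * el 2) + el 2 = 1 := by
    apply Tab.val_inj; decide +kernel
  have h := congrArg φ hz
  rw [map_add, map_mul, map_mul, map_one] at h
  have hP : Code.P3 T3 (φ (el 2)).v = true := Nat.beq_eq ▸ congrArg (fun x : Tab.El T3 => (x.v : ℕ)) h
  have hs := allBelow_spec roots3 (φ (el 2)).v.2
  simp only [hP, Bool.not_true, Bool.false_or, List.any_eq_true, List.mem_range, Nat.beq_eq] at hs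
  obtain ⟨j, hj, e⟩ := hs
  exact ⟨j, hj, by rw [← Tab.el_of_val (φ (el 2)), ← e, (el_ph h2 j).2]⟩

theorem phi_cases5 (φ : Tab.El T5 →+* Tab.El T5) :
    ∃ j < 5, φ (el 2) = el 2 ^ 2 ^ j := by
  have h2 : 2 < T5.q := by decide
  have hz : (el 2 : Tab.El T5) * el 2 * (el 2 * (el 2 * el 2)) + el 2 * el 2 = 1 := by
    apply Tab.val_inj; decide +kernel
  have h := congrArg φ hz
  simp only [map_add, map_mul, map_one] at h
  have hP : Code.P5 T5 (φ (el 2)).v = true := Nat.beq_eq ▸ congrArg (fun x : Tab.El T5 => (x.v : ℕ)) h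
  have hs := allBelow_spec roots5 (φ (el 2)).v.2
  simp only [hP, Bool.not_true, Bool.false_or, List.any_eq_true, List.mem_range, Nat.beq_eq] at hs
  obtain ⟨j, hj, e⟩ := hs
  exact ⟨j, hj, by rw [← Tab.el_of_val (φ (el 2)), ← e, (el_ph h2 j).2]⟩

variable {G : Type u} [Group G] [Fintype G] {Ω : Type v} [MulAction G Ω] [Fintype Ω]

theorem exists_tab_frame {a b : Ω} {H : Subgroup G} (S : ZassSuz.Suz a b H) (T : Tab) [Tab.Good T]
    (hq : Nat.card (two (G := G) a b) + 1 = T.q) :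
    ∃ φ : Tab.El T ≃+* Tab.El T, φ ≠ RingEquiv.refl _ ∧
      Nonempty (Frame (φ : Tab.El T →+* Tab.El T) G Ω) := by
  obtain ⟨F, _, _, φ, hF, hne, ⟨Fr⟩⟩ := exists_frame S
  let e : F ≃+* Tab.El T := FiniteField.ringEquivOfCardEq (K := F) (K' := Tab.El T)
    (by rw [hF, hq, Tab.card_El])
  refine ⟨e.symm.trans (φ.trans e), fun h => hne (RingEquiv.ext fun x => e.injective ?_),
    ⟨Fr.transport e _ fun x => by simp⟩⟩
  simpa using RingEquiv.congr_fun h (e x)

theorem recog8 {a b : Ω} {H : Subgroup G} (S : ZassSuz.Suz a b H)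
    (hq : Nat.card (two (G := G) a b) + 1 = 8) :
    Nonempty (G ≃* ↥(Cfsg.Lie.Sz (Tab.El T3) 4)) := by
  have h3 : ¬ 3 ∣ Nat.card G := by
    rw [S.card_group, S.card_sq, show Nat.card (two (G := G) a b) = 7 by omega]
    decide
  obtain ⟨φ, hne, ⟨Fr⟩⟩ := exists_tab_frame S T3 hq
  obtain ⟨j, hj, e⟩ := phi_cases3 (φ : Tab.El T3 →+* Tab.El T3)
  have h2 : 2 < T3.q := by decide
  have main : ∀ (Fr : Frame (Code.phi T3 2 ph3_2) G Ω), Nonempty (G ≃* ↥(Cfsg.Lie.Sz (Tab.El T3) 4)) :=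
    fun Fr => recog_aux (T := T3) (m := 1) le_rfl rfl ph3_2 bad3_2 rfl solve3_2 h3 Fr
  have hcard : ∀ x : Tab.El T3, x ^ 8 = x := fun x => by
    have := FiniteField.pow_card x
    rwa [Tab.card_El] at this
  interval_cases j
  · refine absurd (RingEquiv.ext fun x => ?_) hne
    exact RingHom.congr_fun (hom_eq_of_two gen3 h2 (φ : Tab.El T3 →+* Tab.El T3) (RingHom.id _)
      (by rw [e]; simp)) x
  · have h : ∀ x, φ x = x ^ 2 := fun x => RingHom.congr_fun (hom_eq_of_two gen3 h2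
      (φ : Tab.El T3 →+* Tab.El T3) (frobenius _ 2) (by rw [e, frobenius_def]; norm_num)) x
    refine main (Fr.mirror (Code.phi T3 2 ph3_2) (fun x => ?_) fun x => ?_)
    · show φ _ = x
      rw [h, phi_eq_pow, ← pow_mul]; exact hcard x
    · show Code.phi T3 2 ph3_2 (φ x) = x
      rw [h, phi_eq_pow, ← pow_mul]; exact hcard x
  · have h : (φ : Tab.El T3 →+* Tab.El T3) = Code.phi T3 2 ph3_2 :=
      hom_eq_of_two gen3 h2 _ _ (by rw [e, phi_eq_pow])
    exact main (h ▸ Fr)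

theorem recog32 {a b : Ω} {H : Subgroup G} (S : ZassSuz.Suz a b H)
    (hq : Nat.card (two (G := G) a b) + 1 = 32) :
    Nonempty (G ≃* ↥(Cfsg.Lie.Sz (Tab.El T5) 8)) := by
  have h3 : ¬ 3 ∣ Nat.card G := by
    rw [S.card_group, S.card_sq, show Nat.card (two (G := G) a b) = 31 by omega]
    decide
  obtain ⟨φ, hne, ⟨Fr⟩⟩ := exists_tab_frame S T5 hq
  obtain ⟨j, hj, e⟩ := phi_cases5 (φ : Tab.El T5 →+* Tab.El T5)
  have h2 : 2 < T5.q := by decide
  have main : ∀ (Fr : Frame (Code.phi T5 3 ph5_3) G Ω), Nonempty (G ≃* ↥(Cfsg.Lie.Sz (Tab.El T5) 8)) :=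
    fun Fr => recog_aux (T := T5) (m := 2) (by omega) rfl ph5_3 bad5_3 rfl solve5_3 h3 Fr
  have bad4 : ∀ (Fr : Frame (Code.phi T5 4 ph5_4) G Ω), False := fun Fr => by
    obtain ⟨F', f, r⟩ := exists_normal Fr
    obtain ⟨p, hp, h1, h2'⟩ := Code.exceptional T5 4 ph5_4 F' bad5_4 (x := f.1) (y := f.2) r
    have hf : f = (el p.1, el p.2) := Prod.ext h1 h2'
    simp only [List.mem_cons, List.not_mem_nil, or_false] at hp
    rcases hp with rfl | rfl
    · rw [hf, Tab.el_zero, Tab.el_one] at r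
      exact h3 (three_dvd F' r)
    · rw [hf, Tab.el_zero] at r
      exact (F'.rel_ne_zero r).2.1 rfl
  have hcard : ∀ x : Tab.El T5, x ^ 32 = x := fun x => by
    have := FiniteField.pow_card x
    rwa [Tab.card_El] at this
  have hk : ∀ k, φ (el 2) = el 2 ^ 2 ^ k → ∀ x, φ x = x ^ 2 ^ k := fun k hk x => by
    have h := RingHom.congr_fun (hom_eq_of_two gen5 h2 (φ : Tab.El T5 →+* Tab.El T5)
      (iterateFrobenius _ 2 k) (by rw [iterateFrobenius_def]; exact hk)) x
    rwa [iterateFrobenius_def] at h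
  have hφ := hk j e
  interval_cases j
  · exact absurd (RingEquiv.ext fun x => by simpa using hφ x) hne
  · refine (bad4 (Fr.mirror (Code.phi T5 4 ph5_4) (fun x => ?_) fun x => ?_)).elim
    · show φ _ = x
      rw [hφ, phi_eq_pow, ← pow_mul]; exact hcard x
    · show Code.phi T5 4 ph5_4 (φ x) = x
      rw [hφ, phi_eq_pow, ← pow_mul]; exact hcard x
  · refine main (Fr.mirror (Code.phi T5 3 ph5_3) (fun x => ?_) fun x => ?_)
    · show φ _ = x
      rw [hφ, phi_eq_pow, ← pow_mul]; exact hcard x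
    · show Code.phi T5 3 ph5_3 (φ x) = x
      rw [hφ, phi_eq_pow, ← pow_mul]; exact hcard x
  · have h : (φ : Tab.El T5 →+* Tab.El T5) = Code.phi T5 3 ph5_3 :=
      RingHom.ext fun x => (hφ x).trans (phi_eq_pow 3 ph5_3 x).symm
    exact main (h ▸ Fr)
  · have h : (φ : Tab.El T5 →+* Tab.El T5) = Code.phi T5 4 ph5_4 :=
      RingHom.ext fun x => (hφ x).trans (phi_eq_pow 4 ph5_4 x).symm
    exact (bad4 (h ▸ Fr)).elim

end Cfsg.Agent.SzSmall
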