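import Cfsg.Agent.Lib.ZassSuz.NOdd

/-!
# The two classes of tori

The proof of `Suz.odd_exponent` with the orders of the two tori kept in the conclusion.
-/

set_option autoImplicit false
set_option linter.style.haveILetI false
set_option linter.unusedSectionVars false

namespace Cfsg.Agent.SzSmall

open Cfsg.Agent.Zass MulAction Cfsg.Agent.ZassSuz
open scoped Classical

universe u v

theorem torus_pair_arith {ι : Type*} [Fintype ι] (n q : ℕ) (hn : 2 ≤ n) (hq : q = 2 ^ n) (t w M : ι → ℕ)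
    (h3 : ∀ i, 3 ≤ t i) (hodd : ∀ i, Odd (t i)) (hw : ∀ i, w i = 2 ∨ w i = 4) (hwt : ∀ i, w i ∣ t i - 1)
    (hdvd : ∀ i, t i ∣ q ^ 2 + 1) (hcop : ∀ i j, i ≠ j → Nat.Coprime (t i) (t j))
    (hM : ∀ i, M i * (t i * w i) = (q ^ 2 + 1) * q ^ 2 * (q - 1)) (hcong : ∀ i, (t i : ℤ) ∣ (M i : ℤ) - 1)
    (hsum : ∑ i, ((t i : ℚ) - 1) / w i = (q : ℚ) / 2)
    (hbound : ∑ i, ((t i : ℚ) - 1) / (t i * w i) < 1 / 2) :
    ∃ i j, w i = 4 ∧ w j = 4 ∧ t i + t j = 2 * q + 2 ∧ t i * t j = q ^ 2 + 1 := by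
  classical
  have hq4 : 4 ≤ q := hq ▸ le_trans (by norm_num) (Nat.pow_le_pow_right (by norm_num : 0 < 2) hn)
  have h5 : ∀ i, w i = 4 → 5 ≤ t i := fun i h => by
    have := h3 i
    have := hwt i
    rw [h] at this
    obtain ⟨k, hk⟩ := this
    omega
  have hterm : ∀ i, (1 : ℚ) / 5 ≤ ((t i : ℚ) - 1) / (t i * w i) ∧
      (w i = 2 → (1 : ℚ) / 3 ≤ ((t i : ℚ) - 1) / (t i * w i)) := by
    intro i
    have ht : (3 : ℚ) ≤ t i := by exact_mod_cast h3 i
    refine ⟨?_, fun h => ?_⟩
    · rcases hw i with h | h <;> rw [h] <;> push_cast <;> rw [le_div_iff₀ (by positivity)]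
      · linarith
      · have : (5 : ℚ) ≤ t i := by exact_mod_cast h5 i h
        linarith
    · rw [h]; push_cast; rw [le_div_iff₀ (by positivity)]; linarith
  have hnn : ∀ i, (0 : ℚ) ≤ ((t i : ℚ) - 1) / (t i * w i) := fun i => le_trans (by norm_num) (hterm i).1
  have hc2 : Fintype.card ι ≤ 2 := by
    by_contra h
    have h' : ∑ _i : ι, (1 : ℚ) / 5 ≤ ∑ i, ((t i : ℚ) - 1) / (t i * w i) :=
      Finset.sum_le_sum fun i _ => (hterm i).1
    rw [Finset.sum_const, Finset.card_univ, nsmul_eq_mul] at h'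
    have : (3 : ℚ) ≤ Fintype.card ι := by exact_mod_cast (by omega : 3 ≤ Fintype.card ι)
    linarith
  have hqQ : (4 : ℚ) ≤ q := by exact_mod_cast hq4
  rcases (by omega : Fintype.card ι = 0 ∨ Fintype.card ι = 1 ∨ Fintype.card ι = 2) with h | h | h
  · haveI := Fintype.card_eq_zero_iff.mp h
    rw [Finset.univ_eq_empty, Finset.sum_empty] at hsum
    linarith
  · obtain ⟨i, hi⟩ := Fintype.card_eq_one_iff.mp h
    rw [Finset.sum_eq_single i (fun j _ hj => absurd (hi j) hj) (by simp)] at hsum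
    exfalso
    have hd := hdvd i
    rcases hw i with h | h <;> rw [h] at hsum <;> push_cast at hsum
    · have ht : t i = q + 1 := by exact_mod_cast (show (t i : ℚ) = q + 1 by linarith)
      rw [ht] at hd
      have h2 : q + 1 ∣ 2 := by
        have e : (q + 1) * (q + 1) = q ^ 2 + 1 + 2 * q := by ring
        have h4 : q + 1 ∣ 2 * q := (Nat.dvd_add_right hd).mp (e ▸ dvd_mul_right _ _)
        exact (Nat.dvd_add_right h4).mp (by rw [show 2 * q + 2 = (q + 1) * 2 by ring]; exact dvd_mul_right _ _)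
      have := Nat.le_of_dvd two_pos h2
      omega
    · have ht : t i = 2 * q + 1 := by exact_mod_cast (show (t i : ℚ) = 2 * q + 1 by linarith)
      rw [ht] at hd
      have h5' : 2 * q + 1 ∣ 5 := by
        have e : (2 * q + 1) * (2 * q + 1) + 4 = 4 * (q ^ 2 + 1) + (4 * q + 1) := by ring
        have h6 : ((2 * q + 1 : ℕ) : ℤ) ∣ ((4 * (q ^ 2 + 1) : ℕ) : ℤ) :=
          Int.natCast_dvd_natCast.mpr (hd.mul_left 4)
        refine Int.natCast_dvd_natCast.mp ?_
        push_cast at h6 ⊢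
        have e2 : (5 : ℤ) = 4 * ((q : ℤ) ^ 2 + 1) - (2 * q + 1) * (2 * q - 1) := by ring
        rw [e2]
        exact dvd_sub h6 (dvd_mul_right _ _)
      have := Nat.le_of_dvd (by norm_num) h5'
      omega
  obtain ⟨i, j, hij, huniv⟩ : ∃ i j, i ≠ j ∧ (Finset.univ : Finset ι) = {i, j} :=
    Finset.card_eq_two.mp (by rw [Finset.card_univ, h])
  rw [huniv, Finset.sum_pair hij] at hsum hbound
  have hwi : w i = 4 ∧ w j = 4 := by
    have a := hterm i
    have b := hterm j
    constructor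
    · refine (hw i).resolve_left fun h => ?_
      have := a.2 h; linarith [b.1]
    · refine (hw j).resolve_left fun h => ?_
      have := b.2 h; linarith [a.1]
  rw [hwi.1, hwi.2] at hsum
  push_cast at hsum
  have hs : t i + t j = 2 * q + 2 := by exact_mod_cast (show (t i : ℚ) + t j = 2 * q + 2 by linarith)
  obtain ⟨L, hL⟩ := (hcop i j hij).mul_dvd_of_dvd_of_dvd (hdvd i) (hdvd j)
  have key : ∀ a b : ι, w a = 4 → t a + t b = 2 * q + 2 → q ^ 2 + 1 = t a * t b * L → (t a : ℤ) ∣ (L : ℤ) - 1 := by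
    intro a b ha hab hLab
    have hm := hM a
    rw [ha, hLab] at hm
    have hm' : M a * 4 = t b * L * q ^ 2 * (q - 1) := by
      refine Nat.eq_of_mul_eq_mul_left (by have := h3 a; omega : 0 < t a) ?_
      linarith [hm]
    have hmz : (M a : ℤ) * 4 = (t b : ℤ) * L * (q : ℤ) ^ 2 * ((q : ℤ) - 1) := by
      have h' : ((M a * 4 : ℕ) : ℤ) = ((t b * L * q ^ 2 * (q - 1) : ℕ) : ℤ) := by rw [hm']
      push_cast [Nat.cast_sub (by omega : 1 ≤ q)] at h'
      exact h'
    have hb : (t b : ℤ) = 2 * q + 2 - t a := by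
      have : ((t a + t b : ℕ) : ℤ) = ((2 * q + 2 : ℕ) : ℤ) := by rw [hab]
      push_cast at this
      linarith
    obtain ⟨c, hc⟩ := hcong a
    have hp : (q : ℤ) ^ 2 + 1 = t a * t b * L := by
      have : ((q ^ 2 + 1 : ℕ) : ℤ) = ((t a * t b * L : ℕ) : ℤ) := by rw [hLab]
      push_cast at this
      exact this
    have h4 : (t a : ℤ) ∣ 4 * ((L : ℤ) - 1) := ⟨4 * c - (t b : ℤ) ^ 2 * (L : ℤ) ^ 2 * ((q : ℤ) - 1) +
        2 * (t b : ℤ) * L ^ 2 - (L : ℤ) * ((q : ℤ) - 1), by
      linear_combination 4 * hc - hmz + (2 * (L : ℤ) - (L : ℤ) * ((q : ℤ) - 1) * (t b : ℤ)) * hp +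
        ((L : ℤ) * ((q : ℤ) - 1)) * hb⟩
    have hcp : IsCoprime (t a : ℤ) (4 : ℤ) := by
      refine Int.isCoprime_iff_nat_coprime.mpr ?_
      simp only [Int.natAbs_natCast]
      rw [show (4 : ℤ).natAbs = 2 ^ 2 by rfl]
      exact Nat.Coprime.pow_right _ (Nat.coprime_two_right.mpr (hodd a))
    exact hcp.dvd_of_dvd_mul_left h4
  have hd1 := key i j hwi.1 hs hL
  have hd2 := key j i hwi.2 (by omega) (by rw [hL]; ring)
  have hdP : ((t i * t j : ℕ) : ℤ) ∣ (L : ℤ) - 1 := by
    push_cast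
    exact (Int.isCoprime_iff_nat_coprime.mpr (by simpa using hcop i j hij)).mul_dvd hd1 hd2
  have hL0 : L ≠ 0 := fun e => by rw [e, mul_zero] at hL; omega
  have hL1 : L = 1 := by
    by_contra hne
    have hle : ((t i * t j : ℕ) : ℤ) ≤ (L : ℤ) - 1 := Int.le_of_dvd (by omega) hdP
    have hlo : 10 * q ≤ t i * t j + 15 := by
      have := h5 i hwi.1
      have := h5 j hwi.2
      nlinarith [Nat.mul_le_mul (h5 i hwi.1) (h5 j hwi.2)]
    have h7 : t i * t j + 1 ≤ L := by omega
    have h8 : t i * t j * (t i * t j + 1) ≤ q ^ 2 + 1 := hL ▸ Nat.mul_le_mul_left _ h7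
    nlinarith
  rw [hL1, mul_one] at hL
  exact ⟨i, j, hwi.1, hwi.2, hs, hL.symm⟩

variable {G : Type u} [Group G] [Fintype G] {Ω : Type v} [MulAction G Ω] [Fintype Ω]
variable {a b : Ω} {H : Subgroup G} (S : ZassSuz.Suz a b H)
include S

theorem torus_pair_normalizer {n : ℕ} (hn : Nat.card (two (G := G) a b) + 1 = 2 ^ n) :
    ∃ T T' : Subgroup G, IsTorus Ω T ∧ IsTorus Ω T' ∧
      Nat.card (Subgroup.normalizer (T : Set G)) = Nat.card T * 4 ∧
      Nat.card (Subgroup.normalizer (T' : Set G)) = Nat.card T' * 4 ∧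
      Nat.card T + Nat.card T' = 2 * 2 ^ n + 2 ∧ Nat.card T * Nat.card T' = (2 ^ n) ^ 2 + 1 := by
  set e := Nat.card (two (G := G) a b) with he
  obtain ⟨n', hn', hn''⟩ := S.exists_pow
  rw [← he, hn] at hn''
  have hnn : n' = n := (Nat.pow_right_injective le_rfl hn'').symm
  rw [hnn] at hn'
  let Tor := {T : Subgroup G // IsTorus Ω T}
  haveI : Fintype Tor := Fintype.ofFinite Tor
  letI : MulAction G Tor :=
    { smul := fun y T => ⟨T.1.map (MulAut.conj y).toMonoidHom, T.2.map_conj y⟩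
      one_smul := fun T => Subtype.ext (by
        show T.1.map (MulAut.conj (1 : G)).toMonoidHom = T.1
        ext z; simp)
      mul_smul := fun y z T => Subtype.ext (by
        show T.1.map (MulAut.conj (y * z)).toMonoidHom =
          (T.1.map (MulAut.conj z).toMonoidHom).map (MulAut.conj y).toMonoidHom
        rw [Subgroup.map_map, map_mul]; rfl) }
  have hsmul : ∀ (y : G) (T : Tor), (y • T).1 = T.1.map (MulAut.conj y).toMonoidHom := fun _ _ => rfl
  have hmem : ∀ (y : G) (T : Tor) (z : G), z ∈ (y • T).1 ↔ y⁻¹ * z * y ∈ T.1 := by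
    intro y T z
    rw [hsmul]
    simp only [Subgroup.mem_map, MulEquiv.toMonoidHom_eq_coe, MonoidHom.coe_coe, MulAut.conj_apply]
    exact ⟨fun ⟨w, hw, h⟩ => by rw [← h]; simpa [mul_assoc] using hw, fun h => ⟨_, h, by group⟩⟩
  have hstab : ∀ T : Tor, stabilizer G T = Subgroup.normalizer (T.1 : Set G) := by
    intro T
    ext y
    rw [mem_stabilizer_iff, Subgroup.mem_normalizer_iff]
    constructor
    · intro h z
      have h' := hmem y T (y * z * y⁻¹)
      rw [h, show y⁻¹ * (y * z * y⁻¹) * y = z by group] at h'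
      exact h'.symm
    · intro h
      refine Subtype.ext (Subgroup.ext fun z => ?_)
      rw [hmem, h]
      group
  have hconst : ∀ (y : G) (T : Tor), Nat.card (y • T).1 = Nat.card T.1 := fun y T => by
    rw [hsmul, Subgroup.card_map_of_injective (MulAut.conj y).injective]
  let R := Quotient (orbitRel G Tor)
  haveI : Fintype R := Fintype.ofFinite R
  choose w hw hwd hwN using fun T : Tor => S.normalizer_card T.2
  let M : R → ℕ := fun r => Nat.card (orbit G r.out)
  have hM : ∀ r : R, M r * (Nat.card r.out.1 * w r.out) = Nat.card G := by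
    intro r
    rw [← hwN, ← hstab, show M r = _ from Nat.card_coe_set_eq _, ← MulAction.index_stabilizer, Subgroup.index_mul_card]
  have hGcard : Nat.card G = ((e + 1) ^ 2 + 1) * (e + 1) ^ 2 * e := by
    rw [S.toData.card_group, S.card_sq, ← he, mul_assoc]
  have hsumT : ∀ f : ℕ → ℕ, ∑ T : Tor, f (Nat.card T.1) = ∑ r : R, M r * f (Nat.card r.out.1) := by
    intro f
    have hmaps : ∀ T ∈ (Finset.univ : Finset Tor), (Quotient.mk _ T : R) ∈ (Finset.univ : Finset R) :=
      fun _ _ => Finset.mem_univ _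
    rw [← Finset.sum_fiberwise_of_maps_to hmaps]
    refine Finset.sum_congr rfl fun r _ => ?_
    have hfib : (Finset.univ.filter fun T : Tor => (Quotient.mk _ T : R) = r) =
        Finset.univ.filter fun T : Tor => T ∈ orbit G r.out := by
      refine Finset.filter_congr fun T _ => ?_
      rw [← orbitRel_apply]
      exact ⟨fun h => Quotient.exact (h.trans r.out_eq.symm),
        fun h => (Quotient.sound h).trans r.out_eq⟩
    rw [Finset.sum_const_nat (m := f (Nat.card r.out.1)), hfib, ← Fintype.card_subtype,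
      ← Nat.card_eq_fintype_card]
    intro T hT
    rw [hfib] at hT
    obtain ⟨y, hy⟩ := (Finset.mem_filter.mp hT).2
    rw [← hy, hconst]
  let E : {g : G // IsTorusElt Ω g} ≃ Σ T : Tor, {τ : T.1 // τ ≠ 1} :=
    { toFun := fun g => ⟨⟨_, ⟨g.1, g.2, rfl⟩⟩, ⟨g.1, Subgroup.mem_centralizer_singleton_iff.mpr rfl⟩,
        fun h => g.2.1 a (by rw [show g.1 = 1 from congrArg Subtype.val h, one_smul])⟩
      invFun := fun p => ⟨p.2.1, S.torus_elt p.1.2 p.2.1.2 fun h => p.2.2 (Subtype.ext h)⟩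
      left_inv := fun g => rfl
      right_inv := fun ⟨⟨T, hT⟩, ⟨⟨τ, hτ⟩, hτ1⟩⟩ => by
        obtain rfl := S.torus_cent hT hτ fun h => hτ1 (Subtype.ext h)
        rfl }
  have hpunct : ∀ T : Tor, Fintype.card {τ : T.1 // τ ≠ 1} = Nat.card T.1 - 1 := fun T => by
    rw [Fintype.card_subtype_compl, Fintype.card_subtype_eq, ← Nat.card_eq_fintype_card]
  have hS : 2 * ∑ r : R, M r * ((Nat.card r.out.1 - 1) * Nat.card r.out.1) = Nat.card G * (e + 1) := by
    rw [← hsumT fun t => (t - 1) * t, ← S.sum_torus_elt]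
    congr 1
    rw [Finset.sum_subtype (p := fun g => IsTorusElt Ω g) (Finset.univ.filter fun g : G => IsTorusElt Ω g)
      (fun g => by simp), Fintype.sum_equiv E (fun g => Nat.card (Subgroup.centralizer ({(g : G)} : Set G)))
      (fun p => Nat.card p.1.1) (fun g => rfl), Fintype.sum_sigma]
    refine Finset.sum_congr rfl fun T _ => ?_
    dsimp only
    rw [Finset.sum_const, Finset.card_univ, hpunct, smul_eq_mul]
  have hF : 2 * (∑ r : R, M r * (Nat.card r.out.1 - 1)) < Nat.card G := by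
    have h1 : ∑ r : R, M r * (Nat.card r.out.1 - 1) = Nat.card {g : G // IsTorusElt Ω g} := by
      rw [← hsumT fun t => t - 1, Nat.card_congr E, Nat.card_sigma]
      exact Finset.sum_congr rfl fun T _ => by rw [Nat.card_eq_fintype_card (α := {τ : T.1 // τ ≠ 1}), hpunct]
    have h2 : Nat.card {g : G // IsTorusElt Ω g} ≤ Nat.card {g : G // ∀ c : Ω, g • c ≠ c} :=
      Nat.card_le_card_of_injective (fun g => ⟨g.1, g.2.1⟩) fun g g' h => Subtype.ext (congrArg Subtype.val h :)
    have h3 := S.toData.two_mul_card_fpf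
    have h4 : 0 < Nat.card H * (Nat.card H - 1) := by
      have := S.toData.two_le_h
      exact Nat.mul_pos (by omega) (by omega)
    omega
  have ht3 : ∀ r : R, 3 ≤ Nat.card r.out.1 := fun r => S.torus_three r.out.2
  have hGpos : (0 : ℚ) < Nat.card G := by exact_mod_cast Nat.card_pos
  have hMq : ∀ r : R, (M r : ℚ) * ((Nat.card r.out.1 : ℚ) * w r.out) = Nat.card G := fun r => by
    exact_mod_cast hM r
  have hne : ∀ r : R, (Nat.card r.out.1 : ℚ) ≠ 0 ∧ (w r.out : ℚ) ≠ 0 := fun r => by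
    have := ht3 r
    rcases hw r.out with h | h <;> exact ⟨Nat.cast_ne_zero.mpr (by omega), by rw [h]; norm_num⟩
  suffices h : ∃ i j : R, w i.out = 4 ∧ w j.out = 4 ∧ Nat.card i.out.1 + Nat.card j.out.1 = 2 * (e + 1) + 2 ∧
      Nat.card i.out.1 * Nat.card j.out.1 = (e + 1) ^ 2 + 1 by
    obtain ⟨i, j, hi, hj, h1, h2⟩ := h
    rw [hn] at h1 h2
    exact ⟨i.out.1, j.out.1, i.out.2, j.out.2, by rw [hwN, hi], by rw [hwN, hj], h1, h2⟩
  refine torus_pair_arith (ι := R) n (e + 1) hn' hn (fun r => Nat.card r.out.1) (fun r => w r.out) M ht3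
    (fun r => S.torus_odd r.out.2) (fun r => hw r.out) (fun r => hwd r.out)
    (fun r => by rw [← S.card_sq]; exact S.torus_dvd r.out.2) ?_
    (fun r => by rw [Nat.add_sub_cancel, hM, hGcard]) ?_ ?_ ?_
  · intro r r' hrr
    refine S.torus_coprime r.out.2 r'.out.2 fun y h => hrr ?_
    rw [← r.out_eq, ← r'.out_eq]
    exact (Quotient.sound (orbitRel_apply.mpr ⟨y, Subtype.ext h⟩)).symm
  · intro r
    set T : Tor := r.out with hT
    letI : MulAction T.1 {T' : orbit G T // T'.1 ≠ T} :=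
      { smul := fun τ T' => ⟨(τ : G) • T'.1, fun e => T'.2 (by
            have h1 : (τ : G) • T'.1.1 = T := e
            have h2 : (τ : G) • T = T := mem_stabilizer_iff.mp ((hstab T) ▸ Subgroup.le_normalizer τ.2)
            exact (smul_left_cancel_iff (τ : G)).mp (h1.trans h2.symm))⟩
        one_smul := fun T' => Subtype.ext (one_smul G T'.1)
        mul_smul := fun σ τ T' => Subtype.ext (mul_smul (σ : G) (τ : G) T'.1) }
    have hfree : ∀ (τ : T.1) (T' : {T' : orbit G T // T'.1 ≠ T}), τ • T' = T' → τ = 1 := by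
      intro τ T' h
      by_contra hτ1
      have hτ0 : (τ : G) ≠ 1 := fun e => hτ1 (Subtype.ext e)
      have h' : (τ : G) • T'.1.1 = T'.1.1 :=
        congrArg (fun z : {T' : orbit G T // T'.1 ≠ T} => z.1.1) h
      have hτN : (τ : G) ∈ Subgroup.normalizer (T'.1.1.1 : Set G) := hstab T'.1.1 ▸ mem_stabilizer_iff.mpr h'
      haveI : (T'.1.1.1.subgroupOf (Subgroup.normalizer (T'.1.1.1 : Set G))).Normal := by
        exact Subgroup.normal_in_normalizer
      have hidx : (T'.1.1.1.subgroupOf (Subgroup.normalizer (T'.1.1.1 : Set G))).index = w T'.1.1 := by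
        refine Nat.eq_of_mul_eq_mul_left (Nat.card_pos (α := T'.1.1.1)) ?_
        rw [← hwN, ← Nat.card_congr (Subgroup.subgroupOfEquivOfLe Subgroup.le_normalizer).toEquiv,
          Subgroup.card_mul_index]
      have hpow := Subgroup.pow_index_mem (T'.1.1.1.subgroupOf (Subgroup.normalizer (T'.1.1.1 : Set G)))
        (⟨(τ : G), hτN⟩ : Subgroup.normalizer (T'.1.1.1 : Set G))
      rw [hidx, Subgroup.mem_subgroupOf, Subgroup.coe_pow] at hpow
      change (τ : G) ^ w T'.1.1 ∈ T'.1.1.1 at hpow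
      have hcop : (orderOf (τ : G)).Coprime (w T'.1.1) := by
        have hodd : Odd (orderOf (τ : G)) := S.fpf_odd (S.torus_fpf T.2 τ.2 hτ0)
        rcases hw T'.1.1 with h | h <;> rw [h]
        · exact Nat.coprime_two_right.mpr hodd
        · rw [show 4 = 2 ^ 2 by rfl]; exact Nat.Coprime.pow_right _ (Nat.coprime_two_right.mpr hodd)
      obtain ⟨m, hm⟩ := exists_pow_eq_self_of_coprime hcop.symm
      have hτT' : (τ : G) ∈ T'.1.1.1 := hm ▸ pow_mem hpow m
      refine T'.2 (Subtype.ext ?_)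
      rw [← S.torus_cent T'.1.1.2 hτT' hτ0, S.torus_cent T.2 τ.2 hτ0]
    have h := Cfsg.Agent.ZassAb.card_dvd_of_free hfree
    have hcard : Nat.card {T' : orbit G T // T'.1 ≠ T} + 1 = M r := by
      haveI := Fintype.ofFinite (orbit G T)
      have e : Nat.card {T' : orbit G T // T'.1 ≠ T} =
          Nat.card {T' : orbit G T // T' ≠ ⟨T, mem_orbit_self T⟩} :=
        Nat.card_congr (Equiv.subtypeEquivRight fun T' =>
          ⟨fun h e' => h (congrArg Subtype.val e'), fun h e' => h (Subtype.ext e')⟩)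
      rw [e, Nat.card_eq_fintype_card, Fintype.card_subtype_compl, Fintype.card_subtype_eq,
        show M r = Fintype.card (orbit G T) from Nat.card_eq_fintype_card]
      exact Nat.sub_add_cancel (Fintype.card_pos_iff.mpr ⟨⟨T, mem_orbit_self T⟩⟩)
    rw [← hcard]
    push_cast
    rw [add_sub_cancel_right]
    exact_mod_cast h
  · have h := congrArg (Nat.cast : ℕ → ℚ) hS
    push_cast at h
    have hterm : ∀ r : R, ((M r : ℚ) * (((Nat.card r.out.1 - 1 : ℕ) : ℚ) * Nat.card r.out.1)) =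
        (Nat.card G : ℚ) * (((Nat.card r.out.1 : ℚ) - 1) / w r.out) := fun r => by
      obtain ⟨-, h2⟩ := hne r
      rw [← hMq r, Nat.cast_sub (by have := ht3 r; omega : 1 ≤ Nat.card r.out.1)]
      field_simp
      push_cast
      ring
    rw [Finset.sum_congr rfl fun r _ => hterm r, ← Finset.mul_sum] at h
    refine mul_left_cancel₀ hGpos.ne' ?_
    push_cast
    linarith
  · have h : ((2 * ∑ r : R, M r * (Nat.card r.out.1 - 1) : ℕ) : ℚ) < (Nat.card G : ℚ) := by
      exact_mod_cast hF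
    push_cast at h
    have hterm : ∀ r : R, (M r : ℚ) * ((Nat.card r.out.1 - 1 : ℕ) : ℚ) =
        (Nat.card G : ℚ) * (((Nat.card r.out.1 : ℚ) - 1) / ((Nat.card r.out.1 : ℚ) * w r.out)) := fun r => by
      obtain ⟨h1, h2⟩ := hne r
      rw [← hMq r, Nat.cast_sub (by have := ht3 r; omega : 1 ≤ Nat.card r.out.1)]
      field_simp
      push_cast
      ring
    rw [Finset.sum_congr rfl fun r _ => hterm r, ← Finset.mul_sum] at h
    refine lt_of_mul_lt_mul_left ?_ hGpos.le
    linarith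

theorem torus_pair {n : ℕ} (hn : Nat.card (two (G := G) a b) + 1 = 2 ^ n) :
    ∃ T T' : Subgroup G, IsTorus Ω T ∧ IsTorus Ω T' ∧
      Nat.card T + Nat.card T' = 2 * 2 ^ n + 2 ∧ Nat.card T * Nat.card T' = (2 ^ n) ^ 2 + 1 := by
  obtain ⟨T, T', h, h', -, -, h1, h2⟩ := torus_pair_normalizer S hn
  exact ⟨T, T', h, h', h1, h2⟩

end Cfsg.Agent.SzSmall
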