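import Mathlib.Init
import Mathlib.Data.Nat.Notation

/-! Tables of the fields with 8 and 32 elements and derivations of the structure function. -/

set_option autoImplicit false
set_option maxRecDepth 100000

namespace Cfsg.Agent.SzSmall.Data

/-- Multiplication rows of the field with 8 elements. -/
def rows3 : List ℕ := [
  0x0,
  0x706050403020100,
  0x507010306040200,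
  0x201040705060300,
  0x105020607030400,
  0x603070204010500,
  0x402030501070600,
  0x304060102050700]

/-- Inverses in the field with 8 elements. -/
def invs3 : List ℕ := [
  0, 1, 5, 6, 7, 2, 3, 4]

/-- Multiplication rows of the field with 32 elements. -/
def rows5 : List ℕ := [
  0x0,
  0x1f1e1d1c1b1a191817161514131211100f0e0d0c0b0a09080706050403020100,
  0x1b191f1d131117150b090f0d030107051e1c1a18161412100e0c0a0806040200,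
  0x4070201080b0e0d1c1f1a1910131615111217141d1e1b18090a0f0c05060300,
  0x13171b1f03070b0f16121e1a06020e0a191d1115090d01051c1814100c080400,
  0xc090603181d121701040b0e15101f1a16131c190207080d1b1e11140f0a0500,
  0x80e040210161c1a1d1b11170503090f07010b0d1f19131512141e180a0c0600,
  0x1710191e0b0c05020a0d04031611181f080f060114131a1d15121b1c090e0700,
  0x30b131b060e161e090119110c041c14171f070f121a020a1d150d0518100800,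
  0x1c150e071d140f061e170c051f160d0418110a0319100b021a1308011b120900,
  0x18120c06151f010b0208161c0f051b1109031d17040e101a1319070d1e140a00,
  0x70c111a0e051813151e03081c170a01060d101b0f041912141f02091d160b00,
  0x101c080405091d111f13070b0a06121e0e02161a1b17030f010d191514180c00,
  0xf0215181e1304090805121f1914030e010c1b16101d0a07060b1c11171a0d00,
  0xb05171916180a04141a08060907151b101e0c020d03111f0f01131d121c0e00,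
  0x141b0a050d02131c030c1d121a15040b1f10010e0609181708071619111e0f00,
  0x61603130c1c09191202170718081d0d0b1b0e1e011104141f0f1a0a15051000,
  0x19081e0f17061001051402130b1a0c1d041503120a1b0d1c18091f0e16071100,
  0x1d0f1c0e1f0d1e0c190b180a1b091a0815071406170516041103100213011200,
  0x2110112041707140e1d0d1e081b0b181a09190a1c0f1f0c1605150610031300,
  0x1501180c0f1b02160410091d1e0a130712061f0b081c051103170e1a190d1400,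
  0xa1f051014011b0e13061c090d1802171d08120703160c1904110b1e1a0f1500,
  0xe1807111c0a15030f1906101d0b14020c1a05131e0817010d1b04121f091600,
  0x11061a0d07100c1b180f13040e1905120314081f15021e090a1d01161c0b1700,
  0x51d10080a121f071b030e16140c01191c040911130b061e021a170f0d151800,
  0x1a030d141108061f0c151b02071e1009130a041d18010f16051c120b0e171900,
  0x1e040f1519030812100a011b170d061c02181309051f140e0c161d070b111a00,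
  0x11a12090219110a071c140f041f170c0d161e050e151d060b10180308131b00,
  0x160a0b17091514080d11100c120e0f13051918041a06071b1e02031f011d1c00,
  0x914160b120f0d101a070518011c1e030a171508110c0e131904061b021f1d00,
  0xd13140a1a04031d06181f01110f08161b05021c0c12150b100e091707191e00,
  0x120d0916011e1a05110e0a15021d1906140b0f1007181c0317080c13041b1f00]

/-- Inverses in the field with 32 elements. -/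
def invs5 : List ℕ := [
  0, 1, 18, 28, 9, 23, 14, 12, 22, 4, 25, 16, 7, 15, 6, 13,
  11, 24, 2, 29, 30, 26, 8, 5, 17, 10, 21, 31, 3, 19, 20, 27]

/-- Refutations, first coordinate 0. -/
def case3_2_0 : List (List (ℕ × ℕ × ℕ × ℕ) × (ℕ × ℕ × ℕ)) := [
  ([], (0, 0, 0)),
  ([], (0, 0, 0)),
  ([(1, 0, 0, 0), (0, 1, 6, 0)], (0, 2, 0)),
  ([(1, 0, 0, 0), (0, 1, 7, 0)], (0, 2, 0)),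
  ([(1, 0, 0, 0), (0, 1, 2, 0)], (0, 2, 0)),
  ([(1, 0, 0, 0), (0, 1, 3, 0)], (0, 2, 0)),
  ([(1, 0, 0, 0), (0, 1, 4, 0)], (0, 2, 0)),
  ([(1, 0, 0, 0), (0, 1, 5, 0)], (0, 2, 0))]

/-- Refutations, first coordinate 1. -/
def case3_2_1 : List (List (ℕ × ℕ × ℕ × ℕ) × (ℕ × ℕ × ℕ)) := [
  ([], (0, 0, 0)),
  ([(1, 0, 0, 0), (3, 0, 0, 1), (0, 1, 5, 0), (0, 2, 4, 0), (3, 1, 3, 4), (0, 1, 6, 0), (0, 5, 7, 0), (3, 1, 6, 7), (0, 1, 7, 0), (0, 2, 6, 0), (3, 1, 9, 10), (0, 2, 3, 0), (0, 8, 2, 0), (3, 1, 12, 13), (0, 14, 4, 0)], (0, 15, 11)),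
  ([(1, 0, 0, 0), (0, 1, 2, 0), (0, 1, 3, 0), (3, 0, 2, 3), (0, 4, 3, 0)], (0, 5, 0)),
  ([(1, 0, 0, 0), (3, 0, 0, 1), (0, 1, 4, 0), (0, 2, 5, 0), (3, 0, 3, 4), (0, 5, 5, 0)], (0, 6, 0)),
  ([(1, 0, 0, 0), (0, 1, 4, 0), (0, 1, 5, 0), (3, 0, 2, 3), (0, 4, 5, 0)], (0, 5, 0)),
  ([(1, 0, 0, 0), (0, 1, 3, 0), (0, 1, 2, 0), (3, 0, 2, 3), (0, 4, 2, 0)], (0, 5, 0)),
  ([(1, 0, 0, 0), (3, 0, 0, 1), (0, 1, 3, 0), (0, 2, 2, 0), (3, 0, 3, 4), (0, 5, 2, 0)], (0, 6, 0)),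
  ([(1, 0, 0, 0), (3, 0, 0, 1), (0, 1, 2, 0), (0, 2, 3, 0), (3, 0, 3, 4), (0, 5, 3, 0)], (0, 6, 0))]

/-- Refutations, first coordinate 2. -/
def case3_2_2 : List (List (ℕ × ℕ × ℕ × ℕ) × (ℕ × ℕ × ℕ)) := [
  ([(1, 0, 0, 0), (0, 1, 5, 0), (0, 0, 2, 0), (0, 2, 2, 0), (3, 0, 3, 4), (0, 0, 4, 0), (0, 5, 4, 0), (3, 2, 6, 7), (0, 8, 7, 0), (0, 0, 6, 0), (0, 9, 4, 0), (3, 2, 10, 11), (0, 12, 4, 0)], (0, 13, 5)),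
  ([(1, 0, 0, 0), (0, 1, 5, 0), (0, 2, 3, 0), (3, 0, 3, 2), (0, 4, 5, 0)], (0, 5, 0)),
  ([(1, 0, 0, 0), (0, 1, 5, 0), (0, 0, 2, 0), (0, 2, 2, 0), (3, 0, 3, 4), (0, 2, 3, 0), (3, 0, 6, 5), (0, 7, 5, 0)], (0, 8, 0)),
  ([(1, 0, 0, 0), (0, 1, 5, 0), (0, 2, 3, 0), (3, 0, 2, 3), (0, 4, 4, 0)], (0, 5, 0)),
  ([(1, 0, 0, 0), (0, 1, 5, 0), (0, 0, 2, 0), (0, 2, 2, 0), (3, 0, 3, 4), (0, 2, 6, 0), (0, 5, 4, 0), (3, 0, 6, 7), (0, 8, 2, 0)], (0, 9, 0)),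
  ([(1, 0, 0, 0), (0, 1, 5, 0), (0, 0, 2, 0), (0, 2, 2, 0), (3, 0, 3, 4), (0, 5, 3, 0), (3, 0, 2, 6), (0, 7, 4, 0)], (0, 8, 0)),
  ([(1, 0, 0, 0), (0, 1, 5, 0), (0, 2, 6, 0), (0, 2, 4, 0), (3, 0, 3, 4), (0, 5, 2, 0)], (0, 6, 0)),
  ([(1, 0, 0, 0), (0, 1, 5, 0), (0, 0, 2, 0), (0, 2, 2, 0), (3, 0, 3, 4), (0, 0, 4, 0), (0, 5, 4, 0), (3, 2, 6, 7), (0, 8, 7, 0)], (0, 9, 5))]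

/-- Refutations, first coordinate 3. -/
def case3_2_3 : List (List (ℕ × ℕ × ℕ × ℕ) × (ℕ × ℕ × ℕ)) := [
  ([(1, 0, 0, 0), (0, 1, 6, 0), (0, 0, 3, 0), (0, 2, 3, 0), (3, 0, 3, 4), (0, 0, 5, 0), (0, 5, 5, 0), (3, 2, 6, 7), (0, 8, 4, 0)], (0, 9, 5)),
  ([(1, 0, 0, 0), (0, 1, 6, 0), (0, 0, 3, 0), (0, 2, 3, 0), (3, 0, 3, 4), (0, 5, 2, 0), (3, 0, 2, 6), (0, 7, 7, 0)], (0, 8, 0)),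
  ([(1, 0, 0, 0), (0, 1, 6, 0), (0, 0, 3, 0), (0, 2, 3, 0), (3, 0, 3, 4), (0, 0, 5, 0), (0, 5, 5, 0), (3, 2, 6, 7), (0, 8, 4, 0), (0, 2, 4, 0), (3, 2, 10, 5)], (0, 11, 9)),
  ([(1, 0, 0, 0), (0, 1, 6, 0), (0, 0, 3, 0), (0, 2, 3, 0), (3, 0, 3, 4), (0, 2, 2, 0), (3, 0, 6, 5), (0, 7, 6, 0)], (0, 8, 0)),
  ([(1, 0, 0, 0), (0, 1, 6, 0), (0, 0, 3, 0), (0, 2, 3, 0), (3, 0, 3, 4), (0, 2, 4, 0), (0, 5, 7, 0), (3, 0, 6, 7), (0, 8, 4, 0)], (0, 9, 0)),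
  ([(1, 0, 0, 0), (0, 1, 6, 0), (0, 2, 4, 0), (0, 2, 7, 0), (3, 0, 3, 4), (0, 5, 4, 0)], (0, 6, 0)),
  ([(1, 0, 0, 0), (0, 1, 6, 0), (0, 2, 2, 0), (3, 0, 3, 2), (0, 4, 6, 0)], (0, 5, 0)),
  ([(1, 0, 0, 0), (0, 1, 6, 0), (0, 2, 2, 0), (3, 0, 2, 3), (0, 4, 7, 0)], (0, 5, 0))]

/-- Refutations, first coordinate 4. -/
def case3_2_4 : List (List (ℕ × ℕ × ℕ × ℕ) × (ℕ × ℕ × ℕ)) := [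
  ([(1, 0, 0, 0), (0, 1, 7, 0), (0, 0, 4, 0), (0, 2, 4, 0), (3, 0, 3, 4), (0, 0, 6, 0), (0, 5, 6, 0), (3, 2, 6, 7), (0, 8, 3, 0), (0, 2, 7, 0), (3, 2, 10, 5)], (0, 11, 9)),
  ([(1, 0, 0, 0), (0, 1, 7, 0), (0, 2, 5, 0), (3, 0, 3, 2), (0, 4, 7, 0)], (0, 5, 0)),
  ([(1, 0, 0, 0), (0, 1, 7, 0), (0, 2, 2, 0), (0, 2, 6, 0), (3, 0, 3, 4), (0, 5, 4, 0)], (0, 6, 0)),
  ([(1, 0, 0, 0), (0, 1, 7, 0), (0, 0, 4, 0), (0, 2, 4, 0), (3, 0, 3, 4), (0, 0, 6, 0), (0, 5, 6, 0), (3, 2, 6, 7), (0, 8, 3, 0)], (0, 9, 5)),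
  ([(1, 0, 0, 0), (0, 1, 7, 0), (0, 0, 4, 0), (0, 2, 4, 0), (3, 0, 3, 4), (0, 2, 5, 0), (3, 0, 6, 5), (0, 7, 7, 0)], (0, 8, 0)),
  ([(1, 0, 0, 0), (0, 1, 7, 0), (0, 2, 5, 0), (3, 0, 2, 3), (0, 4, 6, 0)], (0, 5, 0)),
  ([(1, 0, 0, 0), (0, 1, 7, 0), (0, 0, 4, 0), (0, 2, 4, 0), (3, 0, 3, 4), (0, 2, 2, 0), (0, 5, 6, 0), (3, 0, 6, 7), (0, 8, 4, 0)], (0, 9, 0)),
  ([(1, 0, 0, 0), (0, 1, 7, 0), (0, 0, 4, 0), (0, 2, 4, 0), (3, 0, 3, 4), (0, 5, 5, 0), (3, 0, 2, 6), (0, 7, 6, 0)], (0, 8, 0))]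

/-- Refutations, first coordinate 5. -/
def case3_2_5 : List (List (ℕ × ℕ × ℕ × ℕ) × (ℕ × ℕ × ℕ)) := [
  ([(1, 0, 0, 0), (0, 1, 2, 0), (0, 0, 5, 0), (0, 2, 5, 0), (3, 0, 3, 4), (0, 0, 7, 0), (0, 5, 7, 0), (3, 2, 6, 7), (0, 8, 6, 0)], (0, 9, 5)),
  ([(1, 0, 0, 0), (0, 1, 2, 0), (0, 0, 5, 0), (0, 2, 5, 0), (3, 0, 3, 4), (0, 5, 4, 0), (3, 0, 2, 6), (0, 7, 3, 0)], (0, 8, 0)),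
  ([(1, 0, 0, 0), (0, 1, 2, 0), (0, 0, 5, 0), (0, 2, 5, 0), (3, 0, 3, 4), (0, 2, 3, 0), (0, 5, 6, 0), (3, 0, 6, 7), (0, 8, 7, 0)], (0, 9, 0)),
  ([(1, 0, 0, 0), (0, 1, 2, 0), (0, 2, 4, 0), (3, 0, 2, 3), (0, 4, 3, 0)], (0, 5, 0)),
  ([(1, 0, 0, 0), (0, 1, 2, 0), (0, 0, 5, 0), (0, 2, 5, 0), (3, 0, 3, 4), (0, 0, 7, 0), (0, 5, 7, 0), (3, 2, 6, 7), (0, 8, 6, 0), (0, 2, 6, 0), (3, 2, 10, 5)], (0, 11, 9)),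
  ([(1, 0, 0, 0), (0, 1, 2, 0), (0, 2, 3, 0), (0, 2, 6, 0), (3, 0, 3, 4), (0, 5, 7, 0)], (0, 6, 0)),
  ([(1, 0, 0, 0), (0, 1, 2, 0), (0, 2, 2, 0), (0, 2, 7, 0), (3, 0, 3, 4), (0, 5, 5, 0)], (0, 6, 0)),
  ([(1, 0, 0, 0), (0, 1, 2, 0), (0, 0, 5, 0), (0, 2, 5, 0), (3, 0, 3, 4), (0, 2, 2, 0), (0, 5, 7, 0), (3, 0, 6, 7), (0, 8, 5, 0)], (0, 9, 0))]

/-- Refutations, first coordinate 6. -/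
def case3_2_6 : List (List (ℕ × ℕ × ℕ × ℕ) × (ℕ × ℕ × ℕ)) := [
  ([(1, 0, 0, 0), (0, 1, 3, 0), (0, 0, 6, 0), (0, 2, 6, 0), (3, 0, 3, 4), (0, 0, 2, 0), (0, 5, 2, 0), (3, 2, 6, 7), (0, 8, 5, 0), (0, 0, 4, 0), (0, 9, 2, 0), (3, 2, 10, 11), (0, 12, 2, 0)], (0, 13, 5)),
  ([(1, 0, 0, 0), (0, 1, 3, 0), (0, 0, 6, 0), (0, 2, 6, 0), (3, 0, 3, 4), (0, 2, 3, 0), (0, 5, 5, 0), (3, 0, 6, 7), (0, 8, 4, 0)], (0, 9, 0)),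
  ([(1, 0, 0, 0), (0, 1, 3, 0), (0, 0, 6, 0), (0, 2, 6, 0), (3, 0, 3, 4), (0, 2, 4, 0), (0, 5, 2, 0), (3, 0, 6, 7), (0, 8, 6, 0)], (0, 9, 0)),
  ([(1, 0, 0, 0), (0, 1, 3, 0), (0, 0, 6, 0), (0, 2, 6, 0), (3, 0, 3, 4), (0, 5, 7, 0), (3, 0, 2, 6), (0, 7, 2, 0)], (0, 8, 0)),
  ([(1, 0, 0, 0), (0, 1, 3, 0), (0, 2, 4, 0), (0, 2, 2, 0), (3, 0, 3, 4), (0, 5, 6, 0)], (0, 6, 0)),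
  ([(1, 0, 0, 0), (0, 1, 3, 0), (0, 0, 6, 0), (0, 2, 6, 0), (3, 0, 3, 4), (0, 0, 2, 0), (0, 5, 2, 0), (3, 2, 6, 7), (0, 8, 5, 0)], (0, 9, 5)),
  ([(1, 0, 0, 0), (0, 1, 3, 0), (0, 2, 3, 0), (0, 2, 5, 0), (3, 0, 3, 4), (0, 5, 4, 0)], (0, 6, 0)),
  ([(1, 0, 0, 0), (0, 1, 3, 0), (0, 2, 7, 0), (3, 0, 2, 3), (0, 4, 2, 0)], (0, 5, 0))]

/-- Refutations, first coordinate 7. -/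
def case3_2_7 : List (List (ℕ × ℕ × ℕ × ℕ) × (ℕ × ℕ × ℕ)) := [
  ([(1, 0, 0, 0), (0, 1, 4, 0), (0, 0, 7, 0), (0, 2, 7, 0), (3, 0, 3, 4), (0, 0, 3, 0), (0, 5, 3, 0), (3, 2, 6, 7), (0, 8, 2, 0)], (0, 9, 5)),
  ([(1, 0, 0, 0), (0, 1, 4, 0), (0, 0, 7, 0), (0, 2, 7, 0), (3, 0, 3, 4), (0, 5, 6, 0), (3, 0, 2, 6), (0, 7, 5, 0)], (0, 8, 0)),
  ([(1, 0, 0, 0), (0, 1, 4, 0), (0, 0, 7, 0), (0, 2, 7, 0), (3, 0, 3, 4), (0, 2, 2, 0), (0, 5, 5, 0), (3, 0, 6, 7), (0, 8, 2, 0)], (0, 9, 0)),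
  ([(1, 0, 0, 0), (0, 1, 4, 0), (0, 2, 2, 0), (0, 2, 5, 0), (3, 0, 3, 4), (0, 5, 2, 0)], (0, 6, 0)),
  ([(1, 0, 0, 0), (0, 1, 4, 0), (0, 0, 7, 0), (0, 2, 7, 0), (3, 0, 3, 4), (0, 2, 5, 0), (0, 5, 2, 0), (3, 0, 6, 7), (0, 8, 3, 0)], (0, 9, 0)),
  ([(1, 0, 0, 0), (0, 1, 4, 0), (0, 2, 6, 0), (3, 0, 2, 3), (0, 4, 5, 0)], (0, 5, 0)),
  ([(1, 0, 0, 0), (0, 1, 4, 0), (0, 0, 7, 0), (0, 2, 7, 0), (3, 0, 3, 4), (0, 0, 3, 0), (0, 5, 3, 0), (3, 2, 6, 7), (0, 8, 2, 0), (0, 2, 2, 0), (3, 2, 10, 5)], (0, 11, 9)),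
  ([(1, 0, 0, 0), (0, 1, 4, 0), (0, 2, 5, 0), (0, 2, 2, 0), (3, 0, 3, 4), (0, 5, 3, 0)], (0, 6, 0))]

/-- All refutations. -/
def cases3_2 : List (List (ℕ × ℕ × ℕ × ℕ) × (ℕ × ℕ × ℕ)) :=
  case3_2_0 ++
  case3_2_1 ++
  case3_2_2 ++
  case3_2_3 ++
  case3_2_4 ++
  case3_2_5 ++
  case3_2_6 ++
  case3_2_7

/-- The derivation for the good value. -/
def ops3_2 : List (ℕ × ℕ × ℕ × ℕ) := [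
  (1, 0, 0, 0), (3, 0, 0, 1), (0, 1, 2, 0), (0, 2, 3, 0), (3, 1, 3, 4), (0, 1, 4, 0),
  (0, 2, 5, 0), (3, 1, 6, 7), (0, 1, 6, 0), (0, 2, 7, 0), (3, 1, 9, 10), (0, 2, 3, 0),
  (0, 5, 2, 0), (3, 1, 12, 13), (0, 14, 4, 0), (0, 2, 5, 0), (0, 8, 4, 0), (3, 1, 16, 17),
  (0, 18, 6, 0), (0, 2, 7, 0), (0, 11, 6, 0), (3, 1, 20, 21), (0, 22, 2, 0)]

/-- Where every pair is derived. -/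
def cov3_2 : List (ℕ × ℕ) := [
  (0, 0), (0, 1), (0, 3), (0, 4), (0, 5), (0, 6), (0, 7), (0, 2), (1, 1), (2, 1),
  (11, 1), (23, 1), (5, 1), (15, 1), (8, 1), (19, 1), (1, 2), (5, 2), (23, 2), (19, 2),
  (8, 2), (11, 2), (15, 2), (2, 2), (1, 3), (15, 3), (2, 3), (5, 3), (11, 3), (19, 3),
  (23, 3), (8, 3), (1, 4), (8, 4), (19, 4), (2, 4), (15, 4), (23, 4), (11, 4), (5, 4),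
  (1, 5), (19, 5), (15, 5), (11, 5), (2, 5), (8, 5), (5, 5), (23, 5), (1, 6), (11, 6),
  (5, 6), (8, 6), (23, 6), (2, 6), (19, 6), (15, 6), (1, 7), (23, 7), (8, 7), (15, 7),
  (19, 7), (5, 7), (2, 7), (11, 7)]

/-- Refutations, first coordinate 0. -/
def case5_3_0 : List (List (ℕ × ℕ × ℕ × ℕ) × (ℕ × ℕ × ℕ)) := [
  ([], (0, 0, 0)),
  ([], (0, 0, 0)),
  ([(1, 0, 0, 0), (0, 1, 30, 0)], (0, 2, 0)),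
  ([(1, 0, 0, 0), (0, 1, 9, 0)], (0, 2, 0)),
  ([(1, 0, 0, 0), (0, 1, 19, 0)], (0, 2, 0)),
  ([(1, 0, 0, 0), (0, 1, 11, 0)], (0, 2, 0)),
  ([(1, 0, 0, 0), (0, 1, 21, 0)], (0, 2, 0)),
  ([(1, 0, 0, 0), (0, 1, 27, 0)], (0, 2, 0)),
  ([(1, 0, 0, 0), (0, 1, 17, 0)], (0, 2, 0)),
  ([(1, 0, 0, 0), (0, 1, 29, 0)], (0, 2, 0)),
  ([(1, 0, 0, 0), (0, 1, 12, 0)], (0, 2, 0)),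
  ([(1, 0, 0, 0), (0, 1, 22, 0)], (0, 2, 0)),
  ([(1, 0, 0, 0), (0, 1, 31, 0)], (0, 2, 0)),
  ([(1, 0, 0, 0), (0, 1, 10, 0)], (0, 2, 0)),
  ([(1, 0, 0, 0), (0, 1, 26, 0)], (0, 2, 0)),
  ([(1, 0, 0, 0), (0, 1, 25, 0)], (0, 2, 0)),
  ([(1, 0, 0, 0), (0, 1, 8, 0)], (0, 2, 0)),
  ([(1, 0, 0, 0), (0, 1, 15, 0)], (0, 2, 0)),
  ([(1, 0, 0, 0), (0, 1, 20, 0)], (0, 2, 0)),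
  ([(1, 0, 0, 0), (0, 1, 5, 0)], (0, 2, 0)),
  ([(1, 0, 0, 0), (0, 1, 28, 0)], (0, 2, 0)),
  ([(1, 0, 0, 0), (0, 1, 2, 0)], (0, 2, 0)),
  ([(1, 0, 0, 0), (0, 1, 24, 0)], (0, 2, 0)),
  ([(1, 0, 0, 0), (0, 1, 16, 0)], (0, 2, 0)),
  ([(1, 0, 0, 0), (0, 1, 13, 0)], (0, 2, 0)),
  ([(1, 0, 0, 0), (0, 1, 7, 0)], (0, 2, 0)),
  ([(1, 0, 0, 0), (0, 1, 18, 0)], (0, 2, 0)),
  ([(1, 0, 0, 0), (0, 1, 14, 0)], (0, 2, 0)),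
  ([(1, 0, 0, 0), (0, 1, 4, 0)], (0, 2, 0)),
  ([(1, 0, 0, 0), (0, 1, 23, 0)], (0, 2, 0)),
  ([(1, 0, 0, 0), (0, 1, 3, 0)], (0, 2, 0)),
  ([(1, 0, 0, 0), (0, 1, 6, 0)], (0, 2, 0))]

/-- Refutations, first coordinate 1. -/
def case5_3_1 : List (List (ℕ × ℕ × ℕ × ℕ) × (ℕ × ℕ × ℕ)) := [
  ([], (0, 0, 0)),
  ([(1, 0, 0, 0), (3, 0, 0, 1), (0, 0, 27, 0), (0, 0, 25, 0), (3, 2, 3, 4), (0, 5, 20, 0), (0, 0, 31, 0), (0, 0, 26, 0), (3, 2, 7, 8), (0, 9, 21, 0), (0, 1, 2, 0), (0, 10, 2, 0), (3, 2, 11, 12)], (0, 13, 6)),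
  ([(1, 0, 0, 0), (0, 1, 8, 0), (0, 1, 9, 0), (3, 0, 2, 3), (0, 4, 15, 0)], (0, 5, 0)),
  ([(1, 0, 0, 0), (0, 1, 5, 0), (0, 1, 4, 0), (3, 0, 2, 3), (0, 4, 20, 0)], (0, 5, 0)),
  ([(1, 0, 0, 0), (0, 1, 10, 0), (0, 1, 11, 0), (3, 0, 2, 3), (0, 4, 31, 0)], (0, 5, 0)),
  ([(1, 0, 0, 0), (0, 1, 17, 0), (0, 1, 16, 0), (3, 0, 2, 3), (0, 4, 29, 0)], (0, 5, 0)),
  ([(1, 0, 0, 0), (3, 0, 0, 1), (0, 1, 10, 0), (0, 2, 11, 0), (3, 0, 3, 4), (0, 5, 31, 0)], (0, 6, 0)),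
  ([(1, 0, 0, 0), (3, 0, 0, 1), (0, 1, 11, 0), (0, 2, 10, 0), (3, 0, 3, 4), (0, 5, 19, 0)], (0, 6, 0)),
  ([(1, 0, 0, 0), (3, 0, 0, 1), (0, 1, 2, 0), (0, 2, 3, 0), (3, 0, 3, 4), (0, 5, 28, 0)], (0, 6, 0)),
  ([(1, 0, 0, 0), (3, 0, 0, 1), (0, 1, 3, 0), (0, 2, 2, 0), (3, 0, 3, 4), (0, 5, 6, 0)], (0, 6, 0)),
  ([(1, 0, 0, 0), (3, 0, 0, 1), (0, 1, 4, 0), (0, 2, 5, 0), (3, 0, 3, 4), (0, 5, 23, 0)], (0, 6, 0)),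
  ([(1, 0, 0, 0), (3, 0, 0, 1), (0, 1, 5, 0), (0, 2, 4, 0), (3, 0, 3, 4), (0, 5, 20, 0)], (0, 6, 0)),
  ([(1, 0, 0, 0), (3, 0, 0, 1), (0, 1, 21, 0), (0, 2, 20, 0), (3, 0, 3, 4), (0, 5, 27, 0)], (0, 6, 0)),
  ([(1, 0, 0, 0), (3, 0, 0, 1), (0, 1, 20, 0), (0, 2, 21, 0), (3, 0, 3, 4), (0, 5, 5, 0)], (0, 6, 0)),
  ([(1, 0, 0, 0), (0, 1, 11, 0), (0, 1, 10, 0), (3, 0, 2, 3), (0, 4, 19, 0)], (0, 5, 0)),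
  ([(1, 0, 0, 0), (3, 0, 0, 1), (0, 1, 17, 0), (0, 2, 16, 0), (3, 0, 3, 4), (0, 5, 29, 0)], (0, 6, 0)),
  ([(1, 0, 0, 0), (3, 0, 0, 1), (0, 1, 6, 0), (0, 2, 7, 0), (3, 0, 3, 4), (0, 5, 3, 0)], (0, 6, 0)),
  ([(1, 0, 0, 0), (3, 0, 0, 1), (0, 1, 7, 0), (0, 2, 6, 0), (3, 0, 3, 4), (0, 5, 13, 0)], (0, 6, 0)),
  ([(1, 0, 0, 0), (0, 1, 21, 0), (0, 1, 20, 0), (3, 0, 2, 3), (0, 4, 27, 0)], (0, 5, 0)),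
  ([(1, 0, 0, 0), (3, 0, 0, 1), (0, 1, 27, 0), (0, 2, 26, 0), (3, 0, 3, 4), (0, 5, 21, 0)], (0, 6, 0)),
  ([(1, 0, 0, 0), (0, 1, 6, 0), (0, 1, 7, 0), (3, 0, 2, 3), (0, 4, 3, 0)], (0, 5, 0)),
  ([(1, 0, 0, 0), (0, 1, 13, 0), (0, 1, 12, 0), (3, 0, 2, 3), (0, 4, 7, 0)], (0, 5, 0)),
  ([(1, 0, 0, 0), (3, 0, 0, 1), (0, 1, 19, 0), (0, 2, 18, 0), (3, 0, 3, 4), (0, 5, 11, 0)], (0, 6, 0)),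
  ([(1, 0, 0, 0), (0, 1, 2, 0), (0, 1, 3, 0), (3, 0, 2, 3), (0, 4, 28, 0)], (0, 5, 0)),
  ([(1, 0, 0, 0), (0, 1, 4, 0), (0, 1, 5, 0), (3, 0, 2, 3), (0, 4, 23, 0)], (0, 5, 0)),
  ([(1, 0, 0, 0), (3, 0, 0, 1), (0, 1, 8, 0), (0, 2, 9, 0), (3, 0, 3, 4), (0, 5, 15, 0)], (0, 6, 0)),
  ([(1, 0, 0, 0), (0, 1, 3, 0), (0, 1, 2, 0), (3, 0, 2, 3), (0, 4, 6, 0)], (0, 5, 0)),
  ([(1, 0, 0, 0), (0, 1, 19, 0), (0, 1, 18, 0), (3, 0, 2, 3), (0, 4, 11, 0)], (0, 5, 0)),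
  ([(1, 0, 0, 0), (0, 1, 27, 0), (0, 1, 26, 0), (3, 0, 2, 3), (0, 4, 21, 0)], (0, 5, 0)),
  ([(1, 0, 0, 0), (0, 1, 20, 0), (0, 1, 21, 0), (3, 0, 2, 3), (0, 4, 5, 0)], (0, 5, 0)),
  ([(1, 0, 0, 0), (3, 0, 0, 1), (0, 1, 13, 0), (0, 2, 12, 0), (3, 0, 3, 4), (0, 5, 7, 0)], (0, 6, 0)),
  ([(1, 0, 0, 0), (0, 1, 7, 0), (0, 1, 6, 0), (3, 0, 2, 3), (0, 4, 13, 0)], (0, 5, 0))]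

/-- Refutations, first coordinate 2. -/
def case5_3_2 : List (List (ℕ × ℕ × ℕ × ℕ) × (ℕ × ℕ × ℕ)) := [
  ([(1, 0, 0, 0), (0, 1, 18, 0), (0, 0, 2, 0), (0, 2, 2, 0), (3, 0, 3, 4), (0, 5, 4, 0)], (2, 2, 6)),
  ([(1, 0, 0, 0), (0, 1, 18, 0), (0, 2, 26, 0), (0, 2, 24, 0), (3, 0, 3, 4), (0, 5, 7, 0)], (0, 6, 0)),
  ([(1, 0, 0, 0), (0, 1, 18, 0), (0, 0, 2, 0), (0, 2, 2, 0), (3, 0, 3, 4), (0, 2, 7, 0), (0, 5, 5, 0), (3, 0, 6, 7), (0, 8, 29, 0)], (0, 9, 0)),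
  ([(1, 0, 0, 0), (0, 1, 18, 0), (0, 2, 6, 0), (0, 2, 4, 0), (3, 0, 3, 4), (0, 5, 6, 0)], (0, 6, 0)),
  ([(1, 0, 0, 0), (0, 1, 18, 0), (0, 0, 2, 0), (0, 2, 2, 0), (3, 0, 3, 4), (0, 2, 26, 0), (0, 5, 24, 0), (3, 0, 6, 7), (0, 8, 7, 0)], (0, 9, 0)),
  ([(1, 0, 0, 0), (0, 1, 18, 0), (0, 0, 2, 0), (0, 2, 2, 0), (3, 0, 3, 4), (0, 2, 10, 0), (0, 5, 8, 0), (3, 0, 6, 7), (0, 8, 20, 0)], (0, 9, 0)),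
  ([(1, 0, 0, 0), (0, 1, 18, 0), (0, 0, 2, 0), (0, 2, 2, 0), (3, 0, 3, 4), (0, 2, 14, 0), (0, 5, 12, 0), (3, 0, 6, 7), (0, 8, 13, 0)], (0, 9, 0)),
  ([(1, 0, 0, 0), (0, 1, 18, 0), (0, 2, 20, 0), (0, 2, 22, 0), (3, 0, 3, 4), (0, 5, 31, 0)], (0, 6, 0)),
  ([(1, 0, 0, 0), (0, 1, 18, 0), (0, 2, 9, 0), (0, 2, 11, 0), (3, 0, 3, 4), (0, 5, 12, 0)], (0, 6, 0)),
  ([(1, 0, 0, 0), (0, 1, 18, 0), (0, 0, 2, 0), (0, 2, 2, 0), (3, 0, 3, 4), (0, 2, 15, 0), (0, 5, 13, 0), (3, 0, 6, 7), (0, 8, 27, 0)], (0, 9, 0)),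
  ([(1, 0, 0, 0), (0, 1, 18, 0), (0, 0, 2, 0), (0, 2, 2, 0), (3, 0, 3, 4), (0, 2, 3, 0), (3, 0, 6, 5), (0, 7, 11, 0)], (0, 8, 0)),
  ([(1, 0, 0, 0), (0, 1, 18, 0), (0, 2, 10, 0), (0, 2, 8, 0), (3, 0, 3, 4), (0, 5, 20, 0)], (0, 6, 0)),
  ([(1, 0, 0, 0), (0, 1, 18, 0), (0, 2, 5, 0), (0, 2, 7, 0), (3, 0, 3, 4), (0, 5, 24, 0)], (0, 6, 0)),
  ([(1, 0, 0, 0), (0, 1, 18, 0), (0, 2, 15, 0), (0, 2, 13, 0), (3, 0, 3, 4), (0, 5, 27, 0)], (0, 6, 0)),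
  ([(1, 0, 0, 0), (0, 1, 18, 0), (0, 2, 3, 0), (3, 0, 2, 3), (0, 4, 14, 0)], (0, 5, 0)),
  ([(1, 0, 0, 0), (0, 1, 18, 0), (0, 2, 13, 0), (0, 2, 15, 0), (3, 0, 3, 4), (0, 5, 5, 0)], (0, 6, 0)),
  ([(1, 0, 0, 0), (0, 1, 18, 0), (0, 0, 2, 0), (0, 2, 2, 0), (3, 0, 3, 4), (0, 5, 3, 0), (3, 0, 2, 6), (0, 7, 14, 0)], (0, 8, 0)),
  ([(1, 0, 0, 0), (0, 1, 18, 0), (0, 0, 2, 0), (0, 2, 2, 0), (3, 0, 3, 4), (0, 2, 9, 0), (0, 5, 11, 0), (3, 0, 6, 7), (0, 8, 12, 0)], (0, 9, 0)),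
  ([(1, 0, 0, 0), (0, 1, 18, 0), (0, 2, 8, 0), (0, 2, 10, 0), (3, 0, 3, 4), (0, 5, 23, 0)], (0, 6, 0)),
  ([(1, 0, 0, 0), (0, 1, 18, 0), (0, 0, 2, 0), (0, 2, 2, 0), (3, 0, 3, 4), (0, 2, 13, 0), (0, 5, 15, 0), (3, 0, 6, 7), (0, 8, 5, 0)], (0, 9, 0)),
  ([(1, 0, 0, 0), (0, 1, 18, 0), (0, 0, 2, 0), (0, 2, 2, 0), (3, 0, 3, 4), (0, 2, 6, 0), (0, 5, 4, 0), (3, 0, 6, 7), (0, 8, 6, 0)], (0, 9, 0)),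
  ([(1, 0, 0, 0), (0, 1, 18, 0), (0, 2, 19, 0), (0, 2, 17, 0), (3, 0, 3, 4), (0, 5, 21, 0)], (0, 6, 0)),
  ([(1, 0, 0, 0), (0, 1, 18, 0), (0, 0, 2, 0), (0, 2, 2, 0), (3, 0, 3, 4), (0, 2, 20, 0), (0, 5, 22, 0), (3, 0, 6, 7), (0, 8, 31, 0)], (0, 9, 0)),
  ([(1, 0, 0, 0), (0, 1, 18, 0), (0, 0, 2, 0), (0, 2, 2, 0), (3, 0, 3, 4), (0, 2, 19, 0), (0, 5, 17, 0), (3, 0, 6, 7), (0, 8, 21, 0)], (0, 9, 0)),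
  ([(1, 0, 0, 0), (0, 1, 18, 0), (0, 0, 2, 0), (0, 2, 2, 0), (3, 0, 3, 4), (0, 2, 5, 0), (0, 5, 7, 0), (3, 0, 6, 7), (0, 8, 24, 0)], (0, 9, 0)),
  ([(1, 0, 0, 0), (0, 1, 18, 0), (0, 2, 3, 0), (3, 0, 3, 2), (0, 4, 11, 0)], (0, 5, 0)),
  ([(1, 0, 0, 0), (0, 1, 18, 0), (0, 0, 2, 0), (0, 2, 2, 0), (3, 0, 3, 4), (0, 0, 4, 0), (0, 5, 4, 0), (3, 2, 6, 7), (0, 8, 29, 0), (0, 0, 21, 0), (0, 9, 4, 0), (3, 2, 10, 11), (0, 12, 11, 0), (0, 2, 4, 0), (0, 0, 4, 0), (3, 2, 14, 15), (0, 16, 5, 0), (3, 2, 5, 17), (0, 18, 28, 0)], (0, 19, 13)),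
  ([(1, 0, 0, 0), (0, 1, 18, 0), (0, 2, 12, 0), (0, 2, 14, 0), (3, 0, 3, 4), (0, 5, 3, 0)], (0, 6, 0)),
  ([(1, 0, 0, 0), (0, 1, 18, 0), (0, 0, 2, 0), (0, 2, 2, 0), (3, 0, 3, 4), (0, 2, 12, 0), (0, 5, 14, 0), (3, 0, 6, 7), (0, 8, 3, 0)], (0, 9, 0)),
  ([(1, 0, 0, 0), (0, 1, 18, 0), (0, 2, 7, 0), (0, 2, 5, 0), (3, 0, 3, 4), (0, 5, 29, 0)], (0, 6, 0)),
  ([(1, 0, 0, 0), (0, 1, 18, 0), (0, 2, 14, 0), (0, 2, 12, 0), (3, 0, 3, 4), (0, 5, 13, 0)], (0, 6, 0)),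
  ([(1, 0, 0, 0), (0, 1, 18, 0), (0, 0, 2, 0), (0, 2, 2, 0), (3, 0, 3, 4), (0, 2, 8, 0), (0, 5, 10, 0), (3, 0, 6, 7), (0, 8, 23, 0)], (0, 9, 0))]

/-- Refutations, first coordinate 3. -/
def case5_3_3 : List (List (ℕ × ℕ × ℕ × ℕ) × (ℕ × ℕ × ℕ)) := [
  ([(1, 0, 0, 0), (0, 1, 28, 0), (0, 0, 3, 0), (0, 2, 3, 0), (3, 0, 3, 4), (0, 0, 5, 0), (0, 5, 5, 0), (3, 2, 6, 7), (0, 8, 19, 0), (0, 0, 12, 0), (0, 9, 5, 0), (3, 2, 10, 11), (0, 12, 22, 0), (0, 2, 7, 0), (0, 9, 2, 0), (3, 2, 14, 15), (0, 2, 16, 0), (0, 16, 21, 0), (3, 2, 17, 18)], (0, 19, 13)),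
  ([(1, 0, 0, 0), (0, 1, 28, 0), (0, 2, 17, 0), (0, 2, 18, 0), (3, 0, 3, 4), (0, 5, 8, 0)], (0, 6, 0)),
  ([(1, 0, 0, 0), (0, 1, 28, 0), (0, 0, 3, 0), (0, 2, 3, 0), (3, 0, 3, 4), (0, 2, 24, 0), (0, 5, 27, 0), (3, 0, 6, 7), (0, 8, 15, 0)], (0, 9, 0)),
  ([(1, 0, 0, 0), (0, 1, 28, 0), (0, 2, 21, 0), (0, 2, 22, 0), (3, 0, 3, 4), (0, 5, 24, 0)], (0, 6, 0)),
  ([(1, 0, 0, 0), (0, 1, 28, 0), (0, 2, 6, 0), (0, 2, 5, 0), (3, 0, 3, 4), (0, 5, 28, 0)], (0, 6, 0)),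
  ([(1, 0, 0, 0), (0, 1, 28, 0), (0, 2, 2, 0), (3, 0, 2, 3), (0, 4, 2, 0)], (0, 5, 0)),
  ([(1, 0, 0, 0), (0, 1, 28, 0), (0, 0, 3, 0), (0, 2, 3, 0), (3, 0, 3, 4), (0, 2, 21, 0), (0, 5, 22, 0), (3, 0, 6, 7), (0, 8, 24, 0)], (0, 9, 0)),
  ([(1, 0, 0, 0), (0, 1, 28, 0), (0, 0, 3, 0), (0, 2, 3, 0), (3, 0, 3, 4), (0, 2, 10, 0), (0, 5, 9, 0), (3, 0, 6, 7), (0, 8, 3, 0)], (0, 9, 0)),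
  ([(1, 0, 0, 0), (0, 1, 28, 0), (0, 0, 3, 0), (0, 2, 3, 0), (3, 0, 3, 4), (0, 2, 15, 0), (0, 5, 12, 0), (3, 0, 6, 7), (0, 8, 20, 0)], (0, 9, 0)),
  ([(1, 0, 0, 0), (0, 1, 28, 0), (0, 0, 3, 0), (0, 2, 3, 0), (3, 0, 3, 4), (0, 2, 17, 0), (0, 5, 18, 0), (3, 0, 6, 7), (0, 8, 8, 0)], (0, 9, 0)),
  ([(1, 0, 0, 0), (0, 1, 28, 0), (0, 0, 3, 0), (0, 2, 3, 0), (3, 0, 3, 4), (0, 2, 11, 0), (0, 5, 8, 0), (3, 0, 6, 7), (0, 8, 25, 0)], (0, 9, 0)),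
  ([(1, 0, 0, 0), (0, 1, 28, 0), (0, 2, 11, 0), (0, 2, 8, 0), (3, 0, 3, 4), (0, 5, 25, 0)], (0, 6, 0)),
  ([(1, 0, 0, 0), (0, 1, 28, 0), (0, 0, 3, 0), (0, 2, 3, 0), (3, 0, 3, 4), (0, 2, 4, 0), (0, 5, 7, 0), (3, 0, 6, 7), (0, 8, 10, 0)], (0, 9, 0)),
  ([(1, 0, 0, 0), (0, 1, 28, 0), (0, 2, 24, 0), (0, 2, 27, 0), (3, 0, 3, 4), (0, 5, 15, 0)], (0, 6, 0)),
  ([(1, 0, 0, 0), (0, 1, 28, 0), (0, 0, 3, 0), (0, 2, 3, 0), (3, 0, 3, 4), (0, 2, 13, 0), (0, 5, 14, 0), (3, 0, 6, 7), (0, 8, 16, 0)], (0, 9, 0)),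
  ([(1, 0, 0, 0), (0, 1, 28, 0), (0, 0, 3, 0), (0, 2, 3, 0), (3, 0, 3, 4), (0, 2, 2, 0), (3, 0, 6, 5), (0, 7, 17, 0)], (0, 8, 0)),
  ([(1, 0, 0, 0), (0, 1, 28, 0), (0, 2, 2, 0), (3, 0, 3, 2), (0, 4, 17, 0)], (0, 5, 0)),
  ([(1, 0, 0, 0), (0, 1, 28, 0), (0, 0, 3, 0), (0, 2, 3, 0), (3, 0, 3, 4), (0, 2, 6, 0), (0, 5, 5, 0), (3, 0, 6, 7), (0, 8, 28, 0)], (0, 9, 0)),
  ([(1, 0, 0, 0), (0, 1, 28, 0), (0, 2, 13, 0), (0, 2, 14, 0), (3, 0, 3, 4), (0, 5, 16, 0)], (0, 6, 0)),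
  ([(1, 0, 0, 0), (0, 1, 28, 0), (0, 0, 3, 0), (0, 2, 3, 0), (3, 0, 3, 4), (0, 2, 9, 0), (0, 5, 10, 0), (3, 0, 6, 7), (0, 8, 13, 0)], (0, 9, 0)),
  ([(1, 0, 0, 0), (0, 1, 28, 0), (0, 0, 3, 0), (0, 2, 3, 0), (3, 0, 3, 4), (0, 0, 5, 0), (0, 5, 5, 0), (3, 2, 6, 7), (0, 8, 19, 0), (0, 0, 10, 0), (0, 9, 5, 0), (3, 2, 10, 11), (0, 12, 13, 0), (0, 2, 14, 0), (0, 13, 11, 0), (3, 2, 14, 15), (0, 5, 3, 0), (0, 16, 6, 0), (3, 2, 17, 18), (0, 19, 6, 0)], (0, 20, 0)),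
  ([(1, 0, 0, 0), (0, 1, 28, 0), (0, 2, 9, 0), (0, 2, 10, 0), (3, 0, 3, 4), (0, 5, 13, 0)], (0, 6, 0)),
  ([(1, 0, 0, 0), (0, 1, 28, 0), (0, 2, 12, 0), (0, 2, 15, 0), (3, 0, 3, 4), (0, 5, 23, 0)], (0, 6, 0)),
  ([(1, 0, 0, 0), (0, 1, 28, 0), (0, 2, 14, 0), (0, 2, 13, 0), (3, 0, 3, 4), (0, 5, 26, 0)], (0, 6, 0)),
  ([(1, 0, 0, 0), (0, 1, 28, 0), (0, 0, 3, 0), (0, 2, 3, 0), (3, 0, 3, 4), (0, 2, 7, 0), (0, 5, 4, 0), (3, 0, 6, 7), (0, 8, 9, 0)], (0, 9, 0)),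
  ([(1, 0, 0, 0), (0, 1, 28, 0), (0, 2, 15, 0), (0, 2, 12, 0), (3, 0, 3, 4), (0, 5, 20, 0)], (0, 6, 0)),
  ([(1, 0, 0, 0), (0, 1, 28, 0), (0, 0, 3, 0), (0, 2, 3, 0), (3, 0, 3, 4), (0, 2, 14, 0), (0, 5, 13, 0), (3, 0, 6, 7), (0, 8, 26, 0)], (0, 9, 0)),
  ([(1, 0, 0, 0), (0, 1, 28, 0), (0, 0, 3, 0), (0, 2, 3, 0), (3, 0, 3, 4), (0, 5, 2, 0), (3, 0, 2, 6), (0, 7, 2, 0)], (0, 8, 0)),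
  ([(1, 0, 0, 0), (0, 1, 28, 0), (0, 0, 3, 0), (0, 2, 3, 0), (3, 0, 3, 4), (0, 2, 12, 0), (0, 5, 15, 0), (3, 0, 6, 7), (0, 8, 23, 0)], (0, 9, 0)),
  ([(1, 0, 0, 0), (0, 1, 28, 0), (0, 2, 10, 0), (0, 2, 9, 0), (3, 0, 3, 4), (0, 5, 3, 0)], (0, 6, 0)),
  ([(1, 0, 0, 0), (0, 1, 28, 0), (0, 2, 4, 0), (0, 2, 7, 0), (3, 0, 3, 4), (0, 5, 10, 0)], (0, 6, 0)),
  ([(1, 0, 0, 0), (0, 1, 28, 0), (0, 2, 7, 0), (0, 2, 4, 0), (3, 0, 3, 4), (0, 5, 9, 0)], (0, 6, 0))]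

/-- Refutations, first coordinate 4. -/
def case5_3_4 : List (List (ℕ × ℕ × ℕ × ℕ) × (ℕ × ℕ × ℕ)) := [
  ([(1, 0, 0, 0), (0, 1, 9, 0), (0, 0, 4, 0), (0, 2, 4, 0), (3, 0, 3, 4), (0, 0, 16, 0), (0, 5, 16, 0), (3, 2, 6, 7), (0, 8, 22, 0), (0, 2, 16, 0), (0, 0, 16, 0), (3, 2, 10, 11), (0, 2, 25, 0), (0, 12, 9, 0), (3, 2, 13, 14), (0, 2, 30, 0), (0, 15, 14, 0), (3, 2, 16, 17), (0, 5, 2, 0), (0, 9, 18, 0), (3, 2, 19, 20), (0, 21, 28, 0)], (0, 22, 18)),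
  ([(1, 0, 0, 0), (0, 1, 9, 0), (0, 2, 3, 0), (0, 2, 7, 0), (3, 0, 3, 4), (0, 5, 21, 0)], (0, 6, 0)),
  ([(1, 0, 0, 0), (0, 1, 9, 0), (0, 0, 4, 0), (0, 2, 4, 0), (3, 0, 3, 4), (0, 2, 23, 0), (0, 5, 19, 0), (3, 0, 6, 7), (0, 8, 9, 0)], (0, 9, 0)),
  ([(1, 0, 0, 0), (0, 1, 9, 0), (0, 0, 4, 0), (0, 2, 4, 0), (3, 0, 3, 4), (0, 0, 16, 0), (0, 5, 16, 0), (3, 2, 6, 7), (0, 8, 22, 0), (0, 0, 28, 0), (0, 9, 16, 0), (3, 2, 10, 11), (0, 12, 15, 0), (0, 2, 16, 0), (0, 0, 16, 0), (3, 2, 14, 15), (0, 16, 17, 0), (3, 2, 5, 17), (0, 18, 23, 0)], (0, 19, 13)),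
  ([(1, 0, 0, 0), (0, 1, 9, 0), (0, 0, 4, 0), (0, 2, 4, 0), (3, 0, 3, 4), (0, 2, 21, 0), (0, 5, 17, 0), (3, 0, 6, 7), (0, 8, 22, 0)], (0, 9, 0)),
  ([(1, 0, 0, 0), (0, 1, 9, 0), (0, 2, 20, 0), (0, 2, 16, 0), (3, 0, 3, 4), (0, 5, 20, 0)], (0, 6, 0)),
  ([(1, 0, 0, 0), (0, 1, 9, 0), (0, 2, 5, 0), (3, 0, 3, 2), (0, 4, 15, 0)], (0, 5, 0)),
  ([(1, 0, 0, 0), (0, 1, 9, 0), (0, 0, 4, 0), (0, 2, 4, 0), (3, 0, 3, 4), (0, 2, 17, 0), (0, 5, 21, 0), (3, 0, 6, 7), (0, 8, 7, 0)], (0, 9, 0)),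
  ([(1, 0, 0, 0), (0, 1, 9, 0), (0, 2, 6, 0), (0, 2, 2, 0), (3, 0, 3, 4), (0, 5, 11, 0)], (0, 6, 0)),
  ([(1, 0, 0, 0), (0, 1, 9, 0), (0, 0, 4, 0), (0, 2, 4, 0), (3, 0, 3, 4), (0, 2, 9, 0), (0, 5, 13, 0), (3, 0, 6, 7), (0, 8, 19, 0)], (0, 9, 0)),
  ([(1, 0, 0, 0), (0, 1, 9, 0), (0, 2, 11, 0), (0, 2, 15, 0), (3, 0, 3, 4), (0, 5, 26, 0)], (0, 6, 0)),
  ([(1, 0, 0, 0), (0, 1, 9, 0), (0, 2, 12, 0), (0, 2, 8, 0), (3, 0, 3, 4), (0, 5, 6, 0)], (0, 6, 0)),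
  ([(1, 0, 0, 0), (0, 1, 9, 0), (0, 0, 4, 0), (0, 2, 4, 0), (3, 0, 3, 4), (0, 2, 11, 0), (0, 5, 15, 0), (3, 0, 6, 7), (0, 8, 26, 0)], (0, 9, 0)),
  ([(1, 0, 0, 0), (0, 1, 9, 0), (0, 0, 4, 0), (0, 2, 4, 0), (3, 0, 3, 4), (0, 5, 5, 0), (3, 0, 2, 6), (0, 7, 30, 0)], (0, 8, 0)),
  ([(1, 0, 0, 0), (0, 1, 9, 0), (0, 0, 4, 0), (0, 2, 4, 0), (3, 0, 3, 4), (0, 2, 5, 0), (3, 0, 6, 5), (0, 7, 15, 0)], (0, 8, 0)),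
  ([(1, 0, 0, 0), (0, 1, 9, 0), (0, 2, 14, 0), (0, 2, 10, 0), (3, 0, 3, 4), (0, 5, 29, 0)], (0, 6, 0)),
  ([(1, 0, 0, 0), (0, 1, 9, 0), (0, 0, 4, 0), (0, 2, 4, 0), (3, 0, 3, 4), (0, 2, 3, 0), (0, 5, 7, 0), (3, 0, 6, 7), (0, 8, 21, 0)], (0, 9, 0)),
  ([(1, 0, 0, 0), (0, 1, 9, 0), (0, 0, 4, 0), (0, 2, 4, 0), (3, 0, 3, 4), (0, 2, 14, 0), (0, 5, 10, 0), (3, 0, 6, 7), (0, 8, 29, 0)], (0, 9, 0)),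
  ([(1, 0, 0, 0), (0, 1, 9, 0), (0, 2, 9, 0), (0, 2, 13, 0), (3, 0, 3, 4), (0, 5, 19, 0)], (0, 6, 0)),
  ([(1, 0, 0, 0), (0, 1, 9, 0), (0, 0, 4, 0), (0, 2, 4, 0), (3, 0, 3, 4), (0, 2, 7, 0), (0, 5, 3, 0), (3, 0, 6, 7), (0, 8, 25, 0)], (0, 9, 0)),
  ([(1, 0, 0, 0), (0, 1, 9, 0), (0, 2, 7, 0), (0, 2, 3, 0), (3, 0, 3, 4), (0, 5, 25, 0)], (0, 6, 0)),
  ([(1, 0, 0, 0), (0, 1, 9, 0), (0, 0, 4, 0), (0, 2, 4, 0), (3, 0, 3, 4), (0, 2, 24, 0), (0, 5, 28, 0), (3, 0, 6, 7), (0, 8, 3, 0)], (0, 9, 0)),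
  ([(1, 0, 0, 0), (0, 1, 9, 0), (0, 2, 21, 0), (0, 2, 17, 0), (3, 0, 3, 4), (0, 5, 22, 0)], (0, 6, 0)),
  ([(1, 0, 0, 0), (0, 1, 9, 0), (0, 2, 23, 0), (0, 2, 19, 0), (3, 0, 3, 4), (0, 5, 9, 0)], (0, 6, 0)),
  ([(1, 0, 0, 0), (0, 1, 9, 0), (0, 2, 2, 0), (0, 2, 6, 0), (3, 0, 3, 4), (0, 5, 14, 0)], (0, 6, 0)),
  ([(1, 0, 0, 0), (0, 1, 9, 0), (0, 2, 24, 0), (0, 2, 28, 0), (3, 0, 3, 4), (0, 5, 3, 0)], (0, 6, 0)),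
  ([(1, 0, 0, 0), (0, 1, 9, 0), (0, 2, 17, 0), (0, 2, 21, 0), (3, 0, 3, 4), (0, 5, 7, 0)], (0, 6, 0)),
  ([(1, 0, 0, 0), (0, 1, 9, 0), (0, 0, 4, 0), (0, 2, 4, 0), (3, 0, 3, 4), (0, 2, 12, 0), (0, 5, 8, 0), (3, 0, 6, 7), (0, 8, 6, 0)], (0, 9, 0)),
  ([(1, 0, 0, 0), (0, 1, 9, 0), (0, 0, 4, 0), (0, 2, 4, 0), (3, 0, 3, 4), (0, 2, 2, 0), (0, 5, 6, 0), (3, 0, 6, 7), (0, 8, 14, 0)], (0, 9, 0)),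
  ([(1, 0, 0, 0), (0, 1, 9, 0), (0, 0, 4, 0), (0, 2, 4, 0), (3, 0, 3, 4), (0, 2, 20, 0), (0, 5, 16, 0), (3, 0, 6, 7), (0, 8, 20, 0)], (0, 9, 0)),
  ([(1, 0, 0, 0), (0, 1, 9, 0), (0, 2, 5, 0), (3, 0, 2, 3), (0, 4, 30, 0)], (0, 5, 0)),
  ([(1, 0, 0, 0), (0, 1, 9, 0), (0, 0, 4, 0), (0, 2, 4, 0), (3, 0, 3, 4), (0, 2, 6, 0), (0, 5, 2, 0), (3, 0, 6, 7), (0, 8, 11, 0)], (0, 9, 0))]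

/-- Refutations, first coordinate 5. -/
def case5_3_5 : List (List (ℕ × ℕ × ℕ × ℕ) × (ℕ × ℕ × ℕ)) := [
  ([(1, 0, 0, 0), (0, 1, 23, 0), (0, 0, 5, 0), (0, 2, 5, 0), (3, 0, 3, 4), (0, 5, 17, 0)], (2, 2, 6)),
  ([(1, 0, 0, 0), (0, 1, 23, 0), (0, 2, 12, 0), (0, 2, 9, 0), (3, 0, 3, 4), (0, 5, 10, 0)], (0, 6, 0)),
  ([(1, 0, 0, 0), (0, 1, 23, 0), (0, 0, 5, 0), (0, 2, 5, 0), (3, 0, 3, 4), (0, 5, 4, 0), (3, 0, 2, 6), (0, 7, 4, 0)], (0, 8, 0)),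
  ([(1, 0, 0, 0), (0, 1, 23, 0), (0, 2, 19, 0), (0, 2, 22, 0), (3, 0, 3, 4), (0, 5, 18, 0)], (0, 6, 0)),
  ([(1, 0, 0, 0), (0, 1, 23, 0), (0, 0, 5, 0), (0, 2, 5, 0), (3, 0, 3, 4), (0, 2, 7, 0), (0, 5, 2, 0), (3, 0, 6, 7), (0, 8, 31, 0)], (0, 9, 0)),
  ([(1, 0, 0, 0), (0, 1, 23, 0), (0, 0, 5, 0), (0, 2, 5, 0), (3, 0, 3, 4), (0, 2, 22, 0), (0, 5, 19, 0), (3, 0, 6, 7), (0, 8, 8, 0)], (0, 9, 0)),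
  ([(1, 0, 0, 0), (0, 1, 23, 0), (0, 0, 5, 0), (0, 2, 5, 0), (3, 0, 3, 4), (0, 2, 23, 0), (0, 5, 18, 0), (3, 0, 6, 7), (0, 8, 16, 0)], (0, 9, 0)),
  ([(1, 0, 0, 0), (0, 1, 23, 0), (0, 2, 6, 0), (0, 2, 3, 0), (3, 0, 3, 4), (0, 5, 17, 0)], (0, 6, 0)),
  ([(1, 0, 0, 0), (0, 1, 23, 0), (0, 0, 5, 0), (0, 2, 5, 0), (3, 0, 3, 4), (0, 2, 11, 0), (0, 5, 14, 0), (3, 0, 6, 7), (0, 8, 27, 0)], (0, 9, 0)),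
  ([(1, 0, 0, 0), (0, 1, 23, 0), (0, 0, 5, 0), (0, 2, 5, 0), (3, 0, 3, 4), (0, 2, 25, 0), (0, 5, 28, 0), (3, 0, 6, 7), (0, 8, 22, 0)], (0, 9, 0)),
  ([(1, 0, 0, 0), (0, 1, 23, 0), (0, 2, 23, 0), (0, 2, 18, 0), (3, 0, 3, 4), (0, 5, 16, 0)], (0, 6, 0)),
  ([(1, 0, 0, 0), (0, 1, 23, 0), (0, 0, 5, 0), (0, 2, 5, 0), (3, 0, 3, 4), (0, 2, 12, 0), (0, 5, 9, 0), (3, 0, 6, 7), (0, 8, 10, 0)], (0, 9, 0)),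
  ([(1, 0, 0, 0), (0, 1, 23, 0), (0, 2, 8, 0), (0, 2, 13, 0), (3, 0, 3, 4), (0, 5, 30, 0)], (0, 6, 0)),
  ([(1, 0, 0, 0), (0, 1, 23, 0), (0, 2, 4, 0), (3, 0, 3, 2), (0, 4, 12, 0)], (0, 5, 0)),
  ([(1, 0, 0, 0), (0, 1, 23, 0), (0, 2, 3, 0), (0, 2, 6, 0), (3, 0, 3, 4), (0, 5, 2, 0)], (0, 6, 0)),
  ([(1, 0, 0, 0), (0, 1, 23, 0), (0, 0, 5, 0), (0, 2, 5, 0), (3, 0, 3, 4), (0, 2, 3, 0), (0, 5, 6, 0), (3, 0, 6, 7), (0, 8, 2, 0)], (0, 9, 0)),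
  ([(1, 0, 0, 0), (0, 1, 23, 0), (0, 0, 5, 0), (0, 2, 5, 0), (3, 0, 3, 4), (0, 2, 8, 0), (0, 5, 13, 0), (3, 0, 6, 7), (0, 8, 30, 0)], (0, 9, 0)),
  ([(1, 0, 0, 0), (0, 1, 23, 0), (0, 2, 4, 0), (3, 0, 2, 3), (0, 4, 4, 0)], (0, 5, 0)),
  ([(1, 0, 0, 0), (0, 1, 23, 0), (0, 0, 5, 0), (0, 2, 5, 0), (3, 0, 3, 4), (0, 2, 6, 0), (0, 5, 3, 0), (3, 0, 6, 7), (0, 8, 17, 0)], (0, 9, 0)),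
  ([(1, 0, 0, 0), (0, 1, 23, 0), (0, 0, 5, 0), (0, 2, 5, 0), (3, 0, 3, 4), (0, 2, 10, 0), (0, 5, 15, 0), (3, 0, 6, 7), (0, 8, 28, 0)], (0, 9, 0)),
  ([(1, 0, 0, 0), (0, 1, 23, 0), (0, 2, 22, 0), (0, 2, 19, 0), (3, 0, 3, 4), (0, 5, 8, 0)], (0, 6, 0)),
  ([(1, 0, 0, 0), (0, 1, 23, 0), (0, 2, 9, 0), (0, 2, 12, 0), (3, 0, 3, 4), (0, 5, 9, 0)], (0, 6, 0)),
  ([(1, 0, 0, 0), (0, 1, 23, 0), (0, 0, 5, 0), (0, 2, 5, 0), (3, 0, 3, 4), (0, 2, 9, 0), (0, 5, 12, 0), (3, 0, 6, 7), (0, 8, 9, 0)], (0, 9, 0)),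
  ([(1, 0, 0, 0), (0, 1, 23, 0), (0, 2, 2, 0), (0, 2, 7, 0), (3, 0, 3, 4), (0, 5, 19, 0)], (0, 6, 0)),
  ([(1, 0, 0, 0), (0, 1, 23, 0), (0, 0, 5, 0), (0, 2, 5, 0), (3, 0, 3, 4), (0, 2, 19, 0), (0, 5, 22, 0), (3, 0, 6, 7), (0, 8, 18, 0)], (0, 9, 0)),
  ([(1, 0, 0, 0), (0, 1, 23, 0), (0, 0, 5, 0), (0, 2, 5, 0), (3, 0, 3, 4), (0, 2, 2, 0), (0, 5, 7, 0), (3, 0, 6, 7), (0, 8, 19, 0)], (0, 9, 0)),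
  ([(1, 0, 0, 0), (0, 1, 23, 0), (0, 2, 10, 0), (0, 2, 15, 0), (3, 0, 3, 4), (0, 5, 28, 0)], (0, 6, 0)),
  ([(1, 0, 0, 0), (0, 1, 23, 0), (0, 2, 7, 0), (0, 2, 2, 0), (3, 0, 3, 4), (0, 5, 31, 0)], (0, 6, 0)),
  ([(1, 0, 0, 0), (0, 1, 23, 0), (0, 2, 11, 0), (0, 2, 14, 0), (3, 0, 3, 4), (0, 5, 27, 0)], (0, 6, 0)),
  ([(1, 0, 0, 0), (0, 1, 23, 0), (0, 0, 5, 0), (0, 2, 5, 0), (3, 0, 3, 4), (0, 5, 17, 0)], (2, 2, 6)),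
  ([(1, 0, 0, 0), (0, 1, 23, 0), (0, 2, 25, 0), (0, 2, 28, 0), (3, 0, 3, 4), (0, 5, 22, 0)], (0, 6, 0)),
  ([(1, 0, 0, 0), (0, 1, 23, 0), (0, 0, 5, 0), (0, 2, 5, 0), (3, 0, 3, 4), (0, 2, 4, 0), (3, 0, 6, 5), (0, 7, 12, 0)], (0, 8, 0))]

/-- Refutations, first coordinate 6. -/
def case5_3_6 : List (List (ℕ × ℕ × ℕ × ℕ) × (ℕ × ℕ × ℕ)) := [
  ([(1, 0, 0, 0), (0, 1, 14, 0), (0, 0, 6, 0), (0, 2, 6, 0), (3, 0, 3, 4), (0, 0, 20, 0), (0, 5, 20, 0), (3, 2, 6, 7), (0, 8, 13, 0), (0, 2, 2, 0), (0, 9, 22, 0), (3, 2, 10, 11), (0, 2, 7, 0), (0, 12, 19, 0), (3, 2, 13, 14), (0, 2, 11, 0), (0, 15, 31, 0), (3, 2, 16, 17), (0, 2, 20, 0), (0, 0, 20, 0), (3, 2, 19, 20), (0, 5, 8, 0), (0, 18, 28, 0), (3, 2, 22, 23), (0, 24, 21, 0), (0, 5, 9, 0),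 (0, 21, 29, 0), (3, 2, 26, 27), (0, 28, 10, 0)], (0, 29, 25)),
  ([(1, 0, 0, 0), (0, 1, 14, 0), (0, 0, 6, 0), (0, 2, 6, 0), (3, 0, 3, 4), (0, 2, 13, 0), (0, 5, 11, 0), (3, 0, 6, 7), (0, 8, 22, 0)], (0, 9, 0)),
  ([(1, 0, 0, 0), (0, 1, 14, 0), (0, 0, 6, 0), (0, 2, 6, 0), (3, 0, 3, 4), (0, 2, 4, 0), (0, 5, 2, 0), (3, 0, 6, 7), (0, 8, 17, 0)], (0, 9, 0)),
  ([(1, 0, 0, 0), (0, 1, 14, 0), (0, 2, 25, 0), (0, 2, 31, 0), (3, 0, 3, 4), (0, 5, 31, 0)], (0, 6, 0)),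
  ([(1, 0, 0, 0), (0, 1, 14, 0), (0, 2, 8, 0), (0, 2, 14, 0), (3, 0, 3, 4), (0, 5, 10, 0)], (0, 6, 0)),
  ([(1, 0, 0, 0), (0, 1, 14, 0), (0, 0, 6, 0), (0, 2, 6, 0), (3, 0, 3, 4), (0, 2, 17, 0), (0, 5, 23, 0), (3, 0, 6, 7), (0, 8, 27, 0)], (0, 9, 0)),
  ([(1, 0, 0, 0), (0, 1, 14, 0), (0, 2, 3, 0), (0, 2, 5, 0), (3, 0, 3, 4), (0, 5, 14, 0)], (0, 6, 0)),
  ([(1, 0, 0, 0), (0, 1, 14, 0), (0, 0, 6, 0), (0, 2, 6, 0), (3, 0, 3, 4), (0, 2, 3, 0), (0, 5, 5, 0), (3, 0, 6, 7), (0, 8, 14, 0)], (0, 9, 0)),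
  ([(1, 0, 0, 0), (0, 1, 14, 0), (0, 0, 6, 0), (0, 2, 6, 0), (3, 0, 3, 4), (0, 2, 29, 0), (0, 5, 27, 0), (3, 0, 6, 7), (0, 8, 4, 0)], (0, 9, 0)),
  ([(1, 0, 0, 0), (0, 1, 14, 0), (0, 0, 6, 0), (0, 2, 6, 0), (3, 0, 3, 4), (0, 2, 8, 0), (0, 5, 14, 0), (3, 0, 6, 7), (0, 8, 10, 0)], (0, 9, 0)),
  ([(1, 0, 0, 0), (0, 1, 14, 0), (0, 0, 6, 0), (0, 2, 6, 0), (3, 0, 3, 4), (0, 2, 19, 0), (0, 5, 21, 0), (3, 0, 6, 7), (0, 8, 30, 0)], (0, 9, 0)),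
  ([(1, 0, 0, 0), (0, 1, 14, 0), (0, 2, 15, 0), (0, 2, 9, 0), (3, 0, 3, 4), (0, 5, 24, 0)], (0, 6, 0)),
  ([(1, 0, 0, 0), (0, 1, 14, 0), (0, 2, 7, 0), (3, 0, 2, 3), (0, 4, 18, 0)], (0, 5, 0)),
  ([(1, 0, 0, 0), (0, 1, 14, 0), (0, 0, 6, 0), (0, 2, 6, 0), (3, 0, 3, 4), (0, 2, 9, 0), (0, 5, 15, 0), (3, 0, 6, 7), (0, 8, 29, 0)], (0, 9, 0)),
  ([(1, 0, 0, 0), (0, 1, 14, 0), (0, 2, 29, 0), (0, 2, 27, 0), (3, 0, 3, 4), (0, 5, 4, 0)], (0, 6, 0)),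
  ([(1, 0, 0, 0), (0, 1, 14, 0), (0, 0, 6, 0), (0, 2, 6, 0), (3, 0, 3, 4), (0, 5, 7, 0), (3, 0, 2, 6), (0, 7, 18, 0)], (0, 8, 0)),
  ([(1, 0, 0, 0), (0, 1, 14, 0), (0, 0, 6, 0), (0, 2, 6, 0), (3, 0, 3, 4), (0, 2, 25, 0), (0, 5, 31, 0), (3, 0, 6, 7), (0, 8, 31, 0)], (0, 9, 0)),
  ([(1, 0, 0, 0), (0, 1, 14, 0), (0, 0, 6, 0), (0, 2, 6, 0), (3, 0, 3, 4), (0, 2, 21, 0), (0, 5, 19, 0), (3, 0, 6, 7), (0, 8, 15, 0)], (0, 9, 0)),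
  ([(1, 0, 0, 0), (0, 1, 14, 0), (0, 0, 6, 0), (0, 2, 6, 0), (3, 0, 3, 4), (0, 2, 14, 0), (0, 5, 8, 0), (3, 0, 6, 7), (0, 8, 9, 0)], (0, 9, 0)),
  ([(1, 0, 0, 0), (0, 1, 14, 0), (0, 2, 21, 0), (0, 2, 19, 0), (3, 0, 3, 4), (0, 5, 15, 0)], (0, 6, 0)),
  ([(1, 0, 0, 0), (0, 1, 14, 0), (0, 0, 6, 0), (0, 2, 6, 0), (3, 0, 3, 4), (0, 2, 7, 0), (3, 0, 6, 5), (0, 7, 8, 0)], (0, 8, 0)),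
  ([(1, 0, 0, 0), (0, 1, 14, 0), (0, 2, 19, 0), (0, 2, 21, 0), (3, 0, 3, 4), (0, 5, 30, 0)], (0, 6, 0)),
  ([(1, 0, 0, 0), (0, 1, 14, 0), (0, 0, 6, 0), (0, 2, 6, 0), (3, 0, 3, 4), (0, 2, 15, 0), (0, 5, 9, 0), (3, 0, 6, 7), (0, 8, 24, 0)], (0, 9, 0)),
  ([(1, 0, 0, 0), (0, 1, 14, 0), (0, 2, 13, 0), (0, 2, 11, 0), (3, 0, 3, 4), (0, 5, 22, 0)], (0, 6, 0)),
  ([(1, 0, 0, 0), (0, 1, 14, 0), (0, 2, 9, 0), (0, 2, 15, 0), (3, 0, 3, 4), (0, 5, 29, 0)], (0, 6, 0)),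
  ([(1, 0, 0, 0), (0, 1, 14, 0), (0, 0, 6, 0), (0, 2, 6, 0), (3, 0, 3, 4), (0, 2, 2, 0), (0, 5, 4, 0), (3, 0, 6, 7), (0, 8, 2, 0)], (0, 9, 0)),
  ([(1, 0, 0, 0), (0, 1, 14, 0), (0, 2, 7, 0), (3, 0, 3, 2), (0, 4, 8, 0)], (0, 5, 0)),
  ([(1, 0, 0, 0), (0, 1, 14, 0), (0, 0, 6, 0), (0, 2, 6, 0), (3, 0, 3, 4), (0, 0, 20, 0), (0, 5, 20, 0), (3, 2, 6, 7), (0, 8, 13, 0), (0, 5, 8, 0), (0, 9, 28, 0), (3, 2, 10, 11), (0, 12, 21, 0)], (0, 13, 2)),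
  ([(1, 0, 0, 0), (0, 1, 14, 0), (0, 2, 4, 0), (0, 2, 2, 0), (3, 0, 3, 4), (0, 5, 17, 0)], (0, 6, 0)),
  ([(1, 0, 0, 0), (0, 1, 14, 0), (0, 2, 2, 0), (0, 2, 4, 0), (3, 0, 3, 4), (0, 5, 2, 0)], (0, 6, 0)),
  ([(1, 0, 0, 0), (0, 1, 14, 0), (0, 2, 14, 0), (0, 2, 8, 0), (3, 0, 3, 4), (0, 5, 9, 0)], (0, 6, 0)),
  ([(1, 0, 0, 0), (0, 1, 14, 0), (0, 2, 17, 0), (0, 2, 23, 0), (3, 0, 3, 4), (0, 5, 27, 0)], (0, 6, 0))]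

/-- Refutations, first coordinate 7. -/
def case5_3_7 : List (List (ℕ × ℕ × ℕ × ℕ) × (ℕ × ℕ × ℕ)) := [
  ([(1, 0, 0, 0), (0, 1, 12, 0), (0, 0, 7, 0), (0, 2, 7, 0), (3, 0, 3, 4), (0, 5, 21, 0)], (2, 2, 6)),
  ([(1, 0, 0, 0), (0, 1, 12, 0), (0, 2, 13, 0), (0, 2, 10, 0), (3, 0, 3, 4), (0, 5, 12, 0)], (0, 6, 0)),
  ([(1, 0, 0, 0), (0, 1, 12, 0), (0, 2, 14, 0), (0, 2, 9, 0), (3, 0, 3, 4), (0, 5, 28, 0)], (0, 6, 0)),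
  ([(1, 0, 0, 0), (0, 1, 12, 0), (0, 2, 20, 0), (0, 2, 19, 0), (3, 0, 3, 4), (0, 5, 19, 0)], (0, 6, 0)),
  ([(1, 0, 0, 0), (0, 1, 12, 0), (0, 2, 10, 0), (0, 2, 13, 0), (3, 0, 3, 4), (0, 5, 4, 0)], (0, 6, 0)),
  ([(1, 0, 0, 0), (0, 1, 12, 0), (0, 2, 4, 0), (0, 2, 3, 0), (3, 0, 3, 4), (0, 5, 27, 0)], (0, 6, 0)),
  ([(1, 0, 0, 0), (0, 1, 12, 0), (0, 2, 11, 0), (0, 2, 12, 0), (3, 0, 3, 4), (0, 5, 21, 0)], (0, 6, 0)),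
  ([(1, 0, 0, 0), (0, 1, 12, 0), (0, 0, 7, 0), (0, 2, 7, 0), (3, 0, 3, 4), (0, 2, 2, 0), (0, 5, 5, 0), (3, 0, 6, 7), (0, 8, 16, 0)], (0, 9, 0)),
  ([(1, 0, 0, 0), (0, 1, 12, 0), (0, 0, 7, 0), (0, 2, 7, 0), (3, 0, 3, 4), (0, 2, 22, 0), (0, 5, 17, 0), (3, 0, 6, 7), (0, 8, 11, 0)], (0, 9, 0)),
  ([(1, 0, 0, 0), (0, 1, 12, 0), (0, 2, 2, 0), (0, 2, 5, 0), (3, 0, 3, 4), (0, 5, 16, 0)], (0, 6, 0)),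
  ([(1, 0, 0, 0), (0, 1, 12, 0), (0, 0, 7, 0), (0, 2, 7, 0), (3, 0, 3, 4), (0, 0, 21, 0), (0, 5, 21, 0), (3, 2, 6, 7), (0, 8, 15, 0), (0, 2, 31, 0), (0, 9, 10, 0), (3, 2, 10, 11)], (0, 12, 9)),
  ([(1, 0, 0, 0), (0, 1, 12, 0), (0, 0, 7, 0), (0, 2, 7, 0), (3, 0, 3, 4), (0, 2, 26, 0), (0, 5, 29, 0), (3, 0, 6, 7), (0, 8, 30, 0)], (0, 9, 0)),
  ([(1, 0, 0, 0), (0, 1, 12, 0), (0, 2, 3, 0), (0, 2, 4, 0), (3, 0, 3, 4), (0, 5, 5, 0)], (0, 6, 0)),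
  ([(1, 0, 0, 0), (0, 1, 12, 0), (0, 0, 7, 0), (0, 2, 7, 0), (3, 0, 3, 4), (0, 2, 5, 0), (0, 5, 2, 0), (3, 0, 6, 7), (0, 8, 26, 0)], (0, 9, 0)),
  ([(1, 0, 0, 0), (0, 1, 12, 0), (0, 2, 26, 0), (0, 2, 29, 0), (3, 0, 3, 4), (0, 5, 30, 0)], (0, 6, 0)),
  ([(1, 0, 0, 0), (0, 1, 12, 0), (0, 0, 7, 0), (0, 2, 7, 0), (3, 0, 3, 4), (0, 2, 11, 0), (0, 5, 12, 0), (3, 0, 6, 7), (0, 8, 21, 0)], (0, 9, 0)),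
  ([(1, 0, 0, 0), (0, 1, 12, 0), (0, 0, 7, 0), (0, 2, 7, 0), (3, 0, 3, 4), (0, 2, 9, 0), (0, 5, 14, 0), (3, 0, 6, 7), (0, 8, 6, 0)], (0, 9, 0)),
  ([(1, 0, 0, 0), (0, 1, 12, 0), (0, 2, 15, 0), (0, 2, 8, 0), (3, 0, 3, 4), (0, 5, 18, 0)], (0, 6, 0)),
  ([(1, 0, 0, 0), (0, 1, 12, 0), (0, 0, 7, 0), (0, 2, 7, 0), (3, 0, 3, 4), (0, 2, 6, 0), (3, 0, 6, 5), (0, 7, 7, 0)], (0, 8, 0)),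
  ([(1, 0, 0, 0), (0, 1, 12, 0), (0, 0, 7, 0), (0, 2, 7, 0), (3, 0, 3, 4), (0, 2, 20, 0), (0, 5, 19, 0), (3, 0, 6, 7), (0, 8, 19, 0)], (0, 9, 0)),
  ([(1, 0, 0, 0), (0, 1, 12, 0), (0, 0, 7, 0), (0, 2, 7, 0), (3, 0, 3, 4), (0, 2, 13, 0), (0, 5, 10, 0), (3, 0, 6, 7), (0, 8, 12, 0)], (0, 9, 0)),
  ([(1, 0, 0, 0), (0, 1, 12, 0), (0, 2, 22, 0), (0, 2, 17, 0), (3, 0, 3, 4), (0, 5, 11, 0)], (0, 6, 0)),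
  ([(1, 0, 0, 0), (0, 1, 12, 0), (0, 2, 6, 0), (3, 0, 3, 2), (0, 4, 7, 0)], (0, 5, 0)),
  ([(1, 0, 0, 0), (0, 1, 12, 0), (0, 0, 7, 0), (0, 2, 7, 0), (3, 0, 3, 4), (0, 2, 4, 0), (0, 5, 3, 0), (3, 0, 6, 7), (0, 8, 27, 0)], (0, 9, 0)),
  ([(1, 0, 0, 0), (0, 1, 12, 0), (0, 0, 7, 0), (0, 2, 7, 0), (3, 0, 3, 4), (0, 5, 6, 0), (3, 0, 2, 6), (0, 7, 22, 0)], (0, 8, 0)),
  ([(1, 0, 0, 0), (0, 1, 12, 0), (0, 2, 5, 0), (0, 2, 2, 0), (3, 0, 3, 4), (0, 5, 26, 0)], (0, 6, 0)),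
  ([(1, 0, 0, 0), (0, 1, 12, 0), (0, 0, 7, 0), (0, 2, 7, 0), (3, 0, 3, 4), (0, 2, 14, 0), (0, 5, 9, 0), (3, 0, 6, 7), (0, 8, 28, 0)], (0, 9, 0)),
  ([(1, 0, 0, 0), (0, 1, 12, 0), (0, 2, 6, 0), (3, 0, 2, 3), (0, 4, 22, 0)], (0, 5, 0)),
  ([(1, 0, 0, 0), (0, 1, 12, 0), (0, 0, 7, 0), (0, 2, 7, 0), (3, 0, 3, 4), (0, 2, 15, 0), (0, 5, 8, 0), (3, 0, 6, 7), (0, 8, 18, 0)], (0, 9, 0)),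
  ([(1, 0, 0, 0), (0, 1, 12, 0), (0, 0, 7, 0), (0, 2, 7, 0), (3, 0, 3, 4), (0, 2, 3, 0), (0, 5, 4, 0), (3, 0, 6, 7), (0, 8, 5, 0)], (0, 9, 0)),
  ([(1, 0, 0, 0), (0, 1, 12, 0), (0, 0, 7, 0), (0, 2, 7, 0), (3, 0, 3, 4), (0, 2, 10, 0), (0, 5, 13, 0), (3, 0, 6, 7), (0, 8, 4, 0)], (0, 9, 0)),
  ([(1, 0, 0, 0), (0, 1, 12, 0), (0, 2, 9, 0), (0, 2, 14, 0), (3, 0, 3, 4), (0, 5, 6, 0)], (0, 6, 0))]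

/-- Refutations, first coordinate 8. -/
def case5_3_8 : List (List (ℕ × ℕ × ℕ × ℕ) × (ℕ × ℕ × ℕ)) := [
  ([(1, 0, 0, 0), (0, 1, 22, 0), (0, 0, 8, 0), (0, 2, 8, 0), (3, 0, 3, 4), (0, 0, 10, 0), (0, 5, 10, 0), (3, 2, 6, 7), (0, 8, 5, 0), (0, 0, 24, 0), (0, 9, 10, 0), (3, 2, 10, 11), (0, 12, 19, 0)], (0, 13, 9)),
  ([(1, 0, 0, 0), (0, 1, 22, 0), (0, 0, 8, 0), (0, 2, 8, 0), (3, 0, 3, 4), (0, 2, 21, 0), (0, 5, 29, 0), (3, 0, 6, 7), (0, 8, 3, 0)], (0, 9, 0)),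
  ([(1, 0, 0, 0), (0, 1, 22, 0), (0, 2, 28, 0), (0, 2, 20, 0), (3, 0, 3, 4), (0, 5, 29, 0)], (0, 6, 0)),
  ([(1, 0, 0, 0), (0, 1, 22, 0), (0, 2, 7, 0), (0, 2, 15, 0), (3, 0, 3, 4), (0, 5, 7, 0)], (0, 6, 0)),
  ([(1, 0, 0, 0), (0, 1, 22, 0), (0, 2, 2, 0), (0, 2, 10, 0), (3, 0, 3, 4), (0, 5, 30, 0)], (0, 6, 0)),
  ([(1, 0, 0, 0), (0, 1, 22, 0), (0, 2, 24, 0), (0, 2, 16, 0), (3, 0, 3, 4), (0, 5, 6, 0)], (0, 6, 0)),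
  ([(1, 0, 0, 0), (0, 1, 22, 0), (0, 0, 8, 0), (0, 2, 8, 0), (3, 0, 3, 4), (0, 2, 28, 0), (0, 5, 20, 0), (3, 0, 6, 7), (0, 8, 29, 0)], (0, 9, 0)),
  ([(1, 0, 0, 0), (0, 1, 22, 0), (0, 0, 8, 0), (0, 2, 8, 0), (3, 0, 3, 4), (0, 2, 15, 0), (0, 5, 7, 0), (3, 0, 6, 7), (0, 8, 22, 0)], (0, 9, 0)),
  ([(1, 0, 0, 0), (0, 1, 22, 0), (0, 2, 21, 0), (0, 2, 29, 0), (3, 0, 3, 4), (0, 5, 3, 0)], (0, 6, 0)),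
  ([(1, 0, 0, 0), (0, 1, 22, 0), (0, 0, 8, 0), (0, 2, 8, 0), (3, 0, 3, 4), (0, 2, 22, 0), (0, 5, 30, 0), (3, 0, 6, 7), (0, 8, 26, 0)], (0, 9, 0)),
  ([(1, 0, 0, 0), (0, 1, 22, 0), (0, 2, 15, 0), (0, 2, 7, 0), (3, 0, 3, 4), (0, 5, 22, 0)], (0, 6, 0)),
  ([(1, 0, 0, 0), (0, 1, 22, 0), (0, 0, 8, 0), (0, 2, 8, 0), (3, 0, 3, 4), (0, 0, 10, 0), (0, 5, 10, 0), (3, 2, 6, 7), (0, 8, 5, 0), (0, 2, 31, 0), (0, 9, 21, 0), (3, 2, 10, 11), (0, 5, 8, 0), (0, 12, 2, 0), (3, 2, 13, 14), (0, 15, 15, 0)], (0, 16, 0)),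
  ([(1, 0, 0, 0), (0, 1, 22, 0), (0, 0, 8, 0), (0, 2, 8, 0), (3, 0, 3, 4), (0, 2, 7, 0), (0, 5, 15, 0), (3, 0, 6, 7), (0, 8, 7, 0)], (0, 9, 0)),
  ([(1, 0, 0, 0), (0, 1, 22, 0), (0, 2, 18, 0), (0, 2, 26, 0), (3, 0, 3, 4), (0, 5, 19, 0)], (0, 6, 0)),
  ([(1, 0, 0, 0), (0, 1, 22, 0), (0, 2, 12, 0), (0, 2, 4, 0), (3, 0, 3, 4), (0, 5, 11, 0)], (0, 6, 0)),
  ([(1, 0, 0, 0), (0, 1, 22, 0), (0, 2, 9, 0), (3, 0, 3, 2), (0, 4, 4, 0)], (0, 5, 0)),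
  ([(1, 0, 0, 0), (0, 1, 22, 0), (0, 2, 11, 0), (0, 2, 3, 0), (3, 0, 3, 4), (0, 5, 9, 0)], (0, 6, 0)),
  ([(1, 0, 0, 0), (0, 1, 22, 0), (0, 0, 8, 0), (0, 2, 8, 0), (3, 0, 3, 4), (0, 2, 11, 0), (0, 5, 3, 0), (3, 0, 6, 7), (0, 8, 9, 0)], (0, 9, 0)),
  ([(1, 0, 0, 0), (0, 1, 22, 0), (0, 2, 4, 0), (0, 2, 12, 0), (3, 0, 3, 4), (0, 5, 14, 0)], (0, 6, 0)),
  ([(1, 0, 0, 0), (0, 1, 22, 0), (0, 0, 8, 0), (0, 2, 8, 0), (3, 0, 3, 4), (0, 2, 2, 0), (0, 5, 10, 0), (3, 0, 6, 7), (0, 8, 30, 0)], (0, 9, 0)),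
  ([(1, 0, 0, 0), (0, 1, 22, 0), (0, 0, 8, 0), (0, 2, 8, 0), (3, 0, 3, 4), (0, 2, 18, 0), (0, 5, 26, 0), (3, 0, 6, 7), (0, 8, 19, 0)], (0, 9, 0)),
  ([(1, 0, 0, 0), (0, 1, 22, 0), (0, 0, 8, 0), (0, 2, 8, 0), (3, 0, 3, 4), (0, 2, 4, 0), (0, 5, 12, 0), (3, 0, 6, 7), (0, 8, 14, 0)], (0, 9, 0)),
  ([(1, 0, 0, 0), (0, 1, 22, 0), (0, 0, 8, 0), (0, 2, 8, 0), (3, 0, 3, 4), (0, 5, 9, 0), (3, 0, 2, 6), (0, 7, 12, 0)], (0, 8, 0)),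
  ([(1, 0, 0, 0), (0, 1, 22, 0), (0, 0, 8, 0), (0, 2, 8, 0), (3, 0, 3, 4), (0, 2, 14, 0), (0, 5, 6, 0), (3, 0, 6, 7), (0, 8, 25, 0)], (0, 9, 0)),
  ([(1, 0, 0, 0), (0, 1, 22, 0), (0, 2, 9, 0), (3, 0, 2, 3), (0, 4, 12, 0)], (0, 5, 0)),
  ([(1, 0, 0, 0), (0, 1, 22, 0), (0, 0, 8, 0), (0, 2, 8, 0), (3, 0, 3, 4), (0, 2, 24, 0), (0, 5, 16, 0), (3, 0, 6, 7), (0, 8, 6, 0)], (0, 9, 0)),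
  ([(1, 0, 0, 0), (0, 1, 22, 0), (0, 0, 8, 0), (0, 2, 8, 0), (3, 0, 3, 4), (0, 2, 3, 0), (0, 5, 11, 0), (3, 0, 6, 7), (0, 8, 10, 0)], (0, 9, 0)),
  ([(1, 0, 0, 0), (0, 1, 22, 0), (0, 2, 14, 0), (0, 2, 6, 0), (3, 0, 3, 4), (0, 5, 25, 0)], (0, 6, 0)),
  ([(1, 0, 0, 0), (0, 1, 22, 0), (0, 2, 3, 0), (0, 2, 11, 0), (3, 0, 3, 4), (0, 5, 10, 0)], (0, 6, 0)),
  ([(1, 0, 0, 0), (0, 1, 22, 0), (0, 0, 8, 0), (0, 2, 8, 0), (3, 0, 3, 4), (0, 2, 9, 0), (3, 0, 6, 5), (0, 7, 4, 0)], (0, 8, 0)),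
  ([(1, 0, 0, 0), (0, 1, 22, 0), (0, 0, 8, 0), (0, 2, 8, 0), (3, 0, 3, 4), (0, 2, 12, 0), (0, 5, 4, 0), (3, 0, 6, 7), (0, 8, 11, 0)], (0, 9, 0)),
  ([(1, 0, 0, 0), (0, 1, 22, 0), (0, 2, 22, 0), (0, 2, 30, 0), (3, 0, 3, 4), (0, 5, 26, 0)], (0, 6, 0))]

/-- Refutations, first coordinate 9. -/
def case5_3_9 : List (List (ℕ × ℕ × ℕ × ℕ) × (ℕ × ℕ × ℕ)) := [
  ([(1, 0, 0, 0), (0, 1, 4, 0), (0, 0, 9, 0), (0, 2, 9, 0), (3, 0, 3, 4), (0, 5, 11, 0)], (2, 2, 6)),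
  ([(1, 0, 0, 0), (0, 1, 4, 0), (0, 2, 8, 0), (3, 0, 3, 2), (0, 4, 20, 0)], (0, 5, 0)),
  ([(1, 0, 0, 0), (0, 1, 4, 0), (0, 2, 15, 0), (0, 2, 6, 0), (3, 0, 3, 4), (0, 5, 26, 0)], (0, 6, 0)),
  ([(1, 0, 0, 0), (0, 1, 4, 0), (0, 0, 9, 0), (0, 2, 9, 0), (3, 0, 3, 4), (0, 2, 6, 0), (0, 5, 15, 0), (3, 0, 6, 7), (0, 8, 16, 0)], (0, 9, 0)),
  ([(1, 0, 0, 0), (0, 1, 4, 0), (0, 0, 9, 0), (0, 2, 9, 0), (3, 0, 3, 4), (0, 2, 12, 0), (0, 5, 5, 0), (3, 0, 6, 7), (0, 8, 27, 0)], (0, 9, 0)),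
  ([(1, 0, 0, 0), (0, 1, 4, 0), (0, 2, 6, 0), (0, 2, 15, 0), (3, 0, 3, 4), (0, 5, 16, 0)], (0, 6, 0)),
  ([(1, 0, 0, 0), (0, 1, 4, 0), (0, 0, 9, 0), (0, 2, 9, 0), (3, 0, 3, 4), (0, 5, 8, 0), (3, 0, 2, 6), (0, 7, 23, 0)], (0, 8, 0)),
  ([(1, 0, 0, 0), (0, 1, 4, 0), (0, 2, 7, 0), (0, 2, 14, 0), (3, 0, 3, 4), (0, 5, 2, 0)], (0, 6, 0)),
  ([(1, 0, 0, 0), (0, 1, 4, 0), (0, 2, 8, 0), (3, 0, 2, 3), (0, 4, 23, 0)], (0, 5, 0)),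
  ([(1, 0, 0, 0), (0, 1, 4, 0), (0, 0, 9, 0), (0, 2, 9, 0), (3, 0, 3, 4), (0, 2, 14, 0), (0, 5, 7, 0), (3, 0, 6, 7), (0, 8, 17, 0)], (0, 9, 0)),
  ([(1, 0, 0, 0), (0, 1, 4, 0), (0, 0, 9, 0), (0, 2, 9, 0), (3, 0, 3, 4), (0, 2, 10, 0), (0, 5, 3, 0), (3, 0, 6, 7), (0, 8, 7, 0)], (0, 9, 0)),
  ([(1, 0, 0, 0), (0, 1, 4, 0), (0, 2, 5, 0), (0, 2, 12, 0), (3, 0, 3, 4), (0, 5, 5, 0)], (0, 6, 0)),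
  ([(1, 0, 0, 0), (0, 1, 4, 0), (0, 0, 9, 0), (0, 2, 9, 0), (3, 0, 3, 4), (0, 2, 17, 0), (0, 5, 24, 0), (3, 0, 6, 7), (0, 8, 18, 0)], (0, 9, 0)),
  ([(1, 0, 0, 0), (0, 1, 4, 0), (0, 2, 18, 0), (0, 2, 27, 0), (3, 0, 3, 4), (0, 5, 28, 0)], (0, 6, 0)),
  ([(1, 0, 0, 0), (0, 1, 4, 0), (0, 2, 12, 0), (0, 2, 5, 0), (3, 0, 3, 4), (0, 5, 27, 0)], (0, 6, 0)),
  ([(1, 0, 0, 0), (0, 1, 4, 0), (0, 2, 3, 0), (0, 2, 10, 0), (3, 0, 3, 4), (0, 5, 22, 0)], (0, 6, 0)),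
  ([(1, 0, 0, 0), (0, 1, 4, 0), (0, 2, 10, 0), (0, 2, 3, 0), (3, 0, 3, 4), (0, 5, 7, 0)], (0, 6, 0)),
  ([(1, 0, 0, 0), (0, 1, 4, 0), (0, 2, 14, 0), (0, 2, 7, 0), (3, 0, 3, 4), (0, 5, 17, 0)], (0, 6, 0)),
  ([(1, 0, 0, 0), (0, 1, 4, 0), (0, 2, 28, 0), (0, 2, 21, 0), (3, 0, 3, 4), (0, 5, 10, 0)], (0, 6, 0)),
  ([(1, 0, 0, 0), (0, 1, 4, 0), (0, 2, 17, 0), (0, 2, 24, 0), (3, 0, 3, 4), (0, 5, 18, 0)], (0, 6, 0)),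
  ([(1, 0, 0, 0), (0, 1, 4, 0), (0, 0, 9, 0), (0, 2, 9, 0), (3, 0, 3, 4), (0, 2, 2, 0), (0, 5, 11, 0), (3, 0, 6, 7), (0, 8, 15, 0)], (0, 9, 0)),
  ([(1, 0, 0, 0), (0, 1, 4, 0), (0, 0, 9, 0), (0, 2, 9, 0), (3, 0, 3, 4), (0, 2, 7, 0), (0, 5, 14, 0), (3, 0, 6, 7), (0, 8, 2, 0)], (0, 9, 0)),
  ([(1, 0, 0, 0), (0, 1, 4, 0), (0, 0, 9, 0), (0, 2, 9, 0), (3, 0, 3, 4), (0, 2, 3, 0), (0, 5, 10, 0), (3, 0, 6, 7), (0, 8, 22, 0)], (0, 9, 0)),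
  ([(1, 0, 0, 0), (0, 1, 4, 0), (0, 0, 9, 0), (0, 2, 9, 0), (3, 0, 3, 4), (0, 2, 28, 0), (0, 5, 21, 0), (3, 0, 6, 7), (0, 8, 10, 0)], (0, 9, 0)),
  ([(1, 0, 0, 0), (0, 1, 4, 0), (0, 0, 9, 0), (0, 2, 9, 0), (3, 0, 3, 4), (0, 2, 5, 0), (0, 5, 12, 0), (3, 0, 6, 7), (0, 8, 5, 0)], (0, 9, 0)),
  ([(1, 0, 0, 0), (0, 1, 4, 0), (0, 0, 9, 0), (0, 2, 9, 0), (3, 0, 3, 4), (0, 2, 4, 0), (0, 5, 13, 0), (3, 0, 6, 7), (0, 8, 24, 0)], (0, 9, 0)),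
  ([(1, 0, 0, 0), (0, 1, 4, 0), (0, 0, 9, 0), (0, 2, 9, 0), (3, 0, 3, 4), (0, 2, 8, 0), (3, 0, 6, 5), (0, 7, 20, 0)], (0, 8, 0)),
  ([(1, 0, 0, 0), (0, 1, 4, 0), (0, 0, 9, 0), (0, 2, 9, 0), (3, 0, 3, 4), (0, 2, 18, 0), (0, 5, 27, 0), (3, 0, 6, 7), (0, 8, 28, 0)], (0, 9, 0)),
  ([(1, 0, 0, 0), (0, 1, 4, 0), (0, 0, 9, 0), (0, 2, 9, 0), (3, 0, 3, 4), (0, 0, 11, 0), (0, 5, 11, 0), (3, 2, 6, 7), (0, 8, 23, 0), (0, 0, 17, 0), (0, 9, 11, 0), (3, 2, 10, 11), (0, 12, 12, 0), (0, 0, 23, 0), (0, 13, 11, 0), (3, 2, 14, 15), (0, 16, 4, 0), (0, 2, 29, 0), (0, 17, 22, 0), (3, 2, 18, 19)], (0, 20, 17)),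
  ([(1, 0, 0, 0), (0, 1, 4, 0), (0, 2, 2, 0), (0, 2, 11, 0), (3, 0, 3, 4), (0, 5, 15, 0)], (0, 6, 0)),
  ([(1, 0, 0, 0), (0, 1, 4, 0), (0, 2, 4, 0), (0, 2, 13, 0), (3, 0, 3, 4), (0, 5, 24, 0)], (0, 6, 0)),
  ([(1, 0, 0, 0), (0, 1, 4, 0), (0, 0, 9, 0), (0, 2, 9, 0), (3, 0, 3, 4), (0, 2, 15, 0), (0, 5, 6, 0), (3, 0, 6, 7), (0, 8, 26, 0)], (0, 9, 0))]

/-- Refutations, first coordinate 10. -/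
def case5_3_10 : List (List (ℕ × ℕ × ℕ × ℕ) × (ℕ × ℕ × ℕ)) := [
  ([(1, 0, 0, 0), (0, 1, 25, 0), (0, 0, 10, 0), (0, 2, 10, 0), (3, 0, 3, 4), (0, 0, 14, 0), (0, 5, 14, 0), (3, 2, 6, 7), (0, 8, 17, 0), (0, 2, 20, 0), (0, 9, 26, 0), (3, 2, 10, 11)], (0, 12, 9)),
  ([(1, 0, 0, 0), (0, 1, 25, 0), (0, 2, 18, 0), (0, 2, 24, 0), (3, 0, 3, 4), (0, 5, 9, 0)], (0, 6, 0)),
  ([(1, 0, 0, 0), (0, 1, 25, 0), (0, 0, 10, 0), (0, 2, 10, 0), (3, 0, 3, 4), (0, 2, 6, 0), (0, 5, 12, 0), (3, 0, 6, 7), (0, 8, 2, 0)], (0, 9, 0)),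
  ([(1, 0, 0, 0), (0, 1, 25, 0), (0, 0, 10, 0), (0, 2, 10, 0), (3, 0, 3, 4), (0, 2, 5, 0), (0, 5, 15, 0), (3, 0, 6, 7), (0, 8, 14, 0)], (0, 9, 0)),
  ([(1, 0, 0, 0), (0, 1, 25, 0), (0, 0, 10, 0), (0, 2, 10, 0), (3, 0, 3, 4), (0, 2, 19, 0), (0, 5, 25, 0), (3, 0, 6, 7), (0, 8, 13, 0)], (0, 9, 0)),
  ([(1, 0, 0, 0), (0, 1, 25, 0), (0, 2, 21, 0), (0, 2, 31, 0), (3, 0, 3, 4), (0, 5, 21, 0)], (0, 6, 0)),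
  ([(1, 0, 0, 0), (0, 1, 25, 0), (0, 2, 2, 0), (0, 2, 8, 0), (3, 0, 3, 4), (0, 5, 4, 0)], (0, 6, 0)),
  ([(1, 0, 0, 0), (0, 1, 25, 0), (0, 2, 11, 0), (3, 0, 2, 3), (0, 4, 26, 0)], (0, 5, 0)),
  ([(1, 0, 0, 0), (0, 1, 25, 0), (0, 0, 10, 0), (0, 2, 10, 0), (3, 0, 3, 4), (0, 2, 4, 0), (0, 5, 14, 0), (3, 0, 6, 7), (0, 8, 19, 0)], (0, 9, 0)),
  ([(1, 0, 0, 0), (0, 1, 25, 0), (0, 0, 10, 0), (0, 2, 10, 0), (3, 0, 3, 4), (0, 2, 13, 0), (0, 5, 7, 0), (3, 0, 6, 7), (0, 8, 23, 0)], (0, 9, 0)),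
  ([(1, 0, 0, 0), (0, 1, 25, 0), (0, 0, 10, 0), (0, 2, 10, 0), (3, 0, 3, 4), (0, 2, 18, 0), (0, 5, 24, 0), (3, 0, 6, 7), (0, 8, 9, 0)], (0, 9, 0)),
  ([(1, 0, 0, 0), (0, 1, 25, 0), (0, 2, 3, 0), (0, 2, 9, 0), (3, 0, 3, 4), (0, 5, 18, 0)], (0, 6, 0)),
  ([(1, 0, 0, 0), (0, 1, 25, 0), (0, 2, 12, 0), (0, 2, 6, 0), (3, 0, 3, 4), (0, 5, 17, 0)], (0, 6, 0)),
  ([(1, 0, 0, 0), (0, 1, 25, 0), (0, 0, 10, 0), (0, 2, 10, 0), (3, 0, 3, 4), (0, 2, 12, 0), (0, 5, 6, 0), (3, 0, 6, 7), (0, 8, 17, 0)], (0, 9, 0)),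
  ([(1, 0, 0, 0), (0, 1, 25, 0), (0, 0, 10, 0), (0, 2, 10, 0), (3, 0, 3, 4), (0, 2, 22, 0), (0, 5, 28, 0), (3, 0, 6, 7), (0, 8, 27, 0)], (0, 9, 0)),
  ([(1, 0, 0, 0), (0, 1, 25, 0), (0, 0, 10, 0), (0, 2, 10, 0), (3, 0, 3, 4), (0, 0, 14, 0), (0, 5, 14, 0), (3, 2, 6, 7), (0, 8, 17, 0), (0, 2, 18, 0), (0, 9, 28, 0), (3, 2, 10, 11), (0, 2, 28, 0), (0, 12, 18, 0), (3, 2, 13, 14), (0, 5, 4, 0), (0, 15, 10, 0), (3, 2, 16, 17), (0, 18, 24, 0), (0, 5, 8, 0), (0, 19, 6, 0), (3, 2, 20, 21), (0, 22, 4, 0)], (0, 23, 15)),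
  ([(1, 0, 0, 0), (0, 1, 25, 0), (0, 2, 4, 0), (0, 2, 14, 0), (3, 0, 3, 4), (0, 5, 19, 0)], (0, 6, 0)),
  ([(1, 0, 0, 0), (0, 1, 25, 0), (0, 0, 10, 0), (0, 2, 10, 0), (3, 0, 3, 4), (0, 2, 2, 0), (0, 5, 8, 0), (3, 0, 6, 7), (0, 8, 4, 0)], (0, 9, 0)),
  ([(1, 0, 0, 0), (0, 1, 25, 0), (0, 0, 10, 0), (0, 2, 10, 0), (3, 0, 3, 4), (0, 2, 3, 0), (0, 5, 9, 0), (3, 0, 6, 7), (0, 8, 18, 0)], (0, 9, 0)),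
  ([(1, 0, 0, 0), (0, 1, 25, 0), (0, 2, 8, 0), (0, 2, 2, 0), (3, 0, 3, 4), (0, 5, 12, 0)], (0, 6, 0)),
  ([(1, 0, 0, 0), (0, 1, 25, 0), (0, 2, 19, 0), (0, 2, 25, 0), (3, 0, 3, 4), (0, 5, 13, 0)], (0, 6, 0)),
  ([(1, 0, 0, 0), (0, 1, 25, 0), (0, 2, 22, 0), (0, 2, 28, 0), (3, 0, 3, 4), (0, 5, 27, 0)], (0, 6, 0)),
  ([(1, 0, 0, 0), (0, 1, 25, 0), (0, 0, 10, 0), (0, 2, 10, 0), (3, 0, 3, 4), (0, 2, 11, 0), (3, 0, 6, 5), (0, 7, 16, 0)], (0, 8, 0)),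
  ([(1, 0, 0, 0), (0, 1, 25, 0), (0, 2, 5, 0), (0, 2, 15, 0), (3, 0, 3, 4), (0, 5, 14, 0)], (0, 6, 0)),
  ([(1, 0, 0, 0), (0, 1, 25, 0), (0, 2, 6, 0), (0, 2, 12, 0), (3, 0, 3, 4), (0, 5, 2, 0)], (0, 6, 0)),
  ([(1, 0, 0, 0), (0, 1, 25, 0), (0, 0, 10, 0), (0, 2, 10, 0), (3, 0, 3, 4), (0, 5, 11, 0), (3, 0, 2, 6), (0, 7, 26, 0)], (0, 8, 0)),
  ([(1, 0, 0, 0), (0, 1, 25, 0), (0, 0, 10, 0), (0, 2, 10, 0), (3, 0, 3, 4), (0, 2, 21, 0), (0, 5, 31, 0), (3, 0, 6, 7), (0, 8, 21, 0)], (0, 9, 0)),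
  ([(1, 0, 0, 0), (0, 1, 25, 0), (0, 2, 9, 0), (0, 2, 3, 0), (3, 0, 3, 4), (0, 5, 8, 0)], (0, 6, 0)),
  ([(1, 0, 0, 0), (0, 1, 25, 0), (0, 2, 13, 0), (0, 2, 7, 0), (3, 0, 3, 4), (0, 5, 23, 0)], (0, 6, 0)),
  ([(1, 0, 0, 0), (0, 1, 25, 0), (0, 0, 10, 0), (0, 2, 10, 0), (3, 0, 3, 4), (0, 2, 9, 0), (0, 5, 3, 0), (3, 0, 6, 7), (0, 8, 8, 0)], (0, 9, 0)),
  ([(1, 0, 0, 0), (0, 1, 25, 0), (0, 0, 10, 0), (0, 2, 10, 0), (3, 0, 3, 4), (0, 2, 8, 0), (0, 5, 2, 0), (3, 0, 6, 7), (0, 8, 12, 0)], (0, 9, 0)),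
  ([(1, 0, 0, 0), (0, 1, 25, 0), (0, 2, 11, 0), (3, 0, 3, 2), (0, 4, 16, 0)], (0, 5, 0))]

/-- Refutations, first coordinate 11. -/
def case5_3_11 : List (List (ℕ × ℕ × ℕ × ℕ) × (ℕ × ℕ × ℕ)) := [
  ([(1, 0, 0, 0), (0, 1, 16, 0), (0, 0, 11, 0), (0, 2, 11, 0), (3, 0, 3, 4), (0, 0, 15, 0), (0, 5, 15, 0), (3, 2, 6, 7), (0, 8, 24, 0), (0, 0, 17, 0), (0, 9, 15, 0), (3, 2, 10, 11), (0, 12, 2, 0), (0, 2, 8, 0), (0, 13, 7, 0), (3, 2, 14, 15), (0, 5, 5, 0), (0, 16, 10, 0), (3, 2, 17, 18), (0, 19, 30, 0), (0, 5, 13, 0), (0, 9, 2, 0), (3, 2, 21, 22), (0, 23, 12, 0)], (0, 24, 20)),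
  ([(1, 0, 0, 0), (0, 1, 16, 0), (0, 2, 10, 0), (3, 0, 3, 2), (0, 4, 29, 0)], (0, 5, 0)),
  ([(1, 0, 0, 0), (0, 1, 16, 0), (0, 0, 11, 0), (0, 2, 11, 0), (3, 0, 3, 4), (0, 2, 9, 0), (0, 5, 2, 0), (3, 0, 6, 7), (0, 8, 23, 0)], (0, 9, 0)),
  ([(1, 0, 0, 0), (0, 1, 16, 0), (0, 0, 11, 0), (0, 2, 11, 0), (3, 0, 3, 4), (0, 2, 10, 0), (3, 0, 6, 5), (0, 7, 29, 0)], (0, 8, 0)),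
  ([(1, 0, 0, 0), (0, 1, 16, 0), (0, 0, 11, 0), (0, 2, 11, 0), (3, 0, 3, 4), (0, 2, 13, 0), (0, 5, 6, 0), (3, 0, 6, 7), (0, 8, 18, 0)], (0, 9, 0)),
  ([(1, 0, 0, 0), (0, 1, 16, 0), (0, 0, 11, 0), (0, 2, 11, 0), (3, 0, 3, 4), (0, 2, 20, 0), (0, 5, 31, 0), (3, 0, 6, 7), (0, 8, 13, 0)], (0, 9, 0)),
  ([(1, 0, 0, 0), (0, 1, 16, 0), (0, 2, 6, 0), (0, 2, 13, 0), (3, 0, 3, 4), (0, 5, 8, 0)], (0, 6, 0)),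
  ([(1, 0, 0, 0), (0, 1, 16, 0), (0, 0, 11, 0), (0, 2, 11, 0), (3, 0, 3, 4), (0, 2, 17, 0), (0, 5, 26, 0), (3, 0, 6, 7), (0, 8, 17, 0)], (0, 9, 0)),
  ([(1, 0, 0, 0), (0, 1, 16, 0), (0, 0, 11, 0), (0, 2, 11, 0), (3, 0, 3, 4), (0, 2, 8, 0), (0, 5, 3, 0), (3, 0, 6, 7), (0, 8, 5, 0)], (0, 9, 0)),
  ([(1, 0, 0, 0), (0, 1, 16, 0), (0, 0, 11, 0), (0, 2, 11, 0), (3, 0, 3, 4), (0, 2, 22, 0), (0, 5, 29, 0), (3, 0, 6, 7), (0, 8, 28, 0)], (0, 9, 0)),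
  ([(1, 0, 0, 0), (0, 1, 16, 0), (0, 2, 10, 0), (3, 0, 2, 3), (0, 4, 24, 0)], (0, 5, 0)),
  ([(1, 0, 0, 0), (0, 1, 16, 0), (0, 2, 18, 0), (0, 2, 25, 0), (3, 0, 3, 4), (0, 5, 15, 0)], (0, 6, 0)),
  ([(1, 0, 0, 0), (0, 1, 16, 0), (0, 0, 11, 0), (0, 2, 11, 0), (3, 0, 3, 4), (0, 2, 18, 0), (0, 5, 25, 0), (3, 0, 6, 7), (0, 8, 15, 0)], (0, 9, 0)),
  ([(1, 0, 0, 0), (0, 1, 16, 0), (0, 0, 11, 0), (0, 2, 11, 0), (3, 0, 3, 4), (0, 2, 7, 0), (0, 5, 12, 0), (3, 0, 6, 7), (0, 8, 10, 0)], (0, 9, 0)),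
  ([(1, 0, 0, 0), (0, 1, 16, 0), (0, 2, 7, 0), (0, 2, 12, 0), (3, 0, 3, 4), (0, 5, 10, 0)], (0, 6, 0)),
  ([(1, 0, 0, 0), (0, 1, 16, 0), (0, 2, 17, 0), (0, 2, 26, 0), (3, 0, 3, 4), (0, 5, 17, 0)], (0, 6, 0)),
  ([(1, 0, 0, 0), (0, 1, 16, 0), (0, 0, 11, 0), (0, 2, 11, 0), (3, 0, 3, 4), (0, 2, 26, 0), (0, 5, 17, 0), (3, 0, 6, 7), (0, 8, 2, 0)], (0, 9, 0)),
  ([(1, 0, 0, 0), (0, 1, 16, 0), (0, 2, 20, 0), (0, 2, 31, 0), (3, 0, 3, 4), (0, 5, 13, 0)], (0, 6, 0)),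
  ([(1, 0, 0, 0), (0, 1, 16, 0), (0, 2, 13, 0), (0, 2, 6, 0), (3, 0, 3, 4), (0, 5, 18, 0)], (0, 6, 0)),
  ([(1, 0, 0, 0), (0, 1, 16, 0), (0, 0, 11, 0), (0, 2, 11, 0), (3, 0, 3, 4), (0, 2, 6, 0), (0, 5, 13, 0), (3, 0, 6, 7), (0, 8, 8, 0)], (0, 9, 0)),
  ([(1, 0, 0, 0), (0, 1, 16, 0), (0, 0, 11, 0), (0, 2, 11, 0), (3, 0, 3, 4), (0, 5, 10, 0), (3, 0, 2, 6), (0, 7, 24, 0)], (0, 8, 0)),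
  ([(1, 0, 0, 0), (0, 1, 16, 0), (0, 0, 11, 0), (0, 2, 11, 0), (3, 0, 3, 4), (0, 2, 2, 0), (0, 5, 9, 0), (3, 0, 6, 7), (0, 8, 20, 0)], (0, 9, 0)),
  ([(1, 0, 0, 0), (0, 1, 16, 0), (0, 2, 4, 0), (0, 2, 15, 0), (3, 0, 3, 4), (0, 5, 31, 0)], (0, 6, 0)),
  ([(1, 0, 0, 0), (0, 1, 16, 0), (0, 0, 11, 0), (0, 2, 11, 0), (3, 0, 3, 4), (0, 5, 15, 0)], (2, 2, 6)),
  ([(1, 0, 0, 0), (0, 1, 16, 0), (0, 2, 22, 0), (0, 2, 29, 0), (3, 0, 3, 4), (0, 5, 28, 0)], (0, 6, 0)),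
  ([(1, 0, 0, 0), (0, 1, 16, 0), (0, 2, 3, 0), (0, 2, 8, 0), (3, 0, 3, 4), (0, 5, 27, 0)], (0, 6, 0)),
  ([(1, 0, 0, 0), (0, 1, 16, 0), (0, 2, 8, 0), (0, 2, 3, 0), (3, 0, 3, 4), (0, 5, 5, 0)], (0, 6, 0)),
  ([(1, 0, 0, 0), (0, 1, 16, 0), (0, 2, 9, 0), (0, 2, 2, 0), (3, 0, 3, 4), (0, 5, 23, 0)], (0, 6, 0)),
  ([(1, 0, 0, 0), (0, 1, 16, 0), (0, 2, 2, 0), (0, 2, 9, 0), (3, 0, 3, 4), (0, 5, 20, 0)], (0, 6, 0)),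
  ([(1, 0, 0, 0), (0, 1, 16, 0), (0, 0, 11, 0), (0, 2, 11, 0), (3, 0, 3, 4), (0, 2, 4, 0), (0, 5, 15, 0), (3, 0, 6, 7), (0, 8, 31, 0)], (0, 9, 0)),
  ([(1, 0, 0, 0), (0, 1, 16, 0), (0, 2, 26, 0), (0, 2, 17, 0), (3, 0, 3, 4), (0, 5, 2, 0)], (0, 6, 0)),
  ([(1, 0, 0, 0), (0, 1, 16, 0), (0, 0, 11, 0), (0, 2, 11, 0), (3, 0, 3, 4), (0, 2, 3, 0), (0, 5, 8, 0), (3, 0, 6, 7), (0, 8, 27, 0)], (0, 9, 0))]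

/-- Refutations, first coordinate 12. -/
def case5_3_12 : List (List (ℕ × ℕ × ℕ × ℕ) × (ℕ × ℕ × ℕ)) := [
  ([(1, 0, 0, 0), (0, 1, 7, 0), (0, 0, 12, 0), (0, 2, 12, 0), (3, 0, 3, 4), (0, 5, 26, 0)], (2, 2, 6)),
  ([(1, 0, 0, 0), (0, 1, 7, 0), (0, 2, 3, 0), (0, 2, 15, 0), (3, 0, 3, 4), (0, 5, 30, 0)], (0, 6, 0)),
  ([(1, 0, 0, 0), (0, 1, 7, 0), (0, 0, 12, 0), (0, 2, 12, 0), (3, 0, 3, 4), (0, 2, 2, 0), (0, 5, 14, 0), (3, 0, 6, 7), (0, 8, 18, 0)], (0, 9, 0)),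
  ([(1, 0, 0, 0), (0, 1, 7, 0), (0, 2, 14, 0), (0, 2, 2, 0), (3, 0, 3, 4), (0, 5, 8, 0)], (0, 6, 0)),
  ([(1, 0, 0, 0), (0, 1, 7, 0), (0, 0, 12, 0), (0, 2, 12, 0), (3, 0, 3, 4), (0, 2, 11, 0), (0, 5, 7, 0), (3, 0, 6, 7), (0, 8, 5, 0)], (0, 9, 0)),
  ([(1, 0, 0, 0), (0, 1, 7, 0), (0, 0, 12, 0), (0, 2, 12, 0), (3, 0, 3, 4), (0, 2, 27, 0), (0, 5, 23, 0), (3, 0, 6, 7), (0, 8, 19, 0)], (0, 9, 0)),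
  ([(1, 0, 0, 0), (0, 1, 7, 0), (0, 0, 12, 0), (0, 2, 12, 0), (3, 0, 3, 4), (0, 2, 15, 0), (0, 5, 3, 0), (3, 0, 6, 7), (0, 8, 15, 0)], (0, 9, 0)),
  ([(1, 0, 0, 0), (0, 1, 7, 0), (0, 0, 12, 0), (0, 2, 12, 0), (3, 0, 3, 4), (0, 2, 5, 0), (0, 5, 9, 0), (3, 0, 6, 7), (0, 8, 21, 0)], (0, 9, 0)),
  ([(1, 0, 0, 0), (0, 1, 7, 0), (0, 0, 12, 0), (0, 2, 12, 0), (3, 0, 3, 4), (0, 2, 4, 0), (0, 5, 8, 0), (3, 0, 6, 7), (0, 8, 2, 0)], (0, 9, 0)),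
  ([(1, 0, 0, 0), (0, 1, 7, 0), (0, 2, 2, 0), (0, 2, 14, 0), (3, 0, 3, 4), (0, 5, 18, 0)], (0, 6, 0)),
  ([(1, 0, 0, 0), (0, 1, 7, 0), (0, 2, 27, 0), (0, 2, 23, 0), (3, 0, 3, 4), (0, 5, 19, 0)], (0, 6, 0)),
  ([(1, 0, 0, 0), (0, 1, 7, 0), (0, 2, 23, 0), (0, 2, 27, 0), (3, 0, 3, 4), (0, 5, 31, 0)], (0, 6, 0)),
  ([(1, 0, 0, 0), (0, 1, 7, 0), (0, 0, 12, 0), (0, 2, 12, 0), (3, 0, 3, 4), (0, 2, 6, 0), (0, 5, 10, 0), (3, 0, 6, 7), (0, 8, 14, 0)], (0, 9, 0)),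
  ([(1, 0, 0, 0), (0, 1, 7, 0), (0, 2, 11, 0), (0, 2, 7, 0), (3, 0, 3, 4), (0, 5, 5, 0)], (0, 6, 0)),
  ([(1, 0, 0, 0), (0, 1, 7, 0), (0, 2, 25, 0), (0, 2, 21, 0), (3, 0, 3, 4), (0, 5, 20, 0)], (0, 6, 0)),
  ([(1, 0, 0, 0), (0, 1, 7, 0), (0, 2, 4, 0), (0, 2, 8, 0), (3, 0, 3, 4), (0, 5, 2, 0)], (0, 6, 0)),
  ([(1, 0, 0, 0), (0, 1, 7, 0), (0, 0, 12, 0), (0, 2, 12, 0), (3, 0, 3, 4), (0, 5, 13, 0), (3, 0, 2, 6), (0, 7, 13, 0)], (0, 8, 0)),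
  ([(1, 0, 0, 0), (0, 1, 7, 0), (0, 0, 12, 0), (0, 2, 12, 0), (3, 0, 3, 4), (0, 2, 8, 0), (0, 5, 4, 0), (3, 0, 6, 7), (0, 8, 17, 0)], (0, 9, 0)),
  ([(1, 0, 0, 0), (0, 1, 7, 0), (0, 0, 12, 0), (0, 2, 12, 0), (3, 0, 3, 4), (0, 2, 17, 0), (0, 5, 29, 0), (3, 0, 6, 7), (0, 8, 16, 0)], (0, 9, 0)),
  ([(1, 0, 0, 0), (0, 1, 7, 0), (0, 2, 17, 0), (0, 2, 29, 0), (3, 0, 3, 4), (0, 5, 16, 0)], (0, 6, 0)),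
  ([(1, 0, 0, 0), (0, 1, 7, 0), (0, 2, 5, 0), (0, 2, 9, 0), (3, 0, 3, 4), (0, 5, 21, 0)], (0, 6, 0)),
  ([(1, 0, 0, 0), (0, 1, 7, 0), (0, 2, 8, 0), (0, 2, 4, 0), (3, 0, 3, 4), (0, 5, 17, 0)], (0, 6, 0)),
  ([(1, 0, 0, 0), (0, 1, 7, 0), (0, 2, 6, 0), (0, 2, 10, 0), (3, 0, 3, 4), (0, 5, 14, 0)], (0, 6, 0)),
  ([(1, 0, 0, 0), (0, 1, 7, 0), (0, 2, 15, 0), (0, 2, 3, 0), (3, 0, 3, 4), (0, 5, 15, 0)], (0, 6, 0)),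
  ([(1, 0, 0, 0), (0, 1, 7, 0), (0, 0, 12, 0), (0, 2, 12, 0), (3, 0, 3, 4), (0, 2, 25, 0), (0, 5, 21, 0), (3, 0, 6, 7), (0, 8, 20, 0)], (0, 9, 0)),
  ([(1, 0, 0, 0), (0, 1, 7, 0), (0, 0, 12, 0), (0, 2, 12, 0), (3, 0, 3, 4), (0, 2, 26, 0), (0, 0, 26, 0), (3, 2, 6, 7), (0, 5, 3, 0), (0, 8, 25, 0), (3, 2, 9, 10), (0, 11, 23, 0), (0, 5, 20, 0), (0, 12, 14, 0), (3, 2, 13, 14), (0, 15, 19, 0), (0, 5, 23, 0), (0, 16, 13, 0), (3, 2, 17, 18), (0, 19, 17, 0)], (0, 20, 2)),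
  ([(1, 0, 0, 0), (0, 1, 7, 0), (0, 2, 13, 0), (3, 0, 2, 3), (0, 4, 13, 0)], (0, 5, 0)),
  ([(1, 0, 0, 0), (0, 1, 7, 0), (0, 0, 12, 0), (0, 2, 12, 0), (3, 0, 3, 4), (0, 2, 14, 0), (0, 5, 2, 0), (3, 0, 6, 7), (0, 8, 8, 0)], (0, 9, 0)),
  ([(1, 0, 0, 0), (0, 1, 7, 0), (0, 0, 12, 0), (0, 2, 12, 0), (3, 0, 3, 4), (0, 2, 23, 0), (0, 5, 27, 0), (3, 0, 6, 7), (0, 8, 31, 0)], (0, 9, 0)),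
  ([(1, 0, 0, 0), (0, 1, 7, 0), (0, 0, 12, 0), (0, 2, 12, 0), (3, 0, 3, 4), (0, 2, 7, 0), (0, 5, 11, 0), (3, 0, 6, 7), (0, 8, 27, 0)], (0, 9, 0)),
  ([(1, 0, 0, 0), (0, 1, 7, 0), (0, 2, 7, 0), (0, 2, 11, 0), (3, 0, 3, 4), (0, 5, 27, 0)], (0, 6, 0)),
  ([(1, 0, 0, 0), (0, 1, 7, 0), (0, 0, 12, 0), (0, 2, 12, 0), (3, 0, 3, 4), (0, 2, 3, 0), (0, 5, 15, 0), (3, 0, 6, 7), (0, 8, 30, 0)], (0, 9, 0))]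

/-- Refutations, first coordinate 13. -/
def case5_3_13 : List (List (ℕ × ℕ × ℕ × ℕ) × (ℕ × ℕ × ℕ)) := [
  ([(1, 0, 0, 0), (0, 1, 15, 0), (0, 0, 13, 0), (0, 2, 13, 0), (3, 0, 3, 4), (0, 5, 27, 0)], (2, 2, 6)),
  ([(1, 0, 0, 0), (0, 1, 15, 0), (0, 0, 13, 0), (0, 2, 13, 0), (3, 0, 3, 4), (0, 2, 10, 0), (0, 5, 7, 0), (3, 0, 6, 7), (0, 8, 30, 0)], (0, 9, 0)),
  ([(1, 0, 0, 0), (0, 1, 15, 0), (0, 0, 13, 0), (0, 2, 13, 0), (3, 0, 3, 4), (0, 5, 12, 0), (3, 0, 2, 6), (0, 7, 8, 0)], (0, 8, 0)),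
  ([(1, 0, 0, 0), (0, 1, 15, 0), (0, 2, 2, 0), (0, 2, 15, 0), (3, 0, 3, 4), (0, 5, 9, 0)], (0, 6, 0)),
  ([(1, 0, 0, 0), (0, 1, 15, 0), (0, 0, 13, 0), (0, 2, 13, 0), (3, 0, 3, 4), (0, 2, 3, 0), (0, 5, 14, 0), (3, 0, 6, 7), (0, 8, 29, 0)], (0, 9, 0)),
  ([(1, 0, 0, 0), (0, 1, 15, 0), (0, 0, 13, 0), (0, 2, 13, 0), (3, 0, 3, 4), (0, 2, 20, 0), (0, 5, 25, 0), (3, 0, 6, 7), (0, 8, 14, 0)], (0, 9, 0)),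
  ([(1, 0, 0, 0), (0, 1, 15, 0), (0, 2, 23, 0), (0, 2, 26, 0), (3, 0, 3, 4), (0, 5, 6, 0)], (0, 6, 0)),
  ([(1, 0, 0, 0), (0, 1, 15, 0), (0, 0, 13, 0), (0, 2, 13, 0), (3, 0, 3, 4), (0, 2, 5, 0), (0, 5, 8, 0), (3, 0, 6, 7), (0, 8, 12, 0)], (0, 9, 0)),
  ([(1, 0, 0, 0), (0, 1, 15, 0), (0, 2, 12, 0), (3, 0, 2, 3), (0, 4, 8, 0)], (0, 5, 0)),
  ([(1, 0, 0, 0), (0, 1, 15, 0), (0, 2, 4, 0), (0, 2, 9, 0), (3, 0, 3, 4), (0, 5, 26, 0)], (0, 6, 0)),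
  ([(1, 0, 0, 0), (0, 1, 15, 0), (0, 2, 8, 0), (0, 2, 5, 0), (3, 0, 3, 4), (0, 5, 4, 0)], (0, 6, 0)),
  ([(1, 0, 0, 0), (0, 1, 15, 0), (0, 2, 15, 0), (0, 2, 2, 0), (3, 0, 3, 4), (0, 5, 10, 0)], (0, 6, 0)),
  ([(1, 0, 0, 0), (0, 1, 15, 0), (0, 0, 13, 0), (0, 2, 13, 0), (3, 0, 3, 4), (0, 2, 6, 0), (0, 5, 11, 0), (3, 0, 6, 7), (0, 8, 13, 0)], (0, 9, 0)),
  ([(1, 0, 0, 0), (0, 1, 15, 0), (0, 0, 13, 0), (0, 2, 13, 0), (3, 0, 3, 4), (0, 2, 23, 0), (0, 5, 26, 0), (3, 0, 6, 7), (0, 8, 6, 0)], (0, 9, 0)),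
  ([(1, 0, 0, 0), (0, 1, 15, 0), (0, 0, 13, 0), (0, 2, 13, 0), (3, 0, 3, 4), (0, 2, 4, 0), (0, 5, 9, 0), (3, 0, 6, 7), (0, 8, 26, 0)], (0, 9, 0)),
  ([(1, 0, 0, 0), (0, 1, 15, 0), (0, 0, 13, 0), (0, 2, 13, 0), (3, 0, 3, 4), (0, 2, 15, 0), (0, 5, 2, 0), (3, 0, 6, 7), (0, 8, 10, 0)], (0, 9, 0)),
  ([(1, 0, 0, 0), (0, 1, 15, 0), (0, 2, 5, 0), (0, 2, 8, 0), (3, 0, 3, 4), (0, 5, 12, 0)], (0, 6, 0)),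
  ([(1, 0, 0, 0), (0, 1, 15, 0), (0, 0, 13, 0), (0, 2, 13, 0), (3, 0, 3, 4), (0, 0, 27, 0), (0, 5, 27, 0), (3, 2, 6, 7), (0, 8, 6, 0), (0, 2, 27, 0), (0, 0, 27, 0), (3, 2, 10, 11), (0, 2, 28, 0), (0, 12, 7, 0), (3, 2, 13, 14), (0, 5, 12, 0), (0, 9, 23, 0), (3, 2, 16, 17), (0, 18, 12, 0), (0, 5, 23, 0), (0, 15, 12, 0), (3, 2, 20, 21), (0, 22, 19, 0)], (0, 23, 19)),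
  ([(1, 0, 0, 0), (0, 1, 15, 0), (0, 0, 13, 0), (0, 2, 13, 0), (3, 0, 3, 4), (0, 2, 18, 0), (0, 5, 31, 0), (3, 0, 6, 7), (0, 8, 27, 0)], (0, 9, 0)),
  ([(1, 0, 0, 0), (0, 1, 15, 0), (0, 2, 11, 0), (0, 2, 6, 0), (3, 0, 3, 4), (0, 5, 3, 0)], (0, 6, 0)),
  ([(1, 0, 0, 0), (0, 1, 15, 0), (0, 2, 21, 0), (0, 2, 24, 0), (3, 0, 3, 4), (0, 5, 17, 0)], (0, 6, 0)),
  ([(1, 0, 0, 0), (0, 1, 15, 0), (0, 0, 13, 0), (0, 2, 13, 0), (3, 0, 3, 4), (0, 2, 14, 0), (0, 5, 3, 0), (3, 0, 6, 7), (0, 8, 24, 0)], (0, 9, 0)),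
  ([(1, 0, 0, 0), (0, 1, 15, 0), (0, 0, 13, 0), (0, 2, 13, 0), (3, 0, 3, 4), (0, 2, 8, 0), (0, 5, 5, 0), (3, 0, 6, 7), (0, 8, 4, 0)], (0, 9, 0)),
  ([(1, 0, 0, 0), (0, 1, 15, 0), (0, 0, 13, 0), (0, 2, 13, 0), (3, 0, 3, 4), (0, 2, 21, 0), (0, 5, 24, 0), (3, 0, 6, 7), (0, 8, 17, 0)], (0, 9, 0)),
  ([(1, 0, 0, 0), (0, 1, 15, 0), (0, 2, 14, 0), (0, 2, 3, 0), (3, 0, 3, 4), (0, 5, 24, 0)], (0, 6, 0)),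
  ([(1, 0, 0, 0), (0, 1, 15, 0), (0, 2, 6, 0), (0, 2, 11, 0), (3, 0, 3, 4), (0, 5, 13, 0)], (0, 6, 0)),
  ([(1, 0, 0, 0), (0, 1, 15, 0), (0, 2, 18, 0), (0, 2, 31, 0), (3, 0, 3, 4), (0, 5, 27, 0)], (0, 6, 0)),
  ([(1, 0, 0, 0), (0, 1, 15, 0), (0, 2, 10, 0), (0, 2, 7, 0), (3, 0, 3, 4), (0, 5, 30, 0)], (0, 6, 0)),
  ([(1, 0, 0, 0), (0, 1, 15, 0), (0, 2, 20, 0), (0, 2, 25, 0), (3, 0, 3, 4), (0, 5, 14, 0)], (0, 6, 0)),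
  ([(1, 0, 0, 0), (0, 1, 15, 0), (0, 0, 13, 0), (0, 2, 13, 0), (3, 0, 3, 4), (0, 2, 11, 0), (0, 5, 6, 0), (3, 0, 6, 7), (0, 8, 3, 0)], (0, 9, 0)),
  ([(1, 0, 0, 0), (0, 1, 15, 0), (0, 0, 13, 0), (0, 2, 13, 0), (3, 0, 3, 4), (0, 2, 2, 0), (0, 5, 15, 0), (3, 0, 6, 7), (0, 8, 9, 0)], (0, 9, 0)),
  ([(1, 0, 0, 0), (0, 1, 15, 0), (0, 2, 3, 0), (0, 2, 14, 0), (3, 0, 3, 4), (0, 5, 29, 0)], (0, 6, 0))]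

/-- Refutations, first coordinate 14. -/
def case5_3_14 : List (List (ℕ × ℕ × ℕ × ℕ) × (ℕ × ℕ × ℕ)) := [
  ([(1, 0, 0, 0), (0, 1, 6, 0), (0, 0, 14, 0), (0, 2, 14, 0), (3, 0, 3, 4), (0, 0, 30, 0), (0, 5, 30, 0), (3, 2, 6, 7), (0, 8, 12, 0), (0, 2, 29, 0), (0, 9, 3, 0), (3, 2, 10, 11)], (0, 12, 9)),
  ([(1, 0, 0, 0), (0, 1, 6, 0), (0, 2, 9, 0), (0, 2, 7, 0), (3, 0, 3, 4), (0, 5, 11, 0)], (0, 6, 0)),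
  ([(1, 0, 0, 0), (0, 1, 6, 0), (0, 2, 11, 0), (0, 2, 5, 0), (3, 0, 3, 4), (0, 5, 10, 0)], (0, 6, 0)),
  ([(1, 0, 0, 0), (0, 1, 6, 0), (0, 2, 7, 0), (0, 2, 9, 0), (3, 0, 3, 4), (0, 5, 14, 0)], (0, 6, 0)),
  ([(1, 0, 0, 0), (0, 1, 6, 0), (0, 2, 19, 0), (0, 2, 29, 0), (3, 0, 3, 4), (0, 5, 20, 0)], (0, 6, 0)),
  ([(1, 0, 0, 0), (0, 1, 6, 0), (0, 0, 14, 0), (0, 2, 14, 0), (3, 0, 3, 4), (0, 2, 17, 0), (0, 5, 31, 0), (3, 0, 6, 7), (0, 8, 30, 0)], (0, 9, 0)),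
  ([(1, 0, 0, 0), (0, 1, 6, 0), (0, 0, 14, 0), (0, 2, 14, 0), (3, 0, 3, 4), (0, 5, 15, 0), (3, 0, 2, 6), (0, 7, 3, 0)], (0, 8, 0)),
  ([(1, 0, 0, 0), (0, 1, 6, 0), (0, 0, 14, 0), (0, 2, 14, 0), (3, 0, 3, 4), (0, 2, 19, 0), (0, 5, 29, 0), (3, 0, 6, 7), (0, 8, 20, 0)], (0, 9, 0)),
  ([(1, 0, 0, 0), (0, 1, 6, 0), (0, 0, 14, 0), (0, 2, 14, 0), (3, 0, 3, 4), (0, 2, 3, 0), (0, 5, 13, 0), (3, 0, 6, 7), (0, 8, 31, 0)], (0, 9, 0)),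
  ([(1, 0, 0, 0), (0, 1, 6, 0), (0, 0, 14, 0), (0, 2, 14, 0), (3, 0, 3, 4), (0, 2, 5, 0), (0, 5, 11, 0), (3, 0, 6, 7), (0, 8, 9, 0)], (0, 9, 0)),
  ([(1, 0, 0, 0), (0, 1, 6, 0), (0, 2, 12, 0), (0, 2, 2, 0), (3, 0, 3, 4), (0, 5, 7, 0)], (0, 6, 0)),
  ([(1, 0, 0, 0), (0, 1, 6, 0), (0, 2, 13, 0), (0, 2, 3, 0), (3, 0, 3, 4), (0, 5, 19, 0)], (0, 6, 0)),
  ([(1, 0, 0, 0), (0, 1, 6, 0), (0, 0, 14, 0), (0, 2, 14, 0), (3, 0, 3, 4), (0, 2, 4, 0), (0, 5, 10, 0), (3, 0, 6, 7), (0, 8, 16, 0)], (0, 9, 0)),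
  ([(1, 0, 0, 0), (0, 1, 6, 0), (0, 0, 14, 0), (0, 2, 14, 0), (3, 0, 3, 4), (0, 2, 12, 0), (0, 5, 2, 0), (3, 0, 6, 7), (0, 8, 7, 0)], (0, 9, 0)),
  ([(1, 0, 0, 0), (0, 1, 6, 0), (0, 0, 14, 0), (0, 2, 14, 0), (3, 0, 3, 4), (0, 2, 9, 0), (0, 5, 7, 0), (3, 0, 6, 7), (0, 8, 11, 0)], (0, 9, 0)),
  ([(1, 0, 0, 0), (0, 1, 6, 0), (0, 2, 5, 0), (0, 2, 11, 0), (3, 0, 3, 4), (0, 5, 9, 0)], (0, 6, 0)),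
  ([(1, 0, 0, 0), (0, 1, 6, 0), (0, 0, 14, 0), (0, 2, 14, 0), (3, 0, 3, 4), (0, 2, 8, 0), (0, 5, 6, 0), (3, 0, 6, 7), (0, 8, 27, 0)], (0, 9, 0)),
  ([(1, 0, 0, 0), (0, 1, 6, 0), (0, 0, 14, 0), (0, 2, 14, 0), (3, 0, 3, 4), (0, 2, 7, 0), (0, 5, 9, 0), (3, 0, 6, 7), (0, 8, 14, 0)], (0, 9, 0)),
  ([(1, 0, 0, 0), (0, 1, 6, 0), (0, 0, 14, 0), (0, 2, 14, 0), (3, 0, 3, 4), (0, 2, 2, 0), (0, 5, 12, 0), (3, 0, 6, 7), (0, 8, 22, 0)], (0, 9, 0)),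
  ([(1, 0, 0, 0), (0, 1, 6, 0), (0, 2, 3, 0), (0, 2, 13, 0), (3, 0, 3, 4), (0, 5, 31, 0)], (0, 6, 0)),
  ([(1, 0, 0, 0), (0, 1, 6, 0), (0, 2, 4, 0), (0, 2, 10, 0), (3, 0, 3, 4), (0, 5, 16, 0)], (0, 6, 0)),
  ([(1, 0, 0, 0), (0, 1, 6, 0), (0, 2, 15, 0), (3, 0, 2, 3), (0, 4, 3, 0)], (0, 5, 0)),
  ([(1, 0, 0, 0), (0, 1, 6, 0), (0, 0, 14, 0), (0, 2, 14, 0), (3, 0, 3, 4), (0, 2, 11, 0), (0, 5, 5, 0), (3, 0, 6, 7), (0, 8, 10, 0)], (0, 9, 0)),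
  ([(1, 0, 0, 0), (0, 1, 6, 0), (0, 0, 14, 0), (0, 2, 14, 0), (3, 0, 3, 4), (0, 2, 13, 0), (0, 5, 3, 0), (3, 0, 6, 7), (0, 8, 19, 0)], (0, 9, 0)),
  ([(1, 0, 0, 0), (0, 1, 6, 0), (0, 2, 17, 0), (0, 2, 31, 0), (3, 0, 3, 4), (0, 5, 30, 0)], (0, 6, 0)),
  ([(1, 0, 0, 0), (0, 1, 6, 0), (0, 2, 2, 0), (0, 2, 12, 0), (3, 0, 3, 4), (0, 5, 22, 0)], (0, 6, 0)),
  ([(1, 0, 0, 0), (0, 1, 6, 0), (0, 2, 26, 0), (0, 2, 20, 0), (3, 0, 3, 4), (0, 5, 12, 0)], (0, 6, 0)),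
  ([(1, 0, 0, 0), (0, 1, 6, 0), (0, 0, 14, 0), (0, 2, 14, 0), (3, 0, 3, 4), (0, 2, 26, 0), (0, 5, 20, 0), (3, 0, 6, 7), (0, 8, 12, 0)], (0, 9, 0)),
  ([(1, 0, 0, 0), (0, 1, 6, 0), (0, 0, 14, 0), (0, 2, 14, 0), (3, 0, 3, 4), (0, 2, 18, 0), (0, 5, 28, 0), (3, 0, 6, 7), (0, 8, 6, 0)], (0, 9, 0)),
  ([(1, 0, 0, 0), (0, 1, 6, 0), (0, 2, 8, 0), (0, 2, 6, 0), (3, 0, 3, 4), (0, 5, 27, 0)], (0, 6, 0)),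
  ([(1, 0, 0, 0), (0, 1, 6, 0), (0, 2, 18, 0), (0, 2, 28, 0), (3, 0, 3, 4), (0, 5, 6, 0)], (0, 6, 0)),
  ([(1, 0, 0, 0), (0, 1, 6, 0), (0, 0, 14, 0), (0, 2, 14, 0), (3, 0, 3, 4), (0, 0, 30, 0), (0, 5, 30, 0), (3, 2, 6, 7), (0, 8, 12, 0), (0, 2, 9, 0), (0, 9, 23, 0), (3, 2, 10, 11), (0, 5, 14, 0), (0, 12, 16, 0), (3, 2, 13, 14), (0, 15, 18, 0)], (0, 16, 0))]

/-- Refutations, first coordinate 15. -/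
def case5_3_15 : List (List (ℕ × ℕ × ℕ × ℕ) × (ℕ × ℕ × ℕ)) := [
  ([(1, 0, 0, 0), (0, 1, 13, 0), (0, 0, 15, 0), (0, 2, 15, 0), (3, 0, 3, 4), (0, 5, 31, 0)], (2, 2, 6)),
  ([(1, 0, 0, 0), (0, 1, 13, 0), (0, 0, 15, 0), (0, 2, 15, 0), (3, 0, 3, 4), (0, 2, 8, 0), (0, 5, 7, 0), (3, 0, 6, 7), (0, 8, 13, 0)], (0, 9, 0)),
  ([(1, 0, 0, 0), (0, 1, 13, 0), (0, 0, 15, 0), (0, 2, 15, 0), (3, 0, 3, 4), (0, 2, 6, 0), (0, 5, 9, 0), (3, 0, 6, 7), (0, 8, 19, 0)], (0, 9, 0)),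
  ([(1, 0, 0, 0), (0, 1, 13, 0), (0, 2, 10, 0), (0, 2, 5, 0), (3, 0, 3, 4), (0, 5, 17, 0)], (0, 6, 0)),
  ([(1, 0, 0, 0), (0, 1, 13, 0), (0, 2, 6, 0), (0, 2, 9, 0), (3, 0, 3, 4), (0, 5, 19, 0)], (0, 6, 0)),
  ([(1, 0, 0, 0), (0, 1, 13, 0), (0, 2, 8, 0), (0, 2, 7, 0), (3, 0, 3, 4), (0, 5, 13, 0)], (0, 6, 0)),
  ([(1, 0, 0, 0), (0, 1, 13, 0), (0, 2, 5, 0), (0, 2, 10, 0), (3, 0, 3, 4), (0, 5, 2, 0)], (0, 6, 0)),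
  ([(1, 0, 0, 0), (0, 1, 13, 0), (0, 0, 15, 0), (0, 2, 15, 0), (3, 0, 3, 4), (0, 2, 24, 0), (0, 5, 23, 0), (3, 0, 6, 7), (0, 8, 30, 0)], (0, 9, 0)),
  ([(1, 0, 0, 0), (0, 1, 13, 0), (0, 2, 13, 0), (0, 2, 2, 0), (3, 0, 3, 4), (0, 5, 21, 0)], (0, 6, 0)),
  ([(1, 0, 0, 0), (0, 1, 13, 0), (0, 0, 15, 0), (0, 2, 15, 0), (3, 0, 3, 4), (0, 2, 18, 0), (0, 5, 29, 0), (3, 0, 6, 7), (0, 8, 5, 0)], (0, 9, 0)),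
  ([(1, 0, 0, 0), (0, 1, 13, 0), (0, 0, 15, 0), (0, 2, 15, 0), (3, 0, 3, 4), (0, 2, 10, 0), (0, 5, 5, 0), (3, 0, 6, 7), (0, 8, 17, 0)], (0, 9, 0)),
  ([(1, 0, 0, 0), (0, 1, 13, 0), (0, 2, 24, 0), (0, 2, 23, 0), (3, 0, 3, 4), (0, 5, 30, 0)], (0, 6, 0)),
  ([(1, 0, 0, 0), (0, 1, 13, 0), (0, 0, 15, 0), (0, 2, 15, 0), (3, 0, 3, 4), (0, 2, 2, 0), (0, 5, 13, 0), (3, 0, 6, 7), (0, 8, 25, 0)], (0, 9, 0)),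
  ([(1, 0, 0, 0), (0, 1, 13, 0), (0, 0, 15, 0), (0, 2, 15, 0), (3, 0, 3, 4), (0, 2, 3, 0), (0, 5, 12, 0), (3, 0, 6, 7), (0, 8, 4, 0)], (0, 9, 0)),
  ([(1, 0, 0, 0), (0, 1, 13, 0), (0, 2, 14, 0), (3, 0, 2, 3), (0, 4, 7, 0)], (0, 5, 0)),
  ([(1, 0, 0, 0), (0, 1, 13, 0), (0, 2, 9, 0), (0, 2, 6, 0), (3, 0, 3, 4), (0, 5, 31, 0)], (0, 6, 0)),
  ([(1, 0, 0, 0), (0, 1, 13, 0), (0, 2, 18, 0), (0, 2, 29, 0), (3, 0, 3, 4), (0, 5, 5, 0)], (0, 6, 0)),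
  ([(1, 0, 0, 0), (0, 1, 13, 0), (0, 2, 2, 0), (0, 2, 13, 0), (3, 0, 3, 4), (0, 5, 25, 0)], (0, 6, 0)),
  ([(1, 0, 0, 0), (0, 1, 13, 0), (0, 0, 15, 0), (0, 2, 15, 0), (3, 0, 3, 4), (0, 2, 5, 0), (0, 5, 10, 0), (3, 0, 6, 7), (0, 8, 2, 0)], (0, 9, 0)),
  ([(1, 0, 0, 0), (0, 1, 13, 0), (0, 2, 3, 0), (0, 2, 12, 0), (3, 0, 3, 4), (0, 5, 4, 0)], (0, 6, 0)),
  ([(1, 0, 0, 0), (0, 1, 13, 0), (0, 0, 15, 0), (0, 2, 15, 0), (3, 0, 3, 4), (0, 2, 13, 0), (0, 5, 2, 0), (3, 0, 6, 7), (0, 8, 21, 0)], (0, 9, 0)),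
  ([(1, 0, 0, 0), (0, 1, 13, 0), (0, 0, 15, 0), (0, 2, 15, 0), (3, 0, 3, 4), (0, 2, 12, 0), (0, 5, 3, 0), (3, 0, 6, 7), (0, 8, 12, 0)], (0, 9, 0)),
  ([(1, 0, 0, 0), (0, 1, 13, 0), (0, 2, 7, 0), (0, 2, 8, 0), (3, 0, 3, 4), (0, 5, 3, 0)], (0, 6, 0)),
  ([(1, 0, 0, 0), (0, 1, 13, 0), (0, 2, 4, 0), (0, 2, 11, 0), (3, 0, 3, 4), (0, 5, 29, 0)], (0, 6, 0)),
  ([(1, 0, 0, 0), (0, 1, 13, 0), (0, 0, 15, 0), (0, 2, 15, 0), (3, 0, 3, 4), (0, 5, 31, 0)], (2, 2, 6)),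
  ([(1, 0, 0, 0), (0, 1, 13, 0), (0, 0, 15, 0), (0, 2, 15, 0), (3, 0, 3, 4), (0, 2, 7, 0), (0, 5, 8, 0), (3, 0, 6, 7), (0, 8, 3, 0)], (0, 9, 0)),
  ([(1, 0, 0, 0), (0, 1, 13, 0), (0, 0, 15, 0), (0, 2, 15, 0), (3, 0, 3, 4), (0, 2, 9, 0), (0, 5, 6, 0), (3, 0, 6, 7), (0, 8, 31, 0)], (0, 9, 0)),
  ([(1, 0, 0, 0), (0, 1, 13, 0), (0, 0, 15, 0), (0, 2, 15, 0), (3, 0, 3, 4), (0, 2, 21, 0), (0, 5, 26, 0), (3, 0, 6, 7), (0, 8, 14, 0)], (0, 9, 0)),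
  ([(1, 0, 0, 0), (0, 1, 13, 0), (0, 0, 15, 0), (0, 2, 15, 0), (3, 0, 3, 4), (0, 2, 4, 0), (0, 5, 11, 0), (3, 0, 6, 7), (0, 8, 29, 0)], (0, 9, 0)),
  ([(1, 0, 0, 0), (0, 1, 13, 0), (0, 0, 15, 0), (0, 2, 15, 0), (3, 0, 3, 4), (0, 5, 14, 0), (3, 0, 2, 6), (0, 7, 7, 0)], (0, 8, 0)),
  ([(1, 0, 0, 0), (0, 1, 13, 0), (0, 2, 21, 0), (0, 2, 26, 0), (3, 0, 3, 4), (0, 5, 14, 0)], (0, 6, 0)),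
  ([(1, 0, 0, 0), (0, 1, 13, 0), (0, 2, 12, 0), (0, 2, 3, 0), (3, 0, 3, 4), (0, 5, 12, 0)], (0, 6, 0))]

/-- Refutations, first coordinate 16. -/
def case5_3_16 : List (List (ℕ × ℕ × ℕ × ℕ) × (ℕ × ℕ × ℕ)) := [
  ([(1, 0, 0, 0), (0, 1, 11, 0), (0, 0, 16, 0), (0, 2, 16, 0), (3, 0, 3, 4), (0, 2, 13, 0), (0, 0, 13, 0), (3, 2, 6, 7), (0, 2, 25, 0), (0, 8, 20, 0), (3, 2, 9, 10), (0, 2, 30, 0), (0, 11, 19, 0), (3, 2, 12, 13), (0, 5, 10, 0), (0, 8, 7, 0), (3, 2, 15, 16), (0, 17, 22, 0)], (0, 18, 14)),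
  ([(1, 0, 0, 0), (0, 1, 11, 0), (0, 2, 5, 0), (0, 2, 21, 0), (3, 0, 3, 4), (0, 5, 28, 0)], (0, 6, 0)),
  ([(1, 0, 0, 0), (0, 1, 11, 0), (0, 2, 18, 0), (0, 2, 2, 0), (3, 0, 3, 4), (0, 5, 4, 0)], (0, 6, 0)),
  ([(1, 0, 0, 0), (0, 1, 11, 0), (0, 0, 16, 0), (0, 2, 16, 0), (3, 0, 3, 4), (0, 2, 6, 0), (0, 5, 22, 0), (3, 0, 6, 7), (0, 8, 10, 0)], (0, 9, 0)),
  ([(1, 0, 0, 0), (0, 1, 11, 0), (0, 2, 3, 0), (0, 2, 19, 0), (3, 0, 3, 4), (0, 5, 17, 0)], (0, 6, 0)),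
  ([(1, 0, 0, 0), (0, 1, 11, 0), (0, 0, 16, 0), (0, 2, 16, 0), (3, 0, 3, 4), (0, 0, 13, 0), (0, 5, 13, 0), (3, 2, 6, 7), (0, 8, 25, 0), (0, 0, 23, 0), (0, 9, 13, 0), (3, 2, 10, 11), (0, 12, 31, 0), (0, 2, 13, 0), (0, 0, 13, 0), (3, 2, 14, 15), (0, 16, 12, 0), (3, 2, 5, 17), (0, 18, 24, 0)], (0, 19, 13)),
  ([(1, 0, 0, 0), (0, 1, 11, 0), (0, 2, 7, 0), (0, 2, 23, 0), (3, 0, 3, 4), (0, 5, 5, 0)], (0, 6, 0)),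
  ([(1, 0, 0, 0), (0, 1, 11, 0), (0, 2, 4, 0), (0, 2, 20, 0), (3, 0, 3, 4), (0, 5, 30, 0)], (0, 6, 0)),
  ([(1, 0, 0, 0), (0, 1, 11, 0), (0, 2, 19, 0), (0, 2, 3, 0), (3, 0, 3, 4), (0, 5, 2, 0)], (0, 6, 0)),
  ([(1, 0, 0, 0), (0, 1, 11, 0), (0, 2, 11, 0), (0, 2, 27, 0), (3, 0, 3, 4), (0, 5, 8, 0)], (0, 6, 0)),
  ([(1, 0, 0, 0), (0, 1, 11, 0), (0, 0, 16, 0), (0, 2, 16, 0), (3, 0, 3, 4), (0, 2, 2, 0), (0, 5, 18, 0), (3, 0, 6, 7), (0, 8, 12, 0)], (0, 9, 0)),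
  ([(1, 0, 0, 0), (0, 1, 11, 0), (0, 0, 16, 0), (0, 2, 16, 0), (3, 0, 3, 4), (0, 2, 11, 0), (0, 5, 27, 0), (3, 0, 6, 7), (0, 8, 8, 0)], (0, 9, 0)),
  ([(1, 0, 0, 0), (0, 1, 11, 0), (0, 0, 16, 0), (0, 2, 16, 0), (3, 0, 3, 4), (0, 2, 30, 0), (0, 5, 14, 0), (3, 0, 6, 7), (0, 8, 22, 0)], (0, 9, 0)),
  ([(1, 0, 0, 0), (0, 1, 11, 0), (0, 0, 16, 0), (0, 2, 16, 0), (3, 0, 3, 4), (0, 2, 5, 0), (0, 5, 21, 0), (3, 0, 6, 7), (0, 8, 28, 0)], (0, 9, 0)),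
  ([(1, 0, 0, 0), (0, 1, 11, 0), (0, 2, 15, 0), (0, 2, 31, 0), (3, 0, 3, 4), (0, 5, 3, 0)], (0, 6, 0)),
  ([(1, 0, 0, 0), (0, 1, 11, 0), (0, 0, 16, 0), (0, 2, 16, 0), (3, 0, 3, 4), (0, 2, 18, 0), (0, 5, 2, 0), (3, 0, 6, 7), (0, 8, 4, 0)], (0, 9, 0)),
  ([(1, 0, 0, 0), (0, 1, 11, 0), (0, 2, 23, 0), (0, 2, 7, 0), (3, 0, 3, 4), (0, 5, 27, 0)], (0, 6, 0)),
  ([(1, 0, 0, 0), (0, 1, 11, 0), (0, 0, 16, 0), (0, 2, 16, 0), (3, 0, 3, 4), (0, 2, 25, 0), (0, 5, 9, 0), (3, 0, 6, 7), (0, 8, 16, 0)], (0, 9, 0)),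
  ([(1, 0, 0, 0), (0, 1, 11, 0), (0, 2, 2, 0), (0, 2, 18, 0), (3, 0, 3, 4), (0, 5, 12, 0)], (0, 6, 0)),
  ([(1, 0, 0, 0), (0, 1, 11, 0), (0, 2, 17, 0), (3, 0, 2, 3), (0, 4, 19, 0)], (0, 5, 0)),
  ([(1, 0, 0, 0), (0, 1, 11, 0), (0, 0, 16, 0), (0, 2, 16, 0), (3, 0, 3, 4), (0, 2, 9, 0), (0, 5, 25, 0), (3, 0, 6, 7), (0, 8, 26, 0)], (0, 9, 0)),
  ([(1, 0, 0, 0), (0, 1, 11, 0), (0, 2, 6, 0), (0, 2, 22, 0), (3, 0, 3, 4), (0, 5, 10, 0)], (0, 6, 0)),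
  ([(1, 0, 0, 0), (0, 1, 11, 0), (0, 2, 25, 0), (0, 2, 9, 0), (3, 0, 3, 4), (0, 5, 16, 0)], (0, 6, 0)),
  ([(1, 0, 0, 0), (0, 1, 11, 0), (0, 0, 16, 0), (0, 2, 16, 0), (3, 0, 3, 4), (0, 2, 4, 0), (0, 5, 20, 0), (3, 0, 6, 7), (0, 8, 30, 0)], (0, 9, 0)),
  ([(1, 0, 0, 0), (0, 1, 11, 0), (0, 0, 16, 0), (0, 2, 16, 0), (3, 0, 3, 4), (0, 2, 3, 0), (0, 5, 19, 0), (3, 0, 6, 7), (0, 8, 17, 0)], (0, 9, 0)),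
  ([(1, 0, 0, 0), (0, 1, 11, 0), (0, 0, 16, 0), (0, 2, 16, 0), (3, 0, 3, 4), (0, 2, 23, 0), (0, 5, 7, 0), (3, 0, 6, 7), (0, 8, 27, 0)], (0, 9, 0)),
  ([(1, 0, 0, 0), (0, 1, 11, 0), (0, 0, 16, 0), (0, 2, 16, 0), (3, 0, 3, 4), (0, 2, 15, 0), (0, 5, 31, 0), (3, 0, 6, 7), (0, 8, 3, 0)], (0, 9, 0)),
  ([(1, 0, 0, 0), (0, 1, 11, 0), (0, 0, 16, 0), (0, 2, 16, 0), (3, 0, 3, 4), (0, 5, 17, 0), (3, 0, 2, 6), (0, 7, 19, 0)], (0, 8, 0)),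
  ([(1, 0, 0, 0), (0, 1, 11, 0), (0, 0, 16, 0), (0, 2, 16, 0), (3, 0, 3, 4), (0, 2, 7, 0), (0, 5, 23, 0), (3, 0, 6, 7), (0, 8, 5, 0)], (0, 9, 0)),
  ([(1, 0, 0, 0), (0, 1, 11, 0), (0, 0, 16, 0), (0, 2, 16, 0), (3, 0, 3, 4), (0, 2, 19, 0), (0, 5, 3, 0), (3, 0, 6, 7), (0, 8, 2, 0)], (0, 9, 0)),
  ([(1, 0, 0, 0), (0, 1, 11, 0), (0, 2, 9, 0), (0, 2, 25, 0), (3, 0, 3, 4), (0, 5, 26, 0)], (0, 6, 0)),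
  ([(1, 0, 0, 0), (0, 1, 11, 0), (0, 2, 30, 0), (0, 2, 14, 0), (3, 0, 3, 4), (0, 5, 22, 0)], (0, 6, 0))]

/-- Refutations, first coordinate 17. -/
def case5_3_17 : List (List (ℕ × ℕ × ℕ × ℕ) × (ℕ × ℕ × ℕ)) := [
  ([(1, 0, 0, 0), (0, 1, 24, 0), (0, 0, 17, 0), (0, 2, 17, 0), (3, 0, 3, 4), (0, 0, 12, 0), (0, 5, 12, 0), (3, 2, 6, 7), (0, 8, 10, 0), (0, 2, 12, 0), (0, 0, 12, 0), (3, 2, 10, 11), (0, 2, 13, 0), (3, 2, 13, 9), (0, 2, 25, 0), (0, 14, 21, 0), (3, 2, 15, 16), (0, 5, 2, 0), (0, 17, 14, 0), (3, 2, 18, 19), (0, 20, 31, 0)], (0, 21, 12)),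
  ([(1, 0, 0, 0), (0, 1, 24, 0), (0, 0, 17, 0), (0, 2, 17, 0), (3, 0, 3, 4), (0, 2, 7, 0), (0, 5, 22, 0), (3, 0, 6, 7), (0, 8, 28, 0)], (0, 9, 0)),
  ([(1, 0, 0, 0), (0, 1, 24, 0), (0, 0, 17, 0), (0, 2, 17, 0), (3, 0, 3, 4), (0, 2, 9, 0), (0, 5, 24, 0), (3, 0, 6, 7), (0, 8, 3, 0)], (0, 9, 0)),
  ([(1, 0, 0, 0), (0, 1, 24, 0), (0, 0, 17, 0), (0, 2, 17, 0), (3, 0, 3, 4), (0, 2, 13, 0), (0, 5, 28, 0), (3, 0, 6, 7), (0, 8, 30, 0)], (0, 9, 0)),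
  ([(1, 0, 0, 0), (0, 1, 24, 0), (0, 0, 17, 0), (0, 2, 17, 0), (3, 0, 3, 4), (0, 5, 16, 0), (3, 0, 2, 6), (0, 7, 16, 0)], (0, 8, 0)),
  ([(1, 0, 0, 0), (0, 1, 24, 0), (0, 2, 8, 0), (0, 2, 25, 0), (3, 0, 3, 4), (0, 5, 9, 0)], (0, 6, 0)),
  ([(1, 0, 0, 0), (0, 1, 24, 0), (0, 2, 3, 0), (0, 2, 18, 0), (3, 0, 3, 4), (0, 5, 7, 0)], (0, 6, 0)),
  ([(1, 0, 0, 0), (0, 1, 24, 0), (0, 0, 17, 0), (0, 2, 17, 0), (3, 0, 3, 4), (0, 2, 8, 0), (0, 5, 25, 0), (3, 0, 6, 7), (0, 8, 9, 0)], (0, 9, 0)),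
  ([(1, 0, 0, 0), (0, 1, 24, 0), (0, 2, 13, 0), (0, 2, 28, 0), (3, 0, 3, 4), (0, 5, 30, 0)], (0, 6, 0)),
  ([(1, 0, 0, 0), (0, 1, 24, 0), (0, 0, 17, 0), (0, 2, 17, 0), (3, 0, 3, 4), (0, 2, 20, 0), (0, 5, 5, 0), (3, 0, 6, 7), (0, 8, 12, 0)], (0, 9, 0)),
  ([(1, 0, 0, 0), (0, 1, 24, 0), (0, 0, 17, 0), (0, 2, 17, 0), (3, 0, 3, 4), (0, 2, 15, 0), (0, 5, 30, 0), (3, 0, 6, 7), (0, 8, 2, 0)], (0, 9, 0)),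
  ([(1, 0, 0, 0), (0, 1, 24, 0), (0, 2, 2, 0), (0, 2, 19, 0), (3, 0, 3, 4), (0, 5, 27, 0)], (0, 6, 0)),
  ([(1, 0, 0, 0), (0, 1, 24, 0), (0, 2, 16, 0), (3, 0, 2, 3), (0, 4, 16, 0)], (0, 5, 0)),
  ([(1, 0, 0, 0), (0, 1, 24, 0), (0, 0, 17, 0), (0, 2, 17, 0), (3, 0, 3, 4), (0, 2, 10, 0), (0, 5, 27, 0), (3, 0, 6, 7), (0, 8, 19, 0)], (0, 9, 0)),
  ([(1, 0, 0, 0), (0, 1, 24, 0), (0, 0, 17, 0), (0, 2, 17, 0), (3, 0, 3, 4), (0, 2, 18, 0), (0, 5, 3, 0), (3, 0, 6, 7), (0, 8, 22, 0)], (0, 9, 0)),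
  ([(1, 0, 0, 0), (0, 1, 24, 0), (0, 2, 7, 0), (0, 2, 22, 0), (3, 0, 3, 4), (0, 5, 28, 0)], (0, 6, 0)),
  ([(1, 0, 0, 0), (0, 1, 24, 0), (0, 2, 9, 0), (0, 2, 24, 0), (3, 0, 3, 4), (0, 5, 3, 0)], (0, 6, 0)),
  ([(1, 0, 0, 0), (0, 1, 24, 0), (0, 2, 23, 0), (0, 2, 6, 0), (3, 0, 3, 4), (0, 5, 21, 0)], (0, 6, 0)),
  ([(1, 0, 0, 0), (0, 1, 24, 0), (0, 0, 17, 0), (0, 2, 17, 0), (3, 0, 3, 4), (0, 2, 16, 0), (3, 0, 6, 5), (0, 7, 26, 0)], (0, 8, 0)),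
  ([(1, 0, 0, 0), (0, 1, 24, 0), (0, 0, 17, 0), (0, 2, 17, 0), (3, 0, 3, 4), (0, 2, 2, 0), (0, 5, 19, 0), (3, 0, 6, 7), (0, 8, 27, 0)], (0, 9, 0)),
  ([(1, 0, 0, 0), (0, 1, 24, 0), (0, 2, 18, 0), (0, 2, 3, 0), (3, 0, 3, 4), (0, 5, 22, 0)], (0, 6, 0)),
  ([(1, 0, 0, 0), (0, 1, 24, 0), (0, 2, 20, 0), (0, 2, 5, 0), (3, 0, 3, 4), (0, 5, 12, 0)], (0, 6, 0)),
  ([(1, 0, 0, 0), (0, 1, 24, 0), (0, 0, 17, 0), (0, 2, 17, 0), (3, 0, 3, 4), (0, 5, 12, 0)], (2, 2, 6)),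
  ([(1, 0, 0, 0), (0, 1, 24, 0), (0, 2, 15, 0), (0, 2, 30, 0), (3, 0, 3, 4), (0, 5, 2, 0)], (0, 6, 0)),
  ([(1, 0, 0, 0), (0, 1, 24, 0), (0, 0, 17, 0), (0, 2, 17, 0), (3, 0, 3, 4), (0, 2, 3, 0), (0, 5, 18, 0), (3, 0, 6, 7), (0, 8, 7, 0)], (0, 9, 0)),
  ([(1, 0, 0, 0), (0, 1, 24, 0), (0, 0, 17, 0), (0, 2, 17, 0), (3, 0, 3, 4), (0, 2, 11, 0), (0, 5, 26, 0), (3, 0, 6, 7), (0, 8, 11, 0)], (0, 9, 0)),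
  ([(1, 0, 0, 0), (0, 1, 24, 0), (0, 2, 10, 0), (0, 2, 27, 0), (3, 0, 3, 4), (0, 5, 19, 0)], (0, 6, 0)),
  ([(1, 0, 0, 0), (0, 1, 24, 0), (0, 2, 16, 0), (3, 0, 3, 2), (0, 4, 26, 0)], (0, 5, 0)),
  ([(1, 0, 0, 0), (0, 1, 24, 0), (0, 2, 11, 0), (0, 2, 26, 0), (3, 0, 3, 4), (0, 5, 11, 0)], (0, 6, 0)),
  ([(1, 0, 0, 0), (0, 1, 24, 0), (0, 0, 17, 0), (0, 2, 17, 0), (3, 0, 3, 4), (0, 2, 23, 0), (0, 5, 6, 0), (3, 0, 6, 7), (0, 8, 21, 0)], (0, 9, 0)),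
  ([(1, 0, 0, 0), (0, 1, 24, 0), (0, 2, 5, 0), (0, 2, 20, 0), (3, 0, 3, 4), (0, 5, 4, 0)], (0, 6, 0)),
  ([(1, 0, 0, 0), (0, 1, 24, 0), (0, 0, 17, 0), (0, 2, 17, 0), (3, 0, 3, 4), (0, 2, 5, 0), (0, 5, 20, 0), (3, 0, 6, 7), (0, 8, 4, 0)], (0, 9, 0))]

/-- Refutations, first coordinate 18. -/
def case5_3_18 : List (List (ℕ × ℕ × ℕ × ℕ) × (ℕ × ℕ × ℕ)) := [
  ([(1, 0, 0, 0), (0, 1, 2, 0), (0, 0, 18, 0), (0, 2, 18, 0), (3, 0, 3, 4), (0, 5, 9, 0)], (2, 2, 6)),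
  ([(1, 0, 0, 0), (0, 1, 2, 0), (0, 0, 18, 0), (0, 2, 18, 0), (3, 0, 3, 4), (0, 2, 14, 0), (0, 5, 28, 0), (3, 0, 6, 7), (0, 8, 2, 0)], (0, 9, 0)),
  ([(1, 0, 0, 0), (0, 1, 2, 0), (0, 2, 6, 0), (0, 2, 20, 0), (3, 0, 3, 4), (0, 5, 22, 0)], (0, 6, 0)),
  ([(1, 0, 0, 0), (0, 1, 2, 0), (0, 0, 18, 0), (0, 2, 18, 0), (3, 0, 3, 4), (0, 2, 16, 0), (0, 5, 2, 0), (3, 0, 6, 7), (0, 8, 20, 0)], (0, 9, 0)),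
  ([(1, 0, 0, 0), (0, 1, 2, 0), (0, 2, 8, 0), (0, 2, 26, 0), (3, 0, 3, 4), (0, 5, 24, 0)], (0, 6, 0)),
  ([(1, 0, 0, 0), (0, 1, 2, 0), (0, 2, 10, 0), (0, 2, 24, 0), (3, 0, 3, 4), (0, 5, 5, 0)], (0, 6, 0)),
  ([(1, 0, 0, 0), (0, 1, 2, 0), (0, 0, 18, 0), (0, 2, 18, 0), (3, 0, 3, 4), (0, 2, 27, 0), (0, 5, 9, 0), (3, 0, 6, 7), (0, 8, 11, 0)], (0, 9, 0)),
  ([(1, 0, 0, 0), (0, 1, 2, 0), (0, 2, 13, 0), (0, 2, 31, 0), (3, 0, 3, 4), (0, 5, 25, 0)], (0, 6, 0)),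
  ([(1, 0, 0, 0), (0, 1, 2, 0), (0, 0, 18, 0), (0, 2, 18, 0), (3, 0, 3, 4), (0, 2, 8, 0), (0, 5, 26, 0), (3, 0, 6, 7), (0, 8, 24, 0)], (0, 9, 0)),
  ([(1, 0, 0, 0), (0, 1, 2, 0), (0, 2, 3, 0), (0, 2, 17, 0), (3, 0, 3, 4), (0, 5, 3, 0)], (0, 6, 0)),
  ([(1, 0, 0, 0), (0, 1, 2, 0), (0, 0, 18, 0), (0, 2, 18, 0), (3, 0, 3, 4), (0, 2, 6, 0), (0, 5, 20, 0), (3, 0, 6, 7), (0, 8, 22, 0)], (0, 9, 0)),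
  ([(1, 0, 0, 0), (0, 1, 2, 0), (0, 0, 18, 0), (0, 2, 18, 0), (3, 0, 3, 4), (0, 2, 12, 0), (0, 5, 30, 0), (3, 0, 6, 7), (0, 8, 16, 0)], (0, 9, 0)),
  ([(1, 0, 0, 0), (0, 1, 2, 0), (0, 2, 14, 0), (0, 2, 28, 0), (3, 0, 3, 4), (0, 5, 2, 0)], (0, 6, 0)),
  ([(1, 0, 0, 0), (0, 1, 2, 0), (0, 2, 29, 0), (0, 2, 15, 0), (3, 0, 3, 4), (0, 5, 10, 0)], (0, 6, 0)),
  ([(1, 0, 0, 0), (0, 1, 2, 0), (0, 2, 2, 0), (0, 2, 16, 0), (3, 0, 3, 4), (0, 5, 23, 0)], (0, 6, 0)),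
  ([(1, 0, 0, 0), (0, 1, 2, 0), (0, 2, 4, 0), (0, 2, 22, 0), (3, 0, 3, 4), (0, 5, 15, 0)], (0, 6, 0)),
  ([(1, 0, 0, 0), (0, 1, 2, 0), (0, 0, 18, 0), (0, 2, 18, 0), (3, 0, 3, 4), (0, 2, 29, 0), (0, 5, 15, 0), (3, 0, 6, 7), (0, 8, 10, 0)], (0, 9, 0)),
  ([(1, 0, 0, 0), (0, 1, 2, 0), (0, 0, 18, 0), (0, 2, 18, 0), (3, 0, 3, 4), (0, 2, 5, 0), (0, 5, 23, 0), (3, 0, 6, 7), (0, 8, 31, 0)], (0, 9, 0)),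
  ([(1, 0, 0, 0), (0, 1, 2, 0), (0, 0, 18, 0), (0, 2, 18, 0), (3, 0, 3, 4), (0, 2, 10, 0), (0, 5, 24, 0), (3, 0, 6, 7), (0, 8, 5, 0)], (0, 9, 0)),
  ([(1, 0, 0, 0), (0, 1, 2, 0), (0, 2, 19, 0), (3, 0, 2, 3), (0, 4, 28, 0)], (0, 5, 0)),
  ([(1, 0, 0, 0), (0, 1, 2, 0), (0, 2, 27, 0), (0, 2, 9, 0), (3, 0, 3, 4), (0, 5, 11, 0)], (0, 6, 0)),
  ([(1, 0, 0, 0), (0, 1, 2, 0), (0, 0, 18, 0), (0, 2, 18, 0), (3, 0, 3, 4), (0, 5, 9, 0)], (2, 2, 6)),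
  ([(1, 0, 0, 0), (0, 1, 2, 0), (0, 0, 18, 0), (0, 2, 18, 0), (3, 0, 3, 4), (0, 2, 2, 0), (0, 5, 16, 0), (3, 0, 6, 7), (0, 8, 23, 0)], (0, 9, 0)),
  ([(1, 0, 0, 0), (0, 1, 2, 0), (0, 0, 18, 0), (0, 2, 18, 0), (3, 0, 3, 4), (0, 2, 3, 0), (0, 5, 17, 0), (3, 0, 6, 7), (0, 8, 3, 0)], (0, 9, 0)),
  ([(1, 0, 0, 0), (0, 1, 2, 0), (0, 0, 18, 0), (0, 2, 18, 0), (3, 0, 3, 4), (0, 2, 13, 0), (0, 5, 31, 0), (3, 0, 6, 7), (0, 8, 25, 0)], (0, 9, 0)),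
  ([(1, 0, 0, 0), (0, 1, 2, 0), (0, 0, 18, 0), (0, 2, 18, 0), (3, 0, 3, 4), (0, 5, 19, 0), (3, 0, 2, 6), (0, 7, 28, 0)], (0, 8, 0)),
  ([(1, 0, 0, 0), (0, 1, 2, 0), (0, 2, 16, 0), (0, 2, 2, 0), (3, 0, 3, 4), (0, 5, 20, 0)], (0, 6, 0)),
  ([(1, 0, 0, 0), (0, 1, 2, 0), (0, 0, 18, 0), (0, 2, 18, 0), (3, 0, 3, 4), (0, 2, 4, 0), (0, 5, 22, 0), (3, 0, 6, 7), (0, 8, 15, 0)], (0, 9, 0)),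
  ([(1, 0, 0, 0), (0, 1, 2, 0), (0, 2, 20, 0), (0, 2, 6, 0), (3, 0, 3, 4), (0, 5, 7, 0)], (0, 6, 0)),
  ([(1, 0, 0, 0), (0, 1, 2, 0), (0, 2, 12, 0), (0, 2, 30, 0), (3, 0, 3, 4), (0, 5, 16, 0)], (0, 6, 0)),
  ([(1, 0, 0, 0), (0, 1, 2, 0), (0, 2, 5, 0), (0, 2, 23, 0), (3, 0, 3, 4), (0, 5, 31, 0)], (0, 6, 0)),
  ([(1, 0, 0, 0), (0, 1, 2, 0), (0, 0, 18, 0), (0, 2, 18, 0), (3, 0, 3, 4), (0, 2, 20, 0), (0, 5, 6, 0), (3, 0, 6, 7), (0, 8, 7, 0)], (0, 9, 0))]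

/-- Refutations, first coordinate 19. -/
def case5_3_19 : List (List (ℕ × ℕ × ℕ × ℕ) × (ℕ × ℕ × ℕ)) := [
  ([(1, 0, 0, 0), (0, 1, 29, 0), (0, 0, 19, 0), (0, 2, 19, 0), (3, 0, 3, 4), (0, 0, 8, 0), (0, 5, 8, 0), (3, 2, 6, 7), (0, 8, 3, 0), (0, 0, 23, 0), (0, 9, 8, 0), (3, 2, 10, 11), (0, 12, 30, 0)], (0, 13, 9)),
  ([(1, 0, 0, 0), (0, 1, 29, 0), (0, 0, 19, 0), (0, 2, 19, 0), (3, 0, 3, 4), (0, 2, 7, 0), (0, 5, 20, 0), (3, 0, 6, 7), (0, 8, 26, 0)], (0, 9, 0)),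
  ([(1, 0, 0, 0), (0, 1, 29, 0), (0, 0, 19, 0), (0, 2, 19, 0), (3, 0, 3, 4), (0, 2, 3, 0), (0, 5, 16, 0), (3, 0, 6, 7), (0, 8, 28, 0)], (0, 9, 0)),
  ([(1, 0, 0, 0), (0, 1, 29, 0), (0, 0, 19, 0), (0, 2, 19, 0), (3, 0, 3, 4), (0, 2, 13, 0), (0, 5, 30, 0), (3, 0, 6, 7), (0, 8, 27, 0)], (0, 9, 0)),
  ([(1, 0, 0, 0), (0, 1, 29, 0), (0, 0, 19, 0), (0, 2, 19, 0), (3, 0, 3, 4), (0, 2, 5, 0), (0, 5, 22, 0), (3, 0, 6, 7), (0, 8, 3, 0)], (0, 9, 0)),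
  ([(1, 0, 0, 0), (0, 1, 29, 0), (0, 2, 5, 0), (0, 2, 22, 0), (3, 0, 3, 4), (0, 5, 3, 0)], (0, 6, 0)),
  ([(1, 0, 0, 0), (0, 1, 29, 0), (0, 2, 6, 0), (0, 2, 21, 0), (3, 0, 3, 4), (0, 5, 23, 0)], (0, 6, 0)),
  ([(1, 0, 0, 0), (0, 1, 29, 0), (0, 0, 19, 0), (0, 2, 19, 0), (3, 0, 3, 4), (0, 2, 2, 0), (0, 5, 17, 0), (3, 0, 6, 7), (0, 8, 10, 0)], (0, 9, 0)),
  ([(1, 0, 0, 0), (0, 1, 29, 0), (0, 2, 11, 0), (0, 2, 24, 0), (3, 0, 3, 4), (0, 5, 29, 0)], (0, 6, 0)),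
  ([(1, 0, 0, 0), (0, 1, 29, 0), (0, 0, 19, 0), (0, 2, 19, 0), (3, 0, 3, 4), (0, 0, 8, 0), (0, 5, 8, 0), (3, 2, 6, 7), (0, 8, 3, 0), (0, 0, 18, 0), (0, 9, 8, 0), (3, 2, 10, 11), (0, 12, 18, 0), (0, 2, 22, 0), (0, 13, 30, 0), (3, 2, 14, 15), (0, 5, 6, 0), (0, 16, 14, 0), (3, 2, 17, 18), (0, 19, 22, 0)], (0, 20, 2)),
  ([(1, 0, 0, 0), (0, 1, 29, 0), (0, 2, 17, 0), (0, 2, 2, 0), (3, 0, 3, 4), (0, 5, 9, 0)], (0, 6, 0)),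
  ([(1, 0, 0, 0), (0, 1, 29, 0), (0, 0, 19, 0), (0, 2, 19, 0), (3, 0, 3, 4), (0, 2, 16, 0), (0, 5, 3, 0), (3, 0, 6, 7), (0, 8, 6, 0)], (0, 9, 0)),
  ([(1, 0, 0, 0), (0, 1, 29, 0), (0, 2, 25, 0), (0, 2, 10, 0), (3, 0, 3, 4), (0, 5, 7, 0)], (0, 6, 0)),
  ([(1, 0, 0, 0), (0, 1, 29, 0), (0, 2, 10, 0), (0, 2, 25, 0), (3, 0, 3, 4), (0, 5, 22, 0)], (0, 6, 0)),
  ([(1, 0, 0, 0), (0, 1, 29, 0), (0, 0, 19, 0), (0, 2, 19, 0), (3, 0, 3, 4), (0, 2, 17, 0), (0, 5, 2, 0), (3, 0, 6, 7), (0, 8, 9, 0)], (0, 9, 0)),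
  ([(1, 0, 0, 0), (0, 1, 29, 0), (0, 0, 19, 0), (0, 2, 19, 0), (3, 0, 3, 4), (0, 2, 12, 0), (0, 5, 31, 0), (3, 0, 6, 7), (0, 8, 15, 0)], (0, 9, 0)),
  ([(1, 0, 0, 0), (0, 1, 29, 0), (0, 0, 19, 0), (0, 2, 19, 0), (3, 0, 3, 4), (0, 2, 6, 0), (0, 5, 21, 0), (3, 0, 6, 7), (0, 8, 23, 0)], (0, 9, 0)),
  ([(1, 0, 0, 0), (0, 1, 29, 0), (0, 0, 19, 0), (0, 2, 19, 0), (3, 0, 3, 4), (0, 2, 24, 0), (0, 5, 11, 0), (3, 0, 6, 7), (0, 8, 24, 0)], (0, 9, 0)),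
  ([(1, 0, 0, 0), (0, 1, 29, 0), (0, 2, 12, 0), (0, 2, 31, 0), (3, 0, 3, 4), (0, 5, 15, 0)], (0, 6, 0)),
  ([(1, 0, 0, 0), (0, 1, 29, 0), (0, 2, 7, 0), (0, 2, 20, 0), (3, 0, 3, 4), (0, 5, 26, 0)], (0, 6, 0)),
  ([(1, 0, 0, 0), (0, 1, 29, 0), (0, 2, 16, 0), (0, 2, 3, 0), (3, 0, 3, 4), (0, 5, 6, 0)], (0, 6, 0)),
  ([(1, 0, 0, 0), (0, 1, 29, 0), (0, 0, 19, 0), (0, 2, 19, 0), (3, 0, 3, 4), (0, 2, 25, 0), (0, 5, 10, 0), (3, 0, 6, 7), (0, 8, 7, 0)], (0, 9, 0)),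
  ([(1, 0, 0, 0), (0, 1, 29, 0), (0, 2, 13, 0), (0, 2, 30, 0), (3, 0, 3, 4), (0, 5, 27, 0)], (0, 6, 0)),
  ([(1, 0, 0, 0), (0, 1, 29, 0), (0, 2, 18, 0), (3, 0, 2, 3), (0, 4, 17, 0)], (0, 5, 0)),
  ([(1, 0, 0, 0), (0, 1, 29, 0), (0, 0, 19, 0), (0, 2, 19, 0), (3, 0, 3, 4), (0, 2, 11, 0), (0, 5, 24, 0), (3, 0, 6, 7), (0, 8, 29, 0)], (0, 9, 0)),
  ([(1, 0, 0, 0), (0, 1, 29, 0), (0, 2, 14, 0), (0, 2, 29, 0), (3, 0, 3, 4), (0, 5, 4, 0)], (0, 6, 0)),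
  ([(1, 0, 0, 0), (0, 1, 29, 0), (0, 2, 24, 0), (0, 2, 11, 0), (3, 0, 3, 4), (0, 5, 24, 0)], (0, 6, 0)),
  ([(1, 0, 0, 0), (0, 1, 29, 0), (0, 0, 19, 0), (0, 2, 19, 0), (3, 0, 3, 4), (0, 2, 14, 0), (0, 5, 29, 0), (3, 0, 6, 7), (0, 8, 4, 0)], (0, 9, 0)),
  ([(1, 0, 0, 0), (0, 1, 29, 0), (0, 0, 19, 0), (0, 2, 19, 0), (3, 0, 3, 4), (0, 2, 10, 0), (0, 5, 25, 0), (3, 0, 6, 7), (0, 8, 22, 0)], (0, 9, 0)),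
  ([(1, 0, 0, 0), (0, 1, 29, 0), (0, 0, 19, 0), (0, 2, 19, 0), (3, 0, 3, 4), (0, 5, 18, 0), (3, 0, 2, 6), (0, 7, 17, 0)], (0, 8, 0)),
  ([(1, 0, 0, 0), (0, 1, 29, 0), (0, 2, 3, 0), (0, 2, 16, 0), (3, 0, 3, 4), (0, 5, 28, 0)], (0, 6, 0)),
  ([(1, 0, 0, 0), (0, 1, 29, 0), (0, 2, 2, 0), (0, 2, 17, 0), (3, 0, 3, 4), (0, 5, 10, 0)], (0, 6, 0))]

/-- Refutations, first coordinate 20. -/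
def case5_3_20 : List (List (ℕ × ℕ × ℕ × ℕ) × (ℕ × ℕ × ℕ)) := [
  ([(1, 0, 0, 0), (0, 1, 30, 0), (0, 0, 20, 0), (0, 2, 20, 0), (3, 0, 3, 4), (0, 0, 29, 0), (0, 5, 29, 0), (3, 2, 6, 7), (0, 8, 27, 0), (0, 2, 4, 0), (0, 9, 25, 0), (3, 2, 10, 11), (0, 2, 16, 0), (0, 9, 13, 0), (3, 2, 13, 14), (0, 2, 21, 0), (0, 12, 8, 0), (3, 2, 16, 17), (0, 5, 23, 0), (0, 18, 10, 0), (3, 2, 19, 20), (0, 21, 13, 0)], (0, 22, 15)),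
  ([(1, 0, 0, 0), (0, 1, 30, 0), (0, 2, 9, 0), (0, 2, 29, 0), (3, 0, 3, 4), (0, 5, 27, 0)], (0, 6, 0)),
  ([(1, 0, 0, 0), (0, 1, 30, 0), (0, 0, 20, 0), (0, 2, 20, 0), (3, 0, 3, 4), (0, 0, 29, 0), (0, 5, 29, 0), (3, 2, 6, 7), (0, 8, 27, 0), (0, 5, 10, 0), (0, 9, 23, 0), (3, 2, 10, 11), (0, 12, 28, 0)], (0, 13, 2)),
  ([(1, 0, 0, 0), (0, 1, 30, 0), (0, 0, 20, 0), (0, 2, 20, 0), (3, 0, 3, 4), (0, 2, 15, 0), (0, 5, 27, 0), (3, 0, 6, 7), (0, 8, 21, 0)], (0, 9, 0)),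
  ([(1, 0, 0, 0), (0, 1, 30, 0), (0, 0, 20, 0), (0, 2, 20, 0), (3, 0, 3, 4), (0, 2, 16, 0), (0, 5, 4, 0), (3, 0, 6, 7), (0, 8, 12, 0)], (0, 9, 0)),
  ([(1, 0, 0, 0), (0, 1, 30, 0), (0, 2, 6, 0), (0, 2, 18, 0), (3, 0, 3, 4), (0, 5, 18, 0)], (0, 6, 0)),
  ([(1, 0, 0, 0), (0, 1, 30, 0), (0, 0, 20, 0), (0, 2, 20, 0), (3, 0, 3, 4), (0, 2, 4, 0), (0, 5, 16, 0), (3, 0, 6, 7), (0, 8, 4, 0)], (0, 9, 0)),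
  ([(1, 0, 0, 0), (0, 1, 30, 0), (0, 0, 20, 0), (0, 2, 20, 0), (3, 0, 3, 4), (0, 2, 3, 0), (0, 5, 23, 0), (3, 0, 6, 7), (0, 8, 13, 0)], (0, 9, 0)),
  ([(1, 0, 0, 0), (0, 1, 30, 0), (0, 0, 20, 0), (0, 2, 20, 0), (3, 0, 3, 4), (0, 2, 2, 0), (0, 5, 22, 0), (3, 0, 6, 7), (0, 8, 26, 0)], (0, 9, 0)),
  ([(1, 0, 0, 0), (0, 1, 30, 0), (0, 2, 24, 0), (0, 2, 12, 0), (3, 0, 3, 4), (0, 5, 17, 0)], (0, 6, 0)),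
  ([(1, 0, 0, 0), (0, 1, 30, 0), (0, 2, 19, 0), (0, 2, 7, 0), (3, 0, 3, 4), (0, 5, 29, 0)], (0, 6, 0)),
  ([(1, 0, 0, 0), (0, 1, 30, 0), (0, 0, 20, 0), (0, 2, 20, 0), (3, 0, 3, 4), (0, 2, 10, 0), (0, 5, 30, 0), (3, 0, 6, 7), (0, 8, 14, 0)], (0, 9, 0)),
  ([(1, 0, 0, 0), (0, 1, 30, 0), (0, 2, 2, 0), (0, 2, 22, 0), (3, 0, 3, 4), (0, 5, 26, 0)], (0, 6, 0)),
  ([(1, 0, 0, 0), (0, 1, 30, 0), (0, 0, 20, 0), (0, 2, 20, 0), (3, 0, 3, 4), (0, 2, 6, 0), (0, 5, 18, 0), (3, 0, 6, 7), (0, 8, 18, 0)], (0, 9, 0)),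
  ([(1, 0, 0, 0), (0, 1, 30, 0), (0, 2, 7, 0), (0, 2, 19, 0), (3, 0, 3, 4), (0, 5, 24, 0)], (0, 6, 0)),
  ([(1, 0, 0, 0), (0, 1, 30, 0), (0, 0, 20, 0), (0, 2, 20, 0), (3, 0, 3, 4), (0, 2, 18, 0), (0, 5, 6, 0), (3, 0, 6, 7), (0, 8, 8, 0)], (0, 9, 0)),
  ([(1, 0, 0, 0), (0, 1, 30, 0), (0, 2, 10, 0), (0, 2, 30, 0), (3, 0, 3, 4), (0, 5, 14, 0)], (0, 6, 0)),
  ([(1, 0, 0, 0), (0, 1, 30, 0), (0, 0, 20, 0), (0, 2, 20, 0), (3, 0, 3, 4), (0, 2, 12, 0), (0, 5, 24, 0), (3, 0, 6, 7), (0, 8, 2, 0)], (0, 9, 0)),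
  ([(1, 0, 0, 0), (0, 1, 30, 0), (0, 2, 12, 0), (0, 2, 24, 0), (3, 0, 3, 4), (0, 5, 2, 0)], (0, 6, 0)),
  ([(1, 0, 0, 0), (0, 1, 30, 0), (0, 0, 20, 0), (0, 2, 20, 0), (3, 0, 3, 4), (0, 2, 24, 0), (0, 5, 12, 0), (3, 0, 6, 7), (0, 8, 17, 0)], (0, 9, 0)),
  ([(1, 0, 0, 0), (0, 1, 30, 0), (0, 2, 5, 0), (0, 2, 17, 0), (3, 0, 3, 4), (0, 5, 30, 0)], (0, 6, 0)),
  ([(1, 0, 0, 0), (0, 1, 30, 0), (0, 0, 20, 0), (0, 2, 20, 0), (3, 0, 3, 4), (0, 2, 5, 0), (0, 5, 17, 0), (3, 0, 6, 7), (0, 8, 30, 0)], (0, 9, 0)),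
  ([(1, 0, 0, 0), (0, 1, 30, 0), (0, 2, 4, 0), (0, 2, 16, 0), (3, 0, 3, 4), (0, 5, 4, 0)], (0, 6, 0)),
  ([(1, 0, 0, 0), (0, 1, 30, 0), (0, 2, 16, 0), (0, 2, 4, 0), (3, 0, 3, 4), (0, 5, 12, 0)], (0, 6, 0)),
  ([(1, 0, 0, 0), (0, 1, 30, 0), (0, 0, 20, 0), (0, 2, 20, 0), (3, 0, 3, 4), (0, 2, 9, 0), (0, 5, 29, 0), (3, 0, 6, 7), (0, 8, 27, 0)], (0, 9, 0)),
  ([(1, 0, 0, 0), (0, 1, 30, 0), (0, 2, 18, 0), (0, 2, 6, 0), (3, 0, 3, 4), (0, 5, 8, 0)], (0, 6, 0)),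
  ([(1, 0, 0, 0), (0, 1, 30, 0), (0, 2, 21, 0), (3, 0, 2, 3), (0, 4, 9, 0)], (0, 5, 0)),
  ([(1, 0, 0, 0), (0, 1, 30, 0), (0, 2, 3, 0), (0, 2, 23, 0), (3, 0, 3, 4), (0, 5, 13, 0)], (0, 6, 0)),
  ([(1, 0, 0, 0), (0, 1, 30, 0), (0, 0, 20, 0), (0, 2, 20, 0), (3, 0, 3, 4), (0, 2, 7, 0), (0, 5, 19, 0), (3, 0, 6, 7), (0, 8, 24, 0)], (0, 9, 0)),
  ([(1, 0, 0, 0), (0, 1, 30, 0), (0, 2, 15, 0), (0, 2, 27, 0), (3, 0, 3, 4), (0, 5, 21, 0)], (0, 6, 0)),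
  ([(1, 0, 0, 0), (0, 1, 30, 0), (0, 0, 20, 0), (0, 2, 20, 0), (3, 0, 3, 4), (0, 2, 19, 0), (0, 5, 7, 0), (3, 0, 6, 7), (0, 8, 29, 0)], (0, 9, 0)),
  ([(1, 0, 0, 0), (0, 1, 30, 0), (0, 0, 20, 0), (0, 2, 20, 0), (3, 0, 3, 4), (0, 5, 21, 0), (3, 0, 2, 6), (0, 7, 9, 0)], (0, 8, 0))]

/-- Refutations, first coordinate 21. -/
def case5_3_21 : List (List (ℕ × ℕ × ℕ × ℕ) × (ℕ × ℕ × ℕ)) := [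
  ([(1, 0, 0, 0), (0, 1, 26, 0), (0, 0, 21, 0), (0, 2, 21, 0), (3, 0, 3, 4), (0, 2, 28, 0), (0, 0, 28, 0), (3, 2, 6, 7), (0, 5, 24, 0), (0, 8, 4, 0), (3, 2, 9, 10), (0, 11, 28, 0)], (0, 12, 5)),
  ([(1, 0, 0, 0), (0, 1, 26, 0), (0, 0, 21, 0), (0, 2, 21, 0), (3, 0, 3, 4), (0, 2, 22, 0), (0, 5, 3, 0), (3, 0, 6, 7), (0, 8, 31, 0)], (0, 9, 0)),
  ([(1, 0, 0, 0), (0, 1, 26, 0), (0, 2, 20, 0), (3, 0, 2, 3), (0, 4, 25, 0)], (0, 5, 0)),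
  ([(1, 0, 0, 0), (0, 1, 26, 0), (0, 2, 12, 0), (0, 2, 25, 0), (3, 0, 3, 4), (0, 5, 30, 0)], (0, 6, 0)),
  ([(1, 0, 0, 0), (0, 1, 26, 0), (0, 0, 21, 0), (0, 2, 21, 0), (3, 0, 3, 4), (0, 2, 12, 0), (0, 5, 25, 0), (3, 0, 6, 7), (0, 8, 30, 0)], (0, 9, 0)),
  ([(1, 0, 0, 0), (0, 1, 26, 0), (0, 0, 21, 0), (0, 2, 21, 0), (3, 0, 3, 4), (0, 2, 18, 0), (0, 5, 7, 0), (3, 0, 6, 7), (0, 8, 7, 0)], (0, 9, 0)),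
  ([(1, 0, 0, 0), (0, 1, 26, 0), (0, 0, 21, 0), (0, 2, 21, 0), (3, 0, 3, 4), (0, 2, 8, 0), (0, 5, 29, 0), (3, 0, 6, 7), (0, 8, 18, 0)], (0, 9, 0)),
  ([(1, 0, 0, 0), (0, 1, 26, 0), (0, 0, 21, 0), (0, 2, 21, 0), (3, 0, 3, 4), (0, 5, 20, 0), (3, 0, 2, 6), (0, 7, 25, 0)], (0, 8, 0)),
  ([(1, 0, 0, 0), (0, 1, 26, 0), (0, 2, 18, 0), (0, 2, 7, 0), (3, 0, 3, 4), (0, 5, 7, 0)], (0, 6, 0)),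
  ([(1, 0, 0, 0), (0, 1, 26, 0), (0, 2, 10, 0), (0, 2, 31, 0), (3, 0, 3, 4), (0, 5, 10, 0)], (0, 6, 0)),
  ([(1, 0, 0, 0), (0, 1, 26, 0), (0, 2, 6, 0), (0, 2, 19, 0), (3, 0, 3, 4), (0, 5, 12, 0)], (0, 6, 0)),
  ([(1, 0, 0, 0), (0, 1, 26, 0), (0, 2, 4, 0), (0, 2, 17, 0), (3, 0, 3, 4), (0, 5, 13, 0)], (0, 6, 0)),
  ([(1, 0, 0, 0), (0, 1, 26, 0), (0, 0, 21, 0), (0, 2, 21, 0), (3, 0, 3, 4), (0, 2, 9, 0), (0, 5, 28, 0), (3, 0, 6, 7), (0, 8, 5, 0)], (0, 9, 0)),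
  ([(1, 0, 0, 0), (0, 1, 26, 0), (0, 0, 21, 0), (0, 2, 21, 0), (3, 0, 3, 4), (0, 2, 11, 0), (0, 5, 30, 0), (3, 0, 6, 7), (0, 8, 20, 0)], (0, 9, 0)),
  ([(1, 0, 0, 0), (0, 1, 26, 0), (0, 0, 21, 0), (0, 2, 21, 0), (3, 0, 3, 4), (0, 0, 28, 0), (0, 5, 28, 0), (3, 2, 6, 7), (0, 8, 31, 0), (0, 2, 18, 0), (0, 9, 14, 0), (3, 2, 10, 11)], (0, 12, 9)),
  ([(1, 0, 0, 0), (0, 1, 26, 0), (0, 0, 21, 0), (0, 2, 21, 0), (3, 0, 3, 4), (0, 2, 3, 0), (0, 5, 22, 0), (3, 0, 6, 7), (0, 8, 19, 0)], (0, 9, 0)),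
  ([(1, 0, 0, 0), (0, 1, 26, 0), (0, 0, 21, 0), (0, 2, 21, 0), (3, 0, 3, 4), (0, 2, 2, 0), (0, 5, 23, 0), (3, 0, 6, 7), (0, 8, 29, 0)], (0, 9, 0)),
  ([(1, 0, 0, 0), (0, 1, 26, 0), (0, 2, 16, 0), (0, 2, 5, 0), (3, 0, 3, 4), (0, 5, 2, 0)], (0, 6, 0)),
  ([(1, 0, 0, 0), (0, 1, 26, 0), (0, 2, 11, 0), (0, 2, 30, 0), (3, 0, 3, 4), (0, 5, 20, 0)], (0, 6, 0)),
  ([(1, 0, 0, 0), (0, 1, 26, 0), (0, 2, 2, 0), (0, 2, 23, 0), (3, 0, 3, 4), (0, 5, 29, 0)], (0, 6, 0)),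
  ([(1, 0, 0, 0), (0, 1, 26, 0), (0, 2, 15, 0), (0, 2, 26, 0), (3, 0, 3, 4), (0, 5, 28, 0)], (0, 6, 0)),
  ([(1, 0, 0, 0), (0, 1, 26, 0), (0, 0, 21, 0), (0, 2, 21, 0), (3, 0, 3, 4), (0, 2, 4, 0), (0, 5, 17, 0), (3, 0, 6, 7), (0, 8, 13, 0)], (0, 9, 0)),
  ([(1, 0, 0, 0), (0, 1, 26, 0), (0, 0, 21, 0), (0, 2, 21, 0), (3, 0, 3, 4), (0, 2, 5, 0), (0, 5, 16, 0), (3, 0, 6, 7), (0, 8, 17, 0)], (0, 9, 0)),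
  ([(1, 0, 0, 0), (0, 1, 26, 0), (0, 2, 9, 0), (0, 2, 28, 0), (3, 0, 3, 4), (0, 5, 5, 0)], (0, 6, 0)),
  ([(1, 0, 0, 0), (0, 1, 26, 0), (0, 0, 21, 0), (0, 2, 21, 0), (3, 0, 3, 4), (0, 2, 16, 0), (0, 5, 5, 0), (3, 0, 6, 7), (0, 8, 2, 0)], (0, 9, 0)),
  ([(1, 0, 0, 0), (0, 1, 26, 0), (0, 0, 21, 0), (0, 2, 21, 0), (3, 0, 3, 4), (0, 2, 10, 0), (0, 5, 31, 0), (3, 0, 6, 7), (0, 8, 10, 0)], (0, 9, 0)),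
  ([(1, 0, 0, 0), (0, 1, 26, 0), (0, 2, 5, 0), (0, 2, 16, 0), (3, 0, 3, 4), (0, 5, 17, 0)], (0, 6, 0)),
  ([(1, 0, 0, 0), (0, 1, 26, 0), (0, 2, 8, 0), (0, 2, 29, 0), (3, 0, 3, 4), (0, 5, 18, 0)], (0, 6, 0)),
  ([(1, 0, 0, 0), (0, 1, 26, 0), (0, 0, 21, 0), (0, 2, 21, 0), (3, 0, 3, 4), (0, 2, 6, 0), (0, 5, 19, 0), (3, 0, 6, 7), (0, 8, 12, 0)], (0, 9, 0)),
  ([(1, 0, 0, 0), (0, 1, 26, 0), (0, 2, 22, 0), (0, 2, 3, 0), (3, 0, 3, 4), (0, 5, 31, 0)], (0, 6, 0)),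
  ([(1, 0, 0, 0), (0, 1, 26, 0), (0, 2, 3, 0), (0, 2, 22, 0), (3, 0, 3, 4), (0, 5, 19, 0)], (0, 6, 0)),
  ([(1, 0, 0, 0), (0, 1, 26, 0), (0, 0, 21, 0), (0, 2, 21, 0), (3, 0, 3, 4), (0, 2, 15, 0), (0, 5, 26, 0), (3, 0, 6, 7), (0, 8, 28, 0)], (0, 9, 0))]

/-- Refutations, first coordinate 22. -/
def case5_3_22 : List (List (ℕ × ℕ × ℕ × ℕ) × (ℕ × ℕ × ℕ)) := [
  ([(1, 0, 0, 0), (0, 1, 8, 0), (0, 0, 22, 0), (0, 2, 22, 0), (3, 0, 3, 4), (0, 0, 25, 0), (0, 5, 25, 0), (3, 2, 6, 7), (0, 8, 4, 0), (0, 2, 13, 0), (0, 9, 20, 0), (3, 2, 10, 11), (0, 2, 23, 0), (0, 12, 14, 0), (3, 2, 13, 14), (0, 2, 27, 0), (0, 9, 2, 0), (3, 2, 16, 17), (0, 5, 7, 0), (0, 15, 30, 0), (3, 2, 19, 20), (0, 21, 2, 0)], (0, 22, 18)),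
  ([(1, 0, 0, 0), (0, 1, 8, 0), (0, 0, 22, 0), (0, 2, 22, 0), (3, 0, 3, 4), (0, 2, 4, 0), (0, 5, 18, 0), (3, 0, 6, 7), (0, 8, 20, 0)], (0, 9, 0)),
  ([(1, 0, 0, 0), (0, 1, 8, 0), (0, 2, 7, 0), (0, 2, 17, 0), (3, 0, 3, 4), (0, 5, 17, 0)], (0, 6, 0)),
  ([(1, 0, 0, 0), (0, 1, 8, 0), (0, 2, 16, 0), (0, 2, 6, 0), (3, 0, 3, 4), (0, 5, 5, 0)], (0, 6, 0)),
  ([(1, 0, 0, 0), (0, 1, 8, 0), (0, 2, 17, 0), (0, 2, 7, 0), (3, 0, 3, 4), (0, 5, 2, 0)], (0, 6, 0)),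
  ([(1, 0, 0, 0), (0, 1, 8, 0), (0, 2, 23, 0), (3, 0, 2, 3), (0, 4, 15, 0)], (0, 5, 0)),
  ([(1, 0, 0, 0), (0, 1, 8, 0), (0, 2, 13, 0), (0, 2, 27, 0), (3, 0, 3, 4), (0, 5, 13, 0)], (0, 6, 0)),
  ([(1, 0, 0, 0), (0, 1, 8, 0), (0, 0, 22, 0), (0, 2, 22, 0), (3, 0, 3, 4), (0, 2, 26, 0), (0, 5, 12, 0), (3, 0, 6, 7), (0, 8, 18, 0)], (0, 9, 0)),
  ([(1, 0, 0, 0), (0, 1, 8, 0), (0, 2, 6, 0), (0, 2, 16, 0), (3, 0, 3, 4), (0, 5, 27, 0)], (0, 6, 0)),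
  ([(1, 0, 0, 0), (0, 1, 8, 0), (0, 0, 22, 0), (0, 2, 22, 0), (3, 0, 3, 4), (0, 5, 23, 0), (3, 0, 2, 6), (0, 7, 15, 0)], (0, 8, 0)),
  ([(1, 0, 0, 0), (0, 1, 8, 0), (0, 2, 8, 0), (0, 2, 30, 0), (3, 0, 3, 4), (0, 5, 31, 0)], (0, 6, 0)),
  ([(1, 0, 0, 0), (0, 1, 8, 0), (0, 2, 3, 0), (0, 2, 21, 0), (3, 0, 3, 4), (0, 5, 16, 0)], (0, 6, 0)),
  ([(1, 0, 0, 0), (0, 1, 8, 0), (0, 0, 22, 0), (0, 2, 22, 0), (3, 0, 3, 4), (0, 2, 7, 0), (0, 5, 17, 0), (3, 0, 6, 7), (0, 8, 17, 0)], (0, 9, 0)),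
  ([(1, 0, 0, 0), (0, 1, 8, 0), (0, 2, 26, 0), (0, 2, 12, 0), (3, 0, 3, 4), (0, 5, 18, 0)], (0, 6, 0)),
  ([(1, 0, 0, 0), (0, 1, 8, 0), (0, 0, 22, 0), (0, 2, 22, 0), (3, 0, 3, 4), (0, 2, 16, 0), (0, 5, 6, 0), (3, 0, 6, 7), (0, 8, 5, 0)], (0, 9, 0)),
  ([(1, 0, 0, 0), (0, 1, 8, 0), (0, 0, 22, 0), (0, 2, 22, 0), (3, 0, 3, 4), (0, 2, 8, 0), (0, 5, 30, 0), (3, 0, 6, 7), (0, 8, 31, 0)], (0, 9, 0)),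
  ([(1, 0, 0, 0), (0, 1, 8, 0), (0, 0, 22, 0), (0, 2, 22, 0), (3, 0, 3, 4), (0, 0, 25, 0), (0, 5, 25, 0), (3, 2, 6, 7), (0, 8, 4, 0), (0, 0, 26, 0), (0, 9, 25, 0), (3, 2, 10, 11), (0, 12, 12, 0), (0, 0, 30, 0), (0, 13, 25, 0), (3, 2, 14, 15), (0, 16, 24, 0), (0, 13, 24, 0), (3, 2, 2, 18)], (0, 19, 17)),
  ([(1, 0, 0, 0), (0, 1, 8, 0), (0, 0, 22, 0), (0, 2, 22, 0), (3, 0, 3, 4), (0, 2, 18, 0), (0, 5, 4, 0), (3, 0, 6, 7), (0, 8, 23, 0)], (0, 9, 0)),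
  ([(1, 0, 0, 0), (0, 1, 8, 0), (0, 2, 9, 0), (0, 2, 31, 0), (3, 0, 3, 4), (0, 5, 28, 0)], (0, 6, 0)),
  ([(1, 0, 0, 0), (0, 1, 8, 0), (0, 0, 22, 0), (0, 2, 22, 0), (3, 0, 3, 4), (0, 2, 14, 0), (0, 5, 24, 0), (3, 0, 6, 7), (0, 8, 10, 0)], (0, 9, 0)),
  ([(1, 0, 0, 0), (0, 1, 8, 0), (0, 0, 22, 0), (0, 2, 22, 0), (3, 0, 3, 4), (0, 2, 9, 0), (0, 5, 31, 0), (3, 0, 6, 7), (0, 8, 28, 0)], (0, 9, 0)),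
  ([(1, 0, 0, 0), (0, 1, 8, 0), (0, 2, 4, 0), (0, 2, 18, 0), (3, 0, 3, 4), (0, 5, 20, 0)], (0, 6, 0)),
  ([(1, 0, 0, 0), (0, 1, 8, 0), (0, 0, 22, 0), (0, 2, 22, 0), (3, 0, 3, 4), (0, 2, 5, 0), (0, 5, 19, 0), (3, 0, 6, 7), (0, 8, 7, 0)], (0, 9, 0)),
  ([(1, 0, 0, 0), (0, 1, 8, 0), (0, 2, 5, 0), (0, 2, 19, 0), (3, 0, 3, 4), (0, 5, 7, 0)], (0, 6, 0)),
  ([(1, 0, 0, 0), (0, 1, 8, 0), (0, 2, 14, 0), (0, 2, 24, 0), (3, 0, 3, 4), (0, 5, 10, 0)], (0, 6, 0)),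
  ([(1, 0, 0, 0), (0, 1, 8, 0), (0, 2, 18, 0), (0, 2, 4, 0), (3, 0, 3, 4), (0, 5, 23, 0)], (0, 6, 0)),
  ([(1, 0, 0, 0), (0, 1, 8, 0), (0, 0, 22, 0), (0, 2, 22, 0), (3, 0, 3, 4), (0, 2, 3, 0), (0, 5, 21, 0), (3, 0, 6, 7), (0, 8, 16, 0)], (0, 9, 0)),
  ([(1, 0, 0, 0), (0, 1, 8, 0), (0, 0, 22, 0), (0, 2, 22, 0), (3, 0, 3, 4), (0, 2, 2, 0), (0, 5, 20, 0), (3, 0, 6, 7), (0, 8, 24, 0)], (0, 9, 0)),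
  ([(1, 0, 0, 0), (0, 1, 8, 0), (0, 0, 22, 0), (0, 2, 22, 0), (3, 0, 3, 4), (0, 2, 17, 0), (0, 5, 7, 0), (3, 0, 6, 7), (0, 8, 2, 0)], (0, 9, 0)),
  ([(1, 0, 0, 0), (0, 1, 8, 0), (0, 0, 22, 0), (0, 2, 22, 0), (3, 0, 3, 4), (0, 2, 13, 0), (0, 5, 27, 0), (3, 0, 6, 7), (0, 8, 13, 0)], (0, 9, 0)),
  ([(1, 0, 0, 0), (0, 1, 8, 0), (0, 0, 22, 0), (0, 2, 22, 0), (3, 0, 3, 4), (0, 2, 6, 0), (0, 5, 16, 0), (3, 0, 6, 7), (0, 8, 27, 0)], (0, 9, 0)),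
  ([(1, 0, 0, 0), (0, 1, 8, 0), (0, 2, 2, 0), (0, 2, 20, 0), (3, 0, 3, 4), (0, 5, 24, 0)], (0, 6, 0))]

/-- Refutations, first coordinate 23. -/
def case5_3_23 : List (List (ℕ × ℕ × ℕ × ℕ) × (ℕ × ℕ × ℕ)) := [
  ([(1, 0, 0, 0), (0, 1, 5, 0), (0, 0, 23, 0), (0, 2, 23, 0), (3, 0, 3, 4), (0, 2, 24, 0), (0, 0, 24, 0), (3, 2, 6, 7), (0, 5, 21, 0), (0, 8, 13, 0), (3, 2, 9, 10), (0, 11, 24, 0)], (0, 12, 5)),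
  ([(1, 0, 0, 0), (0, 1, 5, 0), (0, 2, 4, 0), (0, 2, 19, 0), (3, 0, 3, 4), (0, 5, 5, 0)], (0, 6, 0)),
  ([(1, 0, 0, 0), (0, 1, 5, 0), (0, 2, 10, 0), (0, 2, 29, 0), (3, 0, 3, 4), (0, 5, 13, 0)], (0, 6, 0)),
  ([(1, 0, 0, 0), (0, 1, 5, 0), (0, 2, 9, 0), (0, 2, 30, 0), (3, 0, 3, 4), (0, 5, 15, 0)], (0, 6, 0)),
  ([(1, 0, 0, 0), (0, 1, 5, 0), (0, 2, 14, 0), (0, 2, 25, 0), (3, 0, 3, 4), (0, 5, 11, 0)], (0, 6, 0)),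
  ([(1, 0, 0, 0), (0, 1, 5, 0), (0, 0, 23, 0), (0, 2, 23, 0), (3, 0, 3, 4), (0, 2, 2, 0), (0, 5, 21, 0), (3, 0, 6, 7), (0, 8, 31, 0)], (0, 9, 0)),
  ([(1, 0, 0, 0), (0, 1, 5, 0), (0, 2, 2, 0), (0, 2, 21, 0), (3, 0, 3, 4), (0, 5, 31, 0)], (0, 6, 0)),
  ([(1, 0, 0, 0), (0, 1, 5, 0), (0, 0, 23, 0), (0, 2, 23, 0), (3, 0, 3, 4), (0, 2, 9, 0), (0, 5, 30, 0), (3, 0, 6, 7), (0, 8, 15, 0)], (0, 9, 0)),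
  ([(1, 0, 0, 0), (0, 1, 5, 0), (0, 0, 23, 0), (0, 2, 23, 0), (3, 0, 3, 4), (0, 2, 7, 0), (0, 5, 16, 0), (3, 0, 6, 7), (0, 8, 21, 0)], (0, 9, 0)),
  ([(1, 0, 0, 0), (0, 1, 5, 0), (0, 0, 23, 0), (0, 2, 23, 0), (3, 0, 3, 4), (0, 2, 18, 0), (0, 5, 5, 0), (3, 0, 6, 7), (0, 8, 24, 0)], (0, 9, 0)),
  ([(1, 0, 0, 0), (0, 1, 5, 0), (0, 2, 16, 0), (0, 2, 7, 0), (3, 0, 3, 4), (0, 5, 25, 0)], (0, 6, 0)),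
  ([(1, 0, 0, 0), (0, 1, 5, 0), (0, 0, 23, 0), (0, 2, 23, 0), (3, 0, 3, 4), (0, 2, 10, 0), (0, 5, 29, 0), (3, 0, 6, 7), (0, 8, 13, 0)], (0, 9, 0)),
  ([(1, 0, 0, 0), (0, 1, 5, 0), (0, 0, 23, 0), (0, 2, 23, 0), (3, 0, 3, 4), (0, 2, 11, 0), (0, 5, 28, 0), (3, 0, 6, 7), (0, 8, 28, 0)], (0, 9, 0)),
  ([(1, 0, 0, 0), (0, 1, 5, 0), (0, 0, 23, 0), (0, 2, 23, 0), (3, 0, 3, 4), (0, 2, 3, 0), (0, 5, 20, 0), (3, 0, 6, 7), (0, 8, 8, 0)], (0, 9, 0)),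
  ([(1, 0, 0, 0), (0, 1, 5, 0), (0, 2, 11, 0), (0, 2, 28, 0), (3, 0, 3, 4), (0, 5, 28, 0)], (0, 6, 0)),
  ([(1, 0, 0, 0), (0, 1, 5, 0), (0, 0, 23, 0), (0, 2, 23, 0), (3, 0, 3, 4), (0, 2, 22, 0), (3, 0, 6, 5), (0, 7, 23, 0)], (0, 8, 0)),
  ([(1, 0, 0, 0), (0, 1, 5, 0), (0, 2, 22, 0), (3, 0, 2, 3), (0, 4, 20, 0)], (0, 5, 0)),
  ([(1, 0, 0, 0), (0, 1, 5, 0), (0, 2, 3, 0), (0, 2, 20, 0), (3, 0, 3, 4), (0, 5, 8, 0)], (0, 6, 0)),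
  ([(1, 0, 0, 0), (0, 1, 5, 0), (0, 2, 7, 0), (0, 2, 16, 0), (3, 0, 3, 4), (0, 5, 21, 0)], (0, 6, 0)),
  ([(1, 0, 0, 0), (0, 1, 5, 0), (0, 0, 23, 0), (0, 2, 23, 0), (3, 0, 3, 4), (0, 0, 24, 0), (0, 5, 24, 0), (3, 2, 6, 7), (0, 8, 9, 0), (0, 2, 11, 0), (0, 9, 19, 0), (3, 2, 10, 11)], (0, 12, 9)),
  ([(1, 0, 0, 0), (0, 1, 5, 0), (0, 2, 22, 0), (3, 0, 3, 2), (0, 4, 23, 0)], (0, 5, 0)),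
  ([(1, 0, 0, 0), (0, 1, 5, 0), (0, 2, 5, 0), (0, 2, 18, 0), (3, 0, 3, 4), (0, 5, 29, 0)], (0, 6, 0)),
  ([(1, 0, 0, 0), (0, 1, 5, 0), (0, 2, 18, 0), (0, 2, 5, 0), (3, 0, 3, 4), (0, 5, 24, 0)], (0, 6, 0)),
  ([(1, 0, 0, 0), (0, 1, 5, 0), (0, 0, 23, 0), (0, 2, 23, 0), (3, 0, 3, 4), (0, 2, 13, 0), (0, 5, 26, 0), (3, 0, 6, 7), (0, 8, 2, 0)], (0, 9, 0)),
  ([(1, 0, 0, 0), (0, 1, 5, 0), (0, 2, 20, 0), (0, 2, 3, 0), (3, 0, 3, 4), (0, 5, 18, 0)], (0, 6, 0)),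
  ([(1, 0, 0, 0), (0, 1, 5, 0), (0, 0, 23, 0), (0, 2, 23, 0), (3, 0, 3, 4), (0, 2, 4, 0), (0, 5, 19, 0), (3, 0, 6, 7), (0, 8, 5, 0)], (0, 9, 0)),
  ([(1, 0, 0, 0), (0, 1, 5, 0), (0, 0, 23, 0), (0, 2, 23, 0), (3, 0, 3, 4), (0, 2, 5, 0), (0, 5, 18, 0), (3, 0, 6, 7), (0, 8, 29, 0)], (0, 9, 0)),
  ([(1, 0, 0, 0), (0, 1, 5, 0), (0, 0, 23, 0), (0, 2, 23, 0), (3, 0, 3, 4), (0, 2, 16, 0), (0, 5, 7, 0), (3, 0, 6, 7), (0, 8, 25, 0)], (0, 9, 0)),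
  ([(1, 0, 0, 0), (0, 1, 5, 0), (0, 0, 23, 0), (0, 2, 23, 0), (3, 0, 3, 4), (0, 5, 22, 0), (3, 0, 2, 6), (0, 7, 20, 0)], (0, 8, 0)),
  ([(1, 0, 0, 0), (0, 1, 5, 0), (0, 0, 23, 0), (0, 2, 23, 0), (3, 0, 3, 4), (0, 2, 14, 0), (0, 5, 25, 0), (3, 0, 6, 7), (0, 8, 11, 0)], (0, 9, 0)),
  ([(1, 0, 0, 0), (0, 1, 5, 0), (0, 0, 23, 0), (0, 2, 23, 0), (3, 0, 3, 4), (0, 2, 20, 0), (0, 5, 3, 0), (3, 0, 6, 7), (0, 8, 18, 0)], (0, 9, 0)),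
  ([(1, 0, 0, 0), (0, 1, 5, 0), (0, 2, 13, 0), (0, 2, 26, 0), (3, 0, 3, 4), (0, 5, 2, 0)], (0, 6, 0))]

/-- Refutations, first coordinate 24. -/
def case5_3_24 : List (List (ℕ × ℕ × ℕ × ℕ) × (ℕ × ℕ × ℕ)) := [
  ([(1, 0, 0, 0), (0, 1, 17, 0), (0, 0, 24, 0), (0, 2, 24, 0), (3, 0, 3, 4), (0, 5, 7, 0)], (2, 2, 6)),
  ([(1, 0, 0, 0), (0, 1, 17, 0), (0, 2, 16, 0), (0, 2, 8, 0), (3, 0, 3, 4), (0, 5, 17, 0)], (0, 6, 0)),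
  ([(1, 0, 0, 0), (0, 1, 17, 0), (0, 2, 8, 0), (0, 2, 16, 0), (3, 0, 3, 4), (0, 5, 2, 0)], (0, 6, 0)),
  ([(1, 0, 0, 0), (0, 1, 17, 0), (0, 2, 2, 0), (0, 2, 26, 0), (3, 0, 3, 4), (0, 5, 13, 0)], (0, 6, 0)),
  ([(1, 0, 0, 0), (0, 1, 17, 0), (0, 2, 14, 0), (0, 2, 22, 0), (3, 0, 3, 4), (0, 5, 27, 0)], (0, 6, 0)),
  ([(1, 0, 0, 0), (0, 1, 17, 0), (0, 2, 11, 0), (0, 2, 19, 0), (3, 0, 3, 4), (0, 5, 31, 0)], (0, 6, 0)),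
  ([(1, 0, 0, 0), (0, 1, 17, 0), (0, 0, 24, 0), (0, 2, 24, 0), (3, 0, 3, 4), (0, 2, 16, 0), (0, 5, 8, 0), (3, 0, 6, 7), (0, 8, 17, 0)], (0, 9, 0)),
  ([(1, 0, 0, 0), (0, 1, 17, 0), (0, 0, 24, 0), (0, 2, 24, 0), (3, 0, 3, 4), (0, 2, 22, 0), (0, 5, 14, 0), (3, 0, 6, 7), (0, 8, 5, 0)], (0, 9, 0)),
  ([(1, 0, 0, 0), (0, 1, 17, 0), (0, 0, 24, 0), (0, 2, 24, 0), (3, 0, 3, 4), (0, 0, 7, 0), (0, 5, 7, 0), (3, 2, 6, 7), (0, 8, 11, 0), (0, 0, 26, 0), (0, 9, 7, 0), (3, 2, 10, 11), (0, 12, 13, 0)], (0, 13, 9)),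
  ([(1, 0, 0, 0), (0, 1, 17, 0), (0, 0, 24, 0), (0, 2, 24, 0), (3, 0, 3, 4), (0, 2, 12, 0), (0, 5, 20, 0), (3, 0, 6, 7), (0, 8, 14, 0)], (0, 9, 0)),
  ([(1, 0, 0, 0), (0, 1, 17, 0), (0, 2, 12, 0), (0, 2, 20, 0), (3, 0, 3, 4), (0, 5, 14, 0)], (0, 6, 0)),
  ([(1, 0, 0, 0), (0, 1, 17, 0), (0, 0, 24, 0), (0, 2, 24, 0), (3, 0, 3, 4), (0, 2, 9, 0), (0, 5, 17, 0), (3, 0, 6, 7), (0, 8, 7, 0)], (0, 9, 0)),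
  ([(1, 0, 0, 0), (0, 1, 17, 0), (0, 2, 5, 0), (0, 2, 29, 0), (3, 0, 3, 4), (0, 5, 10, 0)], (0, 6, 0)),
  ([(1, 0, 0, 0), (0, 1, 17, 0), (0, 2, 25, 0), (3, 0, 2, 3), (0, 4, 29, 0)], (0, 5, 0)),
  ([(1, 0, 0, 0), (0, 1, 17, 0), (0, 0, 24, 0), (0, 2, 24, 0), (3, 0, 3, 4), (0, 2, 8, 0), (0, 5, 16, 0), (3, 0, 6, 7), (0, 8, 2, 0)], (0, 9, 0)),
  ([(1, 0, 0, 0), (0, 1, 17, 0), (0, 0, 24, 0), (0, 2, 24, 0), (3, 0, 3, 4), (0, 2, 14, 0), (0, 5, 22, 0), (3, 0, 6, 7), (0, 8, 27, 0)], (0, 9, 0)),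
  ([(1, 0, 0, 0), (0, 1, 17, 0), (0, 0, 24, 0), (0, 2, 24, 0), (3, 0, 3, 4), (0, 2, 3, 0), (0, 5, 27, 0), (3, 0, 6, 7), (0, 8, 12, 0)], (0, 9, 0)),
  ([(1, 0, 0, 0), (0, 1, 17, 0), (0, 0, 24, 0), (0, 2, 24, 0), (3, 0, 3, 4), (0, 2, 4, 0), (0, 5, 28, 0), (3, 0, 6, 7), (0, 8, 18, 0)], (0, 9, 0)),
  ([(1, 0, 0, 0), (0, 1, 17, 0), (0, 0, 24, 0), (0, 2, 24, 0), (3, 0, 3, 4), (0, 2, 23, 0), (0, 5, 15, 0), (3, 0, 6, 7), (0, 8, 20, 0)], (0, 9, 0)),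
  ([(1, 0, 0, 0), (0, 1, 17, 0), (0, 2, 22, 0), (0, 2, 14, 0), (3, 0, 3, 4), (0, 5, 5, 0)], (0, 6, 0)),
  ([(1, 0, 0, 0), (0, 1, 17, 0), (0, 2, 4, 0), (0, 2, 28, 0), (3, 0, 3, 4), (0, 5, 18, 0)], (0, 6, 0)),
  ([(1, 0, 0, 0), (0, 1, 17, 0), (0, 0, 24, 0), (0, 2, 24, 0), (3, 0, 3, 4), (0, 2, 11, 0), (0, 5, 19, 0), (3, 0, 6, 7), (0, 8, 31, 0)], (0, 9, 0)),
  ([(1, 0, 0, 0), (0, 1, 17, 0), (0, 2, 3, 0), (0, 2, 27, 0), (3, 0, 3, 4), (0, 5, 12, 0)], (0, 6, 0)),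
  ([(1, 0, 0, 0), (0, 1, 17, 0), (0, 0, 24, 0), (0, 2, 24, 0), (3, 0, 3, 4), (0, 5, 25, 0), (3, 0, 2, 6), (0, 7, 29, 0)], (0, 8, 0)),
  ([(1, 0, 0, 0), (0, 1, 17, 0), (0, 2, 23, 0), (0, 2, 15, 0), (3, 0, 3, 4), (0, 5, 20, 0)], (0, 6, 0)),
  ([(1, 0, 0, 0), (0, 1, 17, 0), (0, 2, 9, 0), (0, 2, 17, 0), (3, 0, 3, 4), (0, 5, 7, 0)], (0, 6, 0)),
  ([(1, 0, 0, 0), (0, 1, 17, 0), (0, 2, 6, 0), (0, 2, 30, 0), (3, 0, 3, 4), (0, 5, 30, 0)], (0, 6, 0)),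
  ([(1, 0, 0, 0), (0, 1, 17, 0), (0, 0, 24, 0), (0, 2, 24, 0), (3, 0, 3, 4), (0, 2, 5, 0), (0, 5, 29, 0), (3, 0, 6, 7), (0, 8, 10, 0)], (0, 9, 0)),
  ([(1, 0, 0, 0), (0, 1, 17, 0), (0, 0, 24, 0), (0, 2, 24, 0), (3, 0, 3, 4), (0, 2, 2, 0), (0, 5, 26, 0), (3, 0, 6, 7), (0, 8, 13, 0)], (0, 9, 0)),
  ([(1, 0, 0, 0), (0, 1, 17, 0), (0, 0, 24, 0), (0, 2, 24, 0), (3, 0, 3, 4), (0, 2, 19, 0), (0, 5, 11, 0), (3, 0, 6, 7), (0, 8, 19, 0)], (0, 9, 0)),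
  ([(1, 0, 0, 0), (0, 1, 17, 0), (0, 0, 24, 0), (0, 2, 24, 0), (3, 0, 3, 4), (0, 2, 6, 0), (0, 5, 30, 0), (3, 0, 6, 7), (0, 8, 30, 0)], (0, 9, 0)),
  ([(1, 0, 0, 0), (0, 1, 17, 0), (0, 2, 19, 0), (0, 2, 11, 0), (3, 0, 3, 4), (0, 5, 19, 0)], (0, 6, 0))]

/-- Refutations, first coordinate 25. -/
def case5_3_25 : List (List (ℕ × ℕ × ℕ × ℕ) × (ℕ × ℕ × ℕ)) := [
  ([(1, 0, 0, 0), (0, 1, 10, 0), (0, 0, 25, 0), (0, 2, 25, 0), (3, 0, 3, 4), (0, 0, 6, 0), (0, 5, 6, 0), (3, 2, 6, 7), (0, 8, 16, 0), (0, 0, 8, 0), (0, 9, 6, 0), (3, 2, 10, 11), (0, 12, 30, 0), (0, 2, 4, 0), (0, 13, 2, 0), (3, 2, 14, 15)], (0, 16, 13)),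
  ([(1, 0, 0, 0), (0, 1, 10, 0), (0, 0, 25, 0), (0, 2, 25, 0), (3, 0, 3, 4), (0, 2, 16, 0), (0, 5, 9, 0), (3, 0, 6, 7), (0, 8, 29, 0)], (0, 9, 0)),
  ([(1, 0, 0, 0), (0, 1, 10, 0), (0, 0, 25, 0), (0, 2, 25, 0), (3, 0, 3, 4), (0, 2, 4, 0), (0, 5, 29, 0), (3, 0, 6, 7), (0, 8, 7, 0)], (0, 9, 0)),
  ([(1, 0, 0, 0), (0, 1, 10, 0), (0, 0, 25, 0), (0, 2, 25, 0), (3, 0, 3, 4), (0, 2, 5, 0), (0, 5, 28, 0), (3, 0, 6, 7), (0, 8, 13, 0)], (0, 9, 0)),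
  ([(1, 0, 0, 0), (0, 1, 10, 0), (0, 2, 21, 0), (0, 2, 12, 0), (3, 0, 3, 4), (0, 5, 12, 0)], (0, 6, 0)),
  ([(1, 0, 0, 0), (0, 1, 10, 0), (0, 0, 25, 0), (0, 2, 25, 0), (3, 0, 3, 4), (0, 2, 7, 0), (0, 5, 30, 0), (3, 0, 6, 7), (0, 8, 11, 0)], (0, 9, 0)),
  ([(1, 0, 0, 0), (0, 1, 10, 0), (0, 2, 9, 0), (0, 2, 16, 0), (3, 0, 3, 4), (0, 5, 24, 0)], (0, 6, 0)),
  ([(1, 0, 0, 0), (0, 1, 10, 0), (0, 0, 25, 0), (0, 2, 25, 0), (3, 0, 3, 4), (0, 2, 23, 0), (0, 5, 14, 0), (3, 0, 6, 7), (0, 8, 28, 0)], (0, 9, 0)),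
  ([(1, 0, 0, 0), (0, 1, 10, 0), (0, 2, 23, 0), (0, 2, 14, 0), (3, 0, 3, 4), (0, 5, 28, 0)], (0, 6, 0)),
  ([(1, 0, 0, 0), (0, 1, 10, 0), (0, 2, 11, 0), (0, 2, 18, 0), (3, 0, 3, 4), (0, 5, 23, 0)], (0, 6, 0)),
  ([(1, 0, 0, 0), (0, 1, 10, 0), (0, 0, 25, 0), (0, 2, 25, 0), (3, 0, 3, 4), (0, 2, 14, 0), (0, 5, 23, 0), (3, 0, 6, 7), (0, 8, 6, 0)], (0, 9, 0)),
  ([(1, 0, 0, 0), (0, 1, 10, 0), (0, 0, 25, 0), (0, 2, 25, 0), (3, 0, 3, 4), (0, 5, 24, 0), (3, 0, 2, 6), (0, 7, 31, 0)], (0, 8, 0)),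
  ([(1, 0, 0, 0), (0, 1, 10, 0), (0, 0, 25, 0), (0, 2, 25, 0), (3, 0, 3, 4), (0, 2, 9, 0), (0, 5, 16, 0), (3, 0, 6, 7), (0, 8, 24, 0)], (0, 9, 0)),
  ([(1, 0, 0, 0), (0, 1, 10, 0), (0, 0, 25, 0), (0, 2, 25, 0), (3, 0, 3, 4), (0, 5, 6, 0)], (2, 2, 6)),
  ([(1, 0, 0, 0), (0, 1, 10, 0), (0, 2, 10, 0), (0, 2, 19, 0), (3, 0, 3, 4), (0, 5, 18, 0)], (0, 6, 0)),
  ([(1, 0, 0, 0), (0, 1, 10, 0), (0, 2, 5, 0), (0, 2, 28, 0), (3, 0, 3, 4), (0, 5, 13, 0)], (0, 6, 0)),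
  ([(1, 0, 0, 0), (0, 1, 10, 0), (0, 2, 12, 0), (0, 2, 21, 0), (3, 0, 3, 4), (0, 5, 4, 0)], (0, 6, 0)),
  ([(1, 0, 0, 0), (0, 1, 10, 0), (0, 2, 24, 0), (3, 0, 2, 3), (0, 4, 31, 0)], (0, 5, 0)),
  ([(1, 0, 0, 0), (0, 1, 10, 0), (0, 2, 4, 0), (0, 2, 29, 0), (3, 0, 3, 4), (0, 5, 7, 0)], (0, 6, 0)),
  ([(1, 0, 0, 0), (0, 1, 10, 0), (0, 2, 14, 0), (0, 2, 23, 0), (3, 0, 3, 4), (0, 5, 6, 0)], (0, 6, 0)),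
  ([(1, 0, 0, 0), (0, 1, 10, 0), (0, 0, 25, 0), (0, 2, 25, 0), (3, 0, 3, 4), (0, 2, 8, 0), (0, 5, 17, 0), (3, 0, 6, 7), (0, 8, 25, 0)], (0, 9, 0)),
  ([(1, 0, 0, 0), (0, 1, 10, 0), (0, 2, 2, 0), (0, 2, 27, 0), (3, 0, 3, 4), (0, 5, 5, 0)], (0, 6, 0)),
  ([(1, 0, 0, 0), (0, 1, 10, 0), (0, 2, 8, 0), (0, 2, 17, 0), (3, 0, 3, 4), (0, 5, 25, 0)], (0, 6, 0)),
  ([(1, 0, 0, 0), (0, 1, 10, 0), (0, 0, 25, 0), (0, 2, 25, 0), (3, 0, 3, 4), (0, 2, 12, 0), (0, 5, 21, 0), (3, 0, 6, 7), (0, 8, 4, 0)], (0, 9, 0)),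
  ([(1, 0, 0, 0), (0, 1, 10, 0), (0, 2, 17, 0), (0, 2, 8, 0), (3, 0, 3, 4), (0, 5, 21, 0)], (0, 6, 0)),
  ([(1, 0, 0, 0), (0, 1, 10, 0), (0, 0, 25, 0), (0, 2, 25, 0), (3, 0, 3, 4), (0, 2, 17, 0), (0, 5, 8, 0), (3, 0, 6, 7), (0, 8, 21, 0)], (0, 9, 0)),
  ([(1, 0, 0, 0), (0, 1, 10, 0), (0, 0, 25, 0), (0, 2, 25, 0), (3, 0, 3, 4), (0, 2, 21, 0), (0, 5, 12, 0), (3, 0, 6, 7), (0, 8, 12, 0)], (0, 9, 0)),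
  ([(1, 0, 0, 0), (0, 1, 10, 0), (0, 0, 25, 0), (0, 2, 25, 0), (3, 0, 3, 4), (0, 2, 2, 0), (0, 5, 27, 0), (3, 0, 6, 7), (0, 8, 5, 0)], (0, 9, 0)),
  ([(1, 0, 0, 0), (0, 1, 10, 0), (0, 2, 16, 0), (0, 2, 9, 0), (3, 0, 3, 4), (0, 5, 29, 0)], (0, 6, 0)),
  ([(1, 0, 0, 0), (0, 1, 10, 0), (0, 0, 25, 0), (0, 2, 25, 0), (3, 0, 3, 4), (0, 2, 11, 0), (0, 5, 18, 0), (3, 0, 6, 7), (0, 8, 23, 0)], (0, 9, 0)),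
  ([(1, 0, 0, 0), (0, 1, 10, 0), (0, 2, 7, 0), (0, 2, 30, 0), (3, 0, 3, 4), (0, 5, 11, 0)], (0, 6, 0)),
  ([(1, 0, 0, 0), (0, 1, 10, 0), (0, 0, 25, 0), (0, 2, 25, 0), (3, 0, 3, 4), (0, 2, 10, 0), (0, 5, 19, 0), (3, 0, 6, 7), (0, 8, 18, 0)], (0, 9, 0))]

/-- Refutations, first coordinate 26. -/
def case5_3_26 : List (List (ℕ × ℕ × ℕ × ℕ) × (ℕ × ℕ × ℕ)) := [
  ([(1, 0, 0, 0), (0, 1, 21, 0), (0, 0, 26, 0), (0, 2, 26, 0), (3, 0, 3, 4), (0, 0, 3, 0), (0, 5, 3, 0), (3, 2, 6, 7), (0, 8, 30, 0), (0, 0, 17, 0), (0, 9, 3, 0), (3, 2, 10, 11), (0, 12, 29, 0), (0, 0, 25, 0), (0, 13, 3, 0), (3, 2, 14, 15), (0, 16, 20, 0), (0, 2, 24, 0), (0, 9, 27, 0), (3, 2, 18, 19)], (0, 20, 17)),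
  ([(1, 0, 0, 0), (0, 1, 21, 0), (0, 2, 5, 0), (0, 2, 31, 0), (3, 0, 3, 4), (0, 5, 19, 0)], (0, 6, 0)),
  ([(1, 0, 0, 0), (0, 1, 21, 0), (0, 2, 25, 0), (0, 2, 3, 0), (3, 0, 3, 4), (0, 5, 21, 0)], (0, 6, 0)),
  ([(1, 0, 0, 0), (0, 1, 21, 0), (0, 2, 27, 0), (3, 0, 2, 3), (0, 4, 27, 0)], (0, 5, 0)),
  ([(1, 0, 0, 0), (0, 1, 21, 0), (0, 0, 26, 0), (0, 2, 26, 0), (3, 0, 3, 4), (0, 2, 4, 0), (0, 5, 30, 0), (3, 0, 6, 7), (0, 8, 9, 0)], (0, 9, 0)),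
  ([(1, 0, 0, 0), (0, 1, 21, 0), (0, 0, 26, 0), (0, 2, 26, 0), (3, 0, 3, 4), (0, 2, 25, 0), (0, 5, 3, 0), (3, 0, 6, 7), (0, 8, 21, 0)], (0, 9, 0)),
  ([(1, 0, 0, 0), (0, 1, 21, 0), (0, 0, 26, 0), (0, 2, 26, 0), (3, 0, 3, 4), (0, 5, 3, 0)], (2, 2, 6)),
  ([(1, 0, 0, 0), (0, 1, 21, 0), (0, 0, 26, 0), (0, 2, 26, 0), (3, 0, 3, 4), (0, 2, 6, 0), (0, 5, 28, 0), (3, 0, 6, 7), (0, 8, 29, 0)], (0, 9, 0)),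
  ([(1, 0, 0, 0), (0, 1, 21, 0), (0, 0, 26, 0), (0, 2, 26, 0), (3, 0, 3, 4), (0, 2, 9, 0), (0, 5, 19, 0), (3, 0, 6, 7), (0, 8, 22, 0)], (0, 9, 0)),
  ([(1, 0, 0, 0), (0, 1, 21, 0), (0, 2, 9, 0), (0, 2, 19, 0), (3, 0, 3, 4), (0, 5, 22, 0)], (0, 6, 0)),
  ([(1, 0, 0, 0), (0, 1, 21, 0), (0, 0, 26, 0), (0, 2, 26, 0), (3, 0, 3, 4), (0, 2, 16, 0), (0, 5, 10, 0), (3, 0, 6, 7), (0, 8, 4, 0)], (0, 9, 0)),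
  ([(1, 0, 0, 0), (0, 1, 21, 0), (0, 2, 4, 0), (0, 2, 30, 0), (3, 0, 3, 4), (0, 5, 9, 0)], (0, 6, 0)),
  ([(1, 0, 0, 0), (0, 1, 21, 0), (0, 0, 26, 0), (0, 2, 26, 0), (3, 0, 3, 4), (0, 2, 10, 0), (0, 5, 16, 0), (3, 0, 6, 7), (0, 8, 12, 0)], (0, 9, 0)),
  ([(1, 0, 0, 0), (0, 1, 21, 0), (0, 0, 26, 0), (0, 2, 26, 0), (3, 0, 3, 4), (0, 5, 27, 0), (3, 0, 2, 6), (0, 7, 27, 0)], (0, 8, 0)),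
  ([(1, 0, 0, 0), (0, 1, 21, 0), (0, 2, 2, 0), (0, 2, 24, 0), (3, 0, 3, 4), (0, 5, 8, 0)], (0, 6, 0)),
  ([(1, 0, 0, 0), (0, 1, 21, 0), (0, 0, 26, 0), (0, 2, 26, 0), (3, 0, 3, 4), (0, 2, 22, 0), (0, 5, 12, 0), (3, 0, 6, 7), (0, 8, 3, 0)], (0, 9, 0)),
  ([(1, 0, 0, 0), (0, 1, 21, 0), (0, 0, 26, 0), (0, 2, 26, 0), (3, 0, 3, 4), (0, 2, 15, 0), (0, 5, 21, 0), (3, 0, 6, 7), (0, 8, 17, 0)], (0, 9, 0)),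
  ([(1, 0, 0, 0), (0, 1, 21, 0), (0, 0, 26, 0), (0, 2, 26, 0), (3, 0, 3, 4), (0, 2, 2, 0), (0, 5, 24, 0), (3, 0, 6, 7), (0, 8, 8, 0)], (0, 9, 0)),
  ([(1, 0, 0, 0), (0, 1, 21, 0), (0, 0, 26, 0), (0, 2, 26, 0), (3, 0, 3, 4), (0, 2, 5, 0), (0, 5, 31, 0), (3, 0, 6, 7), (0, 8, 19, 0)], (0, 9, 0)),
  ([(1, 0, 0, 0), (0, 1, 21, 0), (0, 0, 26, 0), (0, 2, 26, 0), (3, 0, 3, 4), (0, 2, 11, 0), (0, 5, 17, 0), (3, 0, 6, 7), (0, 8, 6, 0)], (0, 9, 0)),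
  ([(1, 0, 0, 0), (0, 1, 21, 0), (0, 2, 8, 0), (0, 2, 18, 0), (3, 0, 3, 4), (0, 5, 26, 0)], (0, 6, 0)),
  ([(1, 0, 0, 0), (0, 1, 21, 0), (0, 2, 13, 0), (0, 2, 23, 0), (3, 0, 3, 4), (0, 5, 14, 0)], (0, 6, 0)),
  ([(1, 0, 0, 0), (0, 1, 21, 0), (0, 2, 11, 0), (0, 2, 17, 0), (3, 0, 3, 4), (0, 5, 6, 0)], (0, 6, 0)),
  ([(1, 0, 0, 0), (0, 1, 21, 0), (0, 2, 22, 0), (0, 2, 12, 0), (3, 0, 3, 4), (0, 5, 3, 0)], (0, 6, 0)),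
  ([(1, 0, 0, 0), (0, 1, 21, 0), (0, 0, 26, 0), (0, 2, 26, 0), (3, 0, 3, 4), (0, 2, 8, 0), (0, 5, 18, 0), (3, 0, 6, 7), (0, 8, 26, 0)], (0, 9, 0)),
  ([(1, 0, 0, 0), (0, 1, 21, 0), (0, 0, 26, 0), (0, 2, 26, 0), (3, 0, 3, 4), (0, 2, 7, 0), (0, 5, 29, 0), (3, 0, 6, 7), (0, 8, 23, 0)], (0, 9, 0)),
  ([(1, 0, 0, 0), (0, 1, 21, 0), (0, 2, 7, 0), (0, 2, 29, 0), (3, 0, 3, 4), (0, 5, 23, 0)], (0, 6, 0)),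
  ([(1, 0, 0, 0), (0, 1, 21, 0), (0, 2, 15, 0), (0, 2, 21, 0), (3, 0, 3, 4), (0, 5, 17, 0)], (0, 6, 0)),
  ([(1, 0, 0, 0), (0, 1, 21, 0), (0, 2, 10, 0), (0, 2, 16, 0), (3, 0, 3, 4), (0, 5, 12, 0)], (0, 6, 0)),
  ([(1, 0, 0, 0), (0, 1, 21, 0), (0, 0, 26, 0), (0, 2, 26, 0), (3, 0, 3, 4), (0, 2, 13, 0), (0, 5, 23, 0), (3, 0, 6, 7), (0, 8, 14, 0)], (0, 9, 0)),
  ([(1, 0, 0, 0), (0, 1, 21, 0), (0, 2, 6, 0), (0, 2, 28, 0), (3, 0, 3, 4), (0, 5, 29, 0)], (0, 6, 0)),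
  ([(1, 0, 0, 0), (0, 1, 21, 0), (0, 2, 16, 0), (0, 2, 10, 0), (3, 0, 3, 4), (0, 5, 4, 0)], (0, 6, 0))]

/-- Refutations, first coordinate 27. -/
def case5_3_27 : List (List (ℕ × ℕ × ℕ × ℕ) × (ℕ × ℕ × ℕ)) := [
  ([(1, 0, 0, 0), (0, 1, 31, 0), (0, 0, 27, 0), (0, 2, 27, 0), (3, 0, 3, 4), (0, 5, 2, 0)], (2, 2, 6)),
  ([(1, 0, 0, 0), (0, 1, 31, 0), (0, 2, 12, 0), (0, 2, 23, 0), (3, 0, 3, 4), (0, 5, 24, 0)], (0, 6, 0)),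
  ([(1, 0, 0, 0), (0, 1, 31, 0), (0, 0, 27, 0), (0, 2, 27, 0), (3, 0, 3, 4), (0, 2, 12, 0), (0, 5, 23, 0), (3, 0, 6, 7), (0, 8, 24, 0)], (0, 9, 0)),
  ([(1, 0, 0, 0), (0, 1, 31, 0), (0, 0, 27, 0), (0, 2, 27, 0), (3, 0, 3, 4), (0, 2, 8, 0), (0, 5, 19, 0), (3, 0, 6, 7), (0, 8, 6, 0)], (0, 9, 0)),
  ([(1, 0, 0, 0), (0, 1, 31, 0), (0, 0, 27, 0), (0, 2, 27, 0), (3, 0, 3, 4), (0, 5, 26, 0), (3, 0, 2, 6), (0, 7, 10, 0)], (0, 8, 0)),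
  ([(1, 0, 0, 0), (0, 1, 31, 0), (0, 2, 4, 0), (0, 2, 31, 0), (3, 0, 3, 4), (0, 5, 11, 0)], (0, 6, 0)),
  ([(1, 0, 0, 0), (0, 1, 31, 0), (0, 2, 20, 0), (0, 2, 15, 0), (3, 0, 3, 4), (0, 5, 27, 0)], (0, 6, 0)),
  ([(1, 0, 0, 0), (0, 1, 31, 0), (0, 0, 27, 0), (0, 2, 27, 0), (3, 0, 3, 4), (0, 2, 13, 0), (0, 5, 22, 0), (3, 0, 6, 7), (0, 8, 8, 0)], (0, 9, 0)),
  ([(1, 0, 0, 0), (0, 1, 31, 0), (0, 2, 15, 0), (0, 2, 20, 0), (3, 0, 3, 4), (0, 5, 5, 0)], (0, 6, 0)),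
  ([(1, 0, 0, 0), (0, 1, 31, 0), (0, 2, 8, 0), (0, 2, 19, 0), (3, 0, 3, 4), (0, 5, 6, 0)], (0, 6, 0)),
  ([(1, 0, 0, 0), (0, 1, 31, 0), (0, 2, 26, 0), (3, 0, 2, 3), (0, 4, 10, 0)], (0, 5, 0)),
  ([(1, 0, 0, 0), (0, 1, 31, 0), (0, 2, 16, 0), (0, 2, 11, 0), (3, 0, 3, 4), (0, 5, 3, 0)], (0, 6, 0)),
  ([(1, 0, 0, 0), (0, 1, 31, 0), (0, 0, 27, 0), (0, 2, 27, 0), (3, 0, 3, 4), (0, 0, 2, 0), (0, 5, 2, 0), (3, 2, 6, 7), (0, 8, 20, 0), (0, 0, 7, 0), (0, 9, 2, 0), (3, 2, 10, 11), (0, 12, 9, 0), (0, 2, 2, 0), (0, 0, 2, 0), (3, 2, 14, 15), (0, 16, 3, 0), (3, 2, 5, 17), (0, 18, 21, 0)], (0, 19, 13)),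
  ([(1, 0, 0, 0), (0, 1, 31, 0), (0, 2, 17, 0), (0, 2, 10, 0), (3, 0, 3, 4), (0, 5, 26, 0)], (0, 6, 0)),
  ([(1, 0, 0, 0), (0, 1, 31, 0), (0, 2, 10, 0), (0, 2, 17, 0), (3, 0, 3, 4), (0, 5, 16, 0)], (0, 6, 0)),
  ([(1, 0, 0, 0), (0, 1, 31, 0), (0, 0, 27, 0), (0, 2, 27, 0), (3, 0, 3, 4), (0, 2, 19, 0), (0, 5, 8, 0), (3, 0, 6, 7), (0, 8, 28, 0)], (0, 9, 0)),
  ([(1, 0, 0, 0), (0, 1, 31, 0), (0, 0, 27, 0), (0, 2, 27, 0), (3, 0, 3, 4), (0, 2, 5, 0), (0, 5, 30, 0), (3, 0, 6, 7), (0, 8, 22, 0)], (0, 9, 0)),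
  ([(1, 0, 0, 0), (0, 1, 31, 0), (0, 2, 3, 0), (0, 2, 24, 0), (3, 0, 3, 4), (0, 5, 23, 0)], (0, 6, 0)),
  ([(1, 0, 0, 0), (0, 1, 31, 0), (0, 2, 5, 0), (0, 2, 30, 0), (3, 0, 3, 4), (0, 5, 22, 0)], (0, 6, 0)),
  ([(1, 0, 0, 0), (0, 1, 31, 0), (0, 0, 27, 0), (0, 2, 27, 0), (3, 0, 3, 4), (0, 2, 4, 0), (0, 5, 31, 0), (3, 0, 6, 7), (0, 8, 11, 0)], (0, 9, 0)),
  ([(1, 0, 0, 0), (0, 1, 31, 0), (0, 0, 27, 0), (0, 2, 27, 0), (3, 0, 3, 4), (0, 2, 7, 0), (0, 5, 28, 0), (3, 0, 6, 7), (0, 8, 4, 0)], (0, 9, 0)),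
  ([(1, 0, 0, 0), (0, 1, 31, 0), (0, 0, 27, 0), (0, 2, 27, 0), (3, 0, 3, 4), (0, 2, 17, 0), (0, 5, 10, 0), (3, 0, 6, 7), (0, 8, 26, 0)], (0, 9, 0)),
  ([(1, 0, 0, 0), (0, 1, 31, 0), (0, 0, 27, 0), (0, 2, 27, 0), (3, 0, 3, 4), (0, 2, 15, 0), (0, 5, 20, 0), (3, 0, 6, 7), (0, 8, 5, 0)], (0, 9, 0)),
  ([(1, 0, 0, 0), (0, 1, 31, 0), (0, 0, 27, 0), (0, 2, 27, 0), (3, 0, 3, 4), (0, 2, 3, 0), (0, 5, 24, 0), (3, 0, 6, 7), (0, 8, 23, 0)], (0, 9, 0)),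
  ([(1, 0, 0, 0), (0, 1, 31, 0), (0, 2, 6, 0), (0, 2, 29, 0), (3, 0, 3, 4), (0, 5, 15, 0)], (0, 6, 0)),
  ([(1, 0, 0, 0), (0, 1, 31, 0), (0, 0, 27, 0), (0, 2, 27, 0), (3, 0, 3, 4), (0, 2, 10, 0), (0, 5, 17, 0), (3, 0, 6, 7), (0, 8, 16, 0)], (0, 9, 0)),
  ([(1, 0, 0, 0), (0, 1, 31, 0), (0, 0, 27, 0), (0, 2, 27, 0), (3, 0, 3, 4), (0, 2, 20, 0), (0, 5, 15, 0), (3, 0, 6, 7), (0, 8, 27, 0)], (0, 9, 0)),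
  ([(1, 0, 0, 0), (0, 1, 31, 0), (0, 2, 7, 0), (0, 2, 28, 0), (3, 0, 3, 4), (0, 5, 4, 0)], (0, 6, 0)),
  ([(1, 0, 0, 0), (0, 1, 31, 0), (0, 2, 13, 0), (0, 2, 22, 0), (3, 0, 3, 4), (0, 5, 8, 0)], (0, 6, 0)),
  ([(1, 0, 0, 0), (0, 1, 31, 0), (0, 0, 27, 0), (0, 2, 27, 0), (3, 0, 3, 4), (0, 2, 6, 0), (0, 5, 29, 0), (3, 0, 6, 7), (0, 8, 15, 0)], (0, 9, 0)),
  ([(1, 0, 0, 0), (0, 1, 31, 0), (0, 0, 27, 0), (0, 2, 27, 0), (3, 0, 3, 4), (0, 2, 16, 0), (0, 5, 11, 0), (3, 0, 6, 7), (0, 8, 3, 0)], (0, 9, 0)),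
  ([(1, 0, 0, 0), (0, 1, 31, 0), (0, 2, 19, 0), (0, 2, 8, 0), (3, 0, 3, 4), (0, 5, 28, 0)], (0, 6, 0))]

/-- Refutations, first coordinate 28. -/
def case5_3_28 : List (List (ℕ × ℕ × ℕ × ℕ) × (ℕ × ℕ × ℕ)) := [
  ([(1, 0, 0, 0), (0, 1, 3, 0), (0, 0, 28, 0), (0, 2, 28, 0), (3, 0, 3, 4), (0, 2, 23, 0), (0, 0, 23, 0), (3, 2, 6, 7), (0, 5, 7, 0), (0, 8, 16, 0), (3, 2, 9, 10), (0, 11, 23, 0)], (0, 12, 5)),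
  ([(1, 0, 0, 0), (0, 1, 3, 0), (0, 2, 2, 0), (0, 2, 30, 0), (3, 0, 3, 4), (0, 5, 3, 0)], (0, 6, 0)),
  ([(1, 0, 0, 0), (0, 1, 3, 0), (0, 2, 10, 0), (0, 2, 22, 0), (3, 0, 3, 4), (0, 5, 9, 0)], (0, 6, 0)),
  ([(1, 0, 0, 0), (0, 1, 3, 0), (0, 2, 17, 0), (0, 2, 13, 0), (3, 0, 3, 4), (0, 5, 12, 0)], (0, 6, 0)),
  ([(1, 0, 0, 0), (0, 1, 3, 0), (0, 2, 29, 0), (3, 0, 2, 3), (0, 4, 6, 0)], (0, 5, 0)),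
  ([(1, 0, 0, 0), (0, 1, 3, 0), (0, 0, 28, 0), (0, 2, 28, 0), (3, 0, 3, 4), (0, 2, 19, 0), (0, 5, 15, 0), (3, 0, 6, 7), (0, 8, 24, 0)], (0, 9, 0)),
  ([(1, 0, 0, 0), (0, 1, 3, 0), (0, 0, 28, 0), (0, 2, 28, 0), (3, 0, 3, 4), (0, 2, 14, 0), (0, 5, 18, 0), (3, 0, 6, 7), (0, 8, 14, 0)], (0, 9, 0)),
  ([(1, 0, 0, 0), (0, 1, 3, 0), (0, 2, 3, 0), (0, 2, 31, 0), (3, 0, 3, 4), (0, 5, 20, 0)], (0, 6, 0)),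
  ([(1, 0, 0, 0), (0, 1, 3, 0), (0, 2, 4, 0), (0, 2, 24, 0), (3, 0, 3, 4), (0, 5, 22, 0)], (0, 6, 0)),
  ([(1, 0, 0, 0), (0, 1, 3, 0), (0, 0, 28, 0), (0, 2, 28, 0), (3, 0, 3, 4), (0, 2, 8, 0), (0, 5, 20, 0), (3, 0, 6, 7), (0, 8, 16, 0)], (0, 9, 0)),
  ([(1, 0, 0, 0), (0, 1, 3, 0), (0, 2, 9, 0), (0, 2, 21, 0), (3, 0, 3, 4), (0, 5, 21, 0)], (0, 6, 0)),
  ([(1, 0, 0, 0), (0, 1, 3, 0), (0, 2, 14, 0), (0, 2, 18, 0), (3, 0, 3, 4), (0, 5, 14, 0)], (0, 6, 0)),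
  ([(1, 0, 0, 0), (0, 1, 3, 0), (0, 0, 28, 0), (0, 2, 28, 0), (3, 0, 3, 4), (0, 2, 3, 0), (0, 5, 31, 0), (3, 0, 6, 7), (0, 8, 20, 0)], (0, 9, 0)),
  ([(1, 0, 0, 0), (0, 1, 3, 0), (0, 0, 28, 0), (0, 2, 28, 0), (3, 0, 3, 4), (0, 2, 4, 0), (0, 5, 24, 0), (3, 0, 6, 7), (0, 8, 22, 0)], (0, 9, 0)),
  ([(1, 0, 0, 0), (0, 1, 3, 0), (0, 0, 28, 0), (0, 2, 28, 0), (3, 0, 3, 4), (0, 2, 6, 0), (0, 5, 26, 0), (3, 0, 6, 7), (0, 8, 31, 0)], (0, 9, 0)),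
  ([(1, 0, 0, 0), (0, 1, 3, 0), (0, 2, 16, 0), (0, 2, 12, 0), (3, 0, 3, 4), (0, 5, 27, 0)], (0, 6, 0)),
  ([(1, 0, 0, 0), (0, 1, 3, 0), (0, 2, 19, 0), (0, 2, 15, 0), (3, 0, 3, 4), (0, 5, 24, 0)], (0, 6, 0)),
  ([(1, 0, 0, 0), (0, 1, 3, 0), (0, 0, 28, 0), (0, 2, 28, 0), (3, 0, 3, 4), (0, 2, 9, 0), (0, 5, 21, 0), (3, 0, 6, 7), (0, 8, 21, 0)], (0, 9, 0)),
  ([(1, 0, 0, 0), (0, 1, 3, 0), (0, 2, 7, 0), (0, 2, 27, 0), (3, 0, 3, 4), (0, 5, 30, 0)], (0, 6, 0)),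
  ([(1, 0, 0, 0), (0, 1, 3, 0), (0, 2, 5, 0), (0, 2, 25, 0), (3, 0, 3, 4), (0, 5, 8, 0)], (0, 6, 0)),
  ([(1, 0, 0, 0), (0, 1, 3, 0), (0, 0, 28, 0), (0, 2, 28, 0), (3, 0, 3, 4), (0, 2, 10, 0), (0, 5, 22, 0), (3, 0, 6, 7), (0, 8, 9, 0)], (0, 9, 0)),
  ([(1, 0, 0, 0), (0, 1, 3, 0), (0, 0, 28, 0), (0, 2, 28, 0), (3, 0, 3, 4), (0, 5, 29, 0), (3, 0, 2, 6), (0, 7, 6, 0)], (0, 8, 0)),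
  ([(1, 0, 0, 0), (0, 1, 3, 0), (0, 0, 28, 0), (0, 2, 28, 0), (3, 0, 3, 4), (0, 2, 2, 0), (0, 5, 30, 0), (3, 0, 6, 7), (0, 8, 3, 0)], (0, 9, 0)),
  ([(1, 0, 0, 0), (0, 1, 3, 0), (0, 2, 6, 0), (0, 2, 26, 0), (3, 0, 3, 4), (0, 5, 31, 0)], (0, 6, 0)),
  ([(1, 0, 0, 0), (0, 1, 3, 0), (0, 2, 11, 0), (0, 2, 23, 0), (3, 0, 3, 4), (0, 5, 17, 0)], (0, 6, 0)),
  ([(1, 0, 0, 0), (0, 1, 3, 0), (0, 0, 28, 0), (0, 2, 28, 0), (3, 0, 3, 4), (0, 2, 17, 0), (0, 5, 13, 0), (3, 0, 6, 7), (0, 8, 12, 0)], (0, 9, 0)),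
  ([(1, 0, 0, 0), (0, 1, 3, 0), (0, 0, 28, 0), (0, 2, 28, 0), (3, 0, 3, 4), (0, 2, 11, 0), (0, 5, 23, 0), (3, 0, 6, 7), (0, 8, 17, 0)], (0, 9, 0)),
  ([(1, 0, 0, 0), (0, 1, 3, 0), (0, 2, 8, 0), (0, 2, 20, 0), (3, 0, 3, 4), (0, 5, 16, 0)], (0, 6, 0)),
  ([(1, 0, 0, 0), (0, 1, 3, 0), (0, 0, 28, 0), (0, 2, 28, 0), (3, 0, 3, 4), (0, 2, 16, 0), (0, 5, 12, 0), (3, 0, 6, 7), (0, 8, 27, 0)], (0, 9, 0)),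
  ([(1, 0, 0, 0), (0, 1, 3, 0), (0, 0, 28, 0), (0, 2, 28, 0), (3, 0, 3, 4), (0, 2, 7, 0), (0, 5, 27, 0), (3, 0, 6, 7), (0, 8, 30, 0)], (0, 9, 0)),
  ([(1, 0, 0, 0), (0, 1, 3, 0), (0, 0, 28, 0), (0, 2, 28, 0), (3, 0, 3, 4), (0, 0, 23, 0), (0, 5, 23, 0), (3, 2, 6, 7), (0, 8, 18, 0), (0, 2, 9, 0), (0, 9, 30, 0), (3, 2, 10, 11)], (0, 12, 9)),
  ([(1, 0, 0, 0), (0, 1, 3, 0), (0, 0, 28, 0), (0, 2, 28, 0), (3, 0, 3, 4), (0, 2, 5, 0), (0, 5, 25, 0), (3, 0, 6, 7), (0, 8, 8, 0)], (0, 9, 0))]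

/-- Refutations, first coordinate 29. -/
def case5_3_29 : List (List (ℕ × ℕ × ℕ × ℕ) × (ℕ × ℕ × ℕ)) := [
  ([(1, 0, 0, 0), (0, 1, 19, 0), (0, 0, 29, 0), (0, 2, 29, 0), (3, 0, 3, 4), (0, 0, 22, 0), (0, 5, 22, 0), (3, 2, 6, 7), (0, 8, 2, 0), (0, 0, 30, 0), (0, 9, 22, 0), (3, 2, 10, 11), (0, 12, 10, 0), (0, 2, 27, 0), (0, 13, 13, 0), (3, 2, 14, 15)], (0, 16, 13)),
  ([(1, 0, 0, 0), (0, 1, 19, 0), (0, 0, 29, 0), (0, 2, 29, 0), (3, 0, 3, 4), (0, 2, 2, 0), (0, 5, 31, 0), (3, 0, 6, 7), (0, 8, 6, 0)], (0, 9, 0)),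
  ([(1, 0, 0, 0), (0, 1, 19, 0), (0, 2, 5, 0), (0, 2, 24, 0), (3, 0, 3, 4), (0, 5, 27, 0)], (0, 6, 0)),
  ([(1, 0, 0, 0), (0, 1, 19, 0), (0, 2, 28, 0), (3, 0, 2, 3), (0, 4, 11, 0)], (0, 5, 0)),
  ([(1, 0, 0, 0), (0, 1, 19, 0), (0, 0, 29, 0), (0, 2, 29, 0), (3, 0, 3, 4), (0, 0, 22, 0), (0, 5, 22, 0), (3, 2, 6, 7), (0, 8, 2, 0), (0, 5, 14, 0), (0, 9, 24, 0), (3, 2, 10, 11), (0, 12, 23, 0)], (0, 13, 2)),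
  ([(1, 0, 0, 0), (0, 1, 19, 0), (0, 2, 28, 0), (3, 0, 3, 2), (0, 4, 14, 0)], (0, 5, 0)),
  ([(1, 0, 0, 0), (0, 1, 19, 0), (0, 2, 9, 0), (0, 2, 20, 0), (3, 0, 3, 4), (0, 5, 10, 0)], (0, 6, 0)),
  ([(1, 0, 0, 0), (0, 1, 19, 0), (0, 2, 2, 0), (0, 2, 31, 0), (3, 0, 3, 4), (0, 5, 6, 0)], (0, 6, 0)),
  ([(1, 0, 0, 0), (0, 1, 19, 0), (0, 0, 29, 0), (0, 2, 29, 0), (3, 0, 3, 4), (0, 2, 7, 0), (0, 5, 26, 0), (3, 0, 6, 7), (0, 8, 12, 0)], (0, 9, 0)),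
  ([(1, 0, 0, 0), (0, 1, 19, 0), (0, 0, 29, 0), (0, 2, 29, 0), (3, 0, 3, 4), (0, 2, 6, 0), (0, 5, 27, 0), (3, 0, 6, 7), (0, 8, 20, 0)], (0, 9, 0)),
  ([(1, 0, 0, 0), (0, 1, 19, 0), (0, 0, 29, 0), (0, 2, 29, 0), (3, 0, 3, 4), (0, 2, 4, 0), (0, 5, 25, 0), (3, 0, 6, 7), (0, 8, 3, 0)], (0, 9, 0)),
  ([(1, 0, 0, 0), (0, 1, 19, 0), (0, 2, 7, 0), (0, 2, 26, 0), (3, 0, 3, 4), (0, 5, 12, 0)], (0, 6, 0)),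
  ([(1, 0, 0, 0), (0, 1, 19, 0), (0, 2, 6, 0), (0, 2, 27, 0), (3, 0, 3, 4), (0, 5, 20, 0)], (0, 6, 0)),
  ([(1, 0, 0, 0), (0, 1, 19, 0), (0, 2, 14, 0), (0, 2, 19, 0), (3, 0, 3, 4), (0, 5, 30, 0)], (0, 6, 0)),
  ([(1, 0, 0, 0), (0, 1, 19, 0), (0, 2, 8, 0), (0, 2, 21, 0), (3, 0, 3, 4), (0, 5, 22, 0)], (0, 6, 0)),
  ([(1, 0, 0, 0), (0, 1, 19, 0), (0, 0, 29, 0), (0, 2, 29, 0), (3, 0, 3, 4), (0, 2, 14, 0), (0, 5, 19, 0), (3, 0, 6, 7), (0, 8, 30, 0)], (0, 9, 0)),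
  ([(1, 0, 0, 0), (0, 1, 19, 0), (0, 2, 12, 0), (0, 2, 17, 0), (3, 0, 3, 4), (0, 5, 31, 0)], (0, 6, 0)),
  ([(1, 0, 0, 0), (0, 1, 19, 0), (0, 2, 20, 0), (0, 2, 9, 0), (3, 0, 3, 4), (0, 5, 9, 0)], (0, 6, 0)),
  ([(1, 0, 0, 0), (0, 1, 19, 0), (0, 0, 29, 0), (0, 2, 29, 0), (3, 0, 3, 4), (0, 5, 28, 0), (3, 0, 2, 6), (0, 7, 11, 0)], (0, 8, 0)),
  ([(1, 0, 0, 0), (0, 1, 19, 0), (0, 0, 29, 0), (0, 2, 29, 0), (3, 0, 3, 4), (0, 2, 8, 0), (0, 5, 21, 0), (3, 0, 6, 7), (0, 8, 22, 0)], (0, 9, 0)),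
  ([(1, 0, 0, 0), (0, 1, 19, 0), (0, 0, 29, 0), (0, 2, 29, 0), (3, 0, 3, 4), (0, 2, 16, 0), (0, 5, 13, 0), (3, 0, 6, 7), (0, 8, 16, 0)], (0, 9, 0)),
  ([(1, 0, 0, 0), (0, 1, 19, 0), (0, 0, 29, 0), (0, 2, 29, 0), (3, 0, 3, 4), (0, 2, 5, 0), (0, 5, 24, 0), (3, 0, 6, 7), (0, 8, 27, 0)], (0, 9, 0)),
  ([(1, 0, 0, 0), (0, 1, 19, 0), (0, 0, 29, 0), (0, 2, 29, 0), (3, 0, 3, 4), (0, 2, 28, 0), (3, 0, 6, 5), (0, 7, 14, 0)], (0, 8, 0)),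
  ([(1, 0, 0, 0), (0, 1, 19, 0), (0, 2, 10, 0), (0, 2, 23, 0), (3, 0, 3, 4), (0, 5, 8, 0)], (0, 6, 0)),
  ([(1, 0, 0, 0), (0, 1, 19, 0), (0, 0, 29, 0), (0, 2, 29, 0), (3, 0, 3, 4), (0, 2, 12, 0), (0, 5, 17, 0), (3, 0, 6, 7), (0, 8, 31, 0)], (0, 9, 0)),
  ([(1, 0, 0, 0), (0, 1, 19, 0), (0, 2, 16, 0), (0, 2, 13, 0), (3, 0, 3, 4), (0, 5, 16, 0)], (0, 6, 0)),
  ([(1, 0, 0, 0), (0, 1, 19, 0), (0, 2, 4, 0), (0, 2, 25, 0), (3, 0, 3, 4), (0, 5, 3, 0)], (0, 6, 0)),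
  ([(1, 0, 0, 0), (0, 1, 19, 0), (0, 0, 29, 0), (0, 2, 29, 0), (3, 0, 3, 4), (0, 2, 20, 0), (0, 5, 9, 0), (3, 0, 6, 7), (0, 8, 9, 0)], (0, 9, 0)),
  ([(1, 0, 0, 0), (0, 1, 19, 0), (0, 2, 3, 0), (0, 2, 30, 0), (3, 0, 3, 4), (0, 5, 24, 0)], (0, 6, 0)),
  ([(1, 0, 0, 0), (0, 1, 19, 0), (0, 0, 29, 0), (0, 2, 29, 0), (3, 0, 3, 4), (0, 2, 3, 0), (0, 5, 30, 0), (3, 0, 6, 7), (0, 8, 24, 0)], (0, 9, 0)),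
  ([(1, 0, 0, 0), (0, 1, 19, 0), (0, 0, 29, 0), (0, 2, 29, 0), (3, 0, 3, 4), (0, 2, 10, 0), (0, 5, 23, 0), (3, 0, 6, 7), (0, 8, 8, 0)], (0, 9, 0)),
  ([(1, 0, 0, 0), (0, 1, 19, 0), (0, 0, 29, 0), (0, 2, 29, 0), (3, 0, 3, 4), (0, 2, 9, 0), (0, 5, 20, 0), (3, 0, 6, 7), (0, 8, 10, 0)], (0, 9, 0))]

/-- Refutations, first coordinate 30. -/
def case5_3_30 : List (List (ℕ × ℕ × ℕ × ℕ) × (ℕ × ℕ × ℕ)) := [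
  ([(1, 0, 0, 0), (0, 1, 20, 0), (0, 0, 30, 0), (0, 2, 30, 0), (3, 0, 3, 4), (0, 0, 19, 0), (0, 5, 19, 0), (3, 2, 6, 7), (0, 8, 26, 0), (0, 0, 28, 0), (0, 9, 19, 0), (3, 2, 10, 11), (0, 12, 14, 0)], (0, 13, 9)),
  ([(1, 0, 0, 0), (0, 1, 20, 0), (0, 2, 11, 0), (0, 2, 21, 0), (3, 0, 3, 4), (0, 5, 15, 0)], (0, 6, 0)),
  ([(1, 0, 0, 0), (0, 1, 20, 0), (0, 0, 30, 0), (0, 2, 30, 0), (3, 0, 3, 4), (0, 2, 3, 0), (0, 5, 29, 0), (3, 0, 6, 7), (0, 8, 26, 0)], (0, 9, 0)),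
  ([(1, 0, 0, 0), (0, 1, 20, 0), (0, 2, 3, 0), (0, 2, 29, 0), (3, 0, 3, 4), (0, 5, 26, 0)], (0, 6, 0)),
  ([(1, 0, 0, 0), (0, 1, 20, 0), (0, 2, 15, 0), (0, 2, 17, 0), (3, 0, 3, 4), (0, 5, 14, 0)], (0, 6, 0)),
  ([(1, 0, 0, 0), (0, 1, 20, 0), (0, 2, 21, 0), (0, 2, 11, 0), (3, 0, 3, 4), (0, 5, 30, 0)], (0, 6, 0)),
  ([(1, 0, 0, 0), (0, 1, 20, 0), (0, 2, 4, 0), (0, 2, 26, 0), (3, 0, 3, 4), (0, 5, 25, 0)], (0, 6, 0)),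
  ([(1, 0, 0, 0), (0, 1, 20, 0), (0, 2, 12, 0), (0, 2, 18, 0), (3, 0, 3, 4), (0, 5, 19, 0)], (0, 6, 0)),
  ([(1, 0, 0, 0), (0, 1, 20, 0), (0, 2, 5, 0), (0, 2, 27, 0), (3, 0, 3, 4), (0, 5, 18, 0)], (0, 6, 0)),
  ([(1, 0, 0, 0), (0, 1, 20, 0), (0, 0, 30, 0), (0, 2, 30, 0), (3, 0, 3, 4), (0, 2, 4, 0), (0, 5, 26, 0), (3, 0, 6, 7), (0, 8, 25, 0)], (0, 9, 0)),
  ([(1, 0, 0, 0), (0, 1, 20, 0), (0, 0, 30, 0), (0, 2, 30, 0), (3, 0, 3, 4), (0, 2, 5, 0), (0, 5, 27, 0), (3, 0, 6, 7), (0, 8, 18, 0)], (0, 9, 0)),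
  ([(1, 0, 0, 0), (0, 1, 20, 0), (0, 0, 30, 0), (0, 2, 30, 0), (3, 0, 3, 4), (0, 2, 17, 0), (0, 5, 15, 0), (3, 0, 6, 7), (0, 8, 11, 0)], (0, 9, 0)),
  ([(1, 0, 0, 0), (0, 1, 20, 0), (0, 0, 30, 0), (0, 2, 30, 0), (3, 0, 3, 4), (0, 2, 21, 0), (0, 5, 11, 0), (3, 0, 6, 7), (0, 8, 30, 0)], (0, 9, 0)),
  ([(1, 0, 0, 0), (0, 1, 20, 0), (0, 2, 7, 0), (0, 2, 25, 0), (3, 0, 3, 4), (0, 5, 6, 0)], (0, 6, 0)),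
  ([(1, 0, 0, 0), (0, 1, 20, 0), (0, 0, 30, 0), (0, 2, 30, 0), (3, 0, 3, 4), (0, 2, 13, 0), (0, 5, 19, 0), (3, 0, 6, 7), (0, 8, 10, 0)], (0, 9, 0)),
  ([(1, 0, 0, 0), (0, 1, 20, 0), (0, 0, 30, 0), (0, 2, 30, 0), (3, 0, 3, 4), (0, 2, 2, 0), (0, 5, 28, 0), (3, 0, 6, 7), (0, 8, 7, 0)], (0, 9, 0)),
  ([(1, 0, 0, 0), (0, 1, 20, 0), (0, 2, 8, 0), (0, 2, 22, 0), (3, 0, 3, 4), (0, 5, 29, 0)], (0, 6, 0)),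
  ([(1, 0, 0, 0), (0, 1, 20, 0), (0, 0, 30, 0), (0, 2, 30, 0), (3, 0, 3, 4), (0, 2, 12, 0), (0, 5, 18, 0), (3, 0, 6, 7), (0, 8, 19, 0)], (0, 9, 0)),
  ([(1, 0, 0, 0), (0, 1, 20, 0), (0, 0, 30, 0), (0, 2, 30, 0), (3, 0, 3, 4), (0, 0, 19, 0), (0, 5, 19, 0), (3, 2, 6, 7), (0, 8, 26, 0), (0, 0, 31, 0), (0, 9, 19, 0), (3, 2, 10, 11), (0, 12, 31, 0), (0, 2, 8, 0), (0, 13, 27, 0), (3, 2, 14, 15), (0, 2, 19, 0), (0, 0, 19, 0), (3, 2, 17, 18), (0, 5, 7, 0), (0, 19, 20, 0), (3, 2, 20, 21), (0, 22, 19, 0), (0, 5, 10, 0), (0, 16, 25, 0), (3, 2, 24, 25), (0, 26, 18, 0)], (0, 27, 23)),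
  ([(1, 0, 0, 0), (0, 1, 20, 0), (0, 0, 30, 0), (0, 2, 30, 0), (3, 0, 3, 4), (0, 2, 6, 0), (0, 5, 24, 0), (3, 0, 6, 7), (0, 8, 4, 0)], (0, 9, 0)),
  ([(1, 0, 0, 0), (0, 1, 20, 0), (0, 0, 30, 0), (0, 2, 30, 0), (3, 0, 3, 4), (0, 5, 31, 0), (3, 0, 2, 6), (0, 7, 5, 0)], (0, 8, 0)),
  ([(1, 0, 0, 0), (0, 1, 20, 0), (0, 0, 30, 0), (0, 2, 30, 0), (3, 0, 3, 4), (0, 2, 8, 0), (0, 5, 22, 0), (3, 0, 6, 7), (0, 8, 29, 0)], (0, 9, 0)),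
  ([(1, 0, 0, 0), (0, 1, 20, 0), (0, 0, 30, 0), (0, 2, 30, 0), (3, 0, 3, 4), (0, 2, 7, 0), (0, 5, 25, 0), (3, 0, 6, 7), (0, 8, 6, 0)], (0, 9, 0)),
  ([(1, 0, 0, 0), (0, 1, 20, 0), (0, 2, 6, 0), (0, 2, 24, 0), (3, 0, 3, 4), (0, 5, 4, 0)], (0, 6, 0)),
  ([(1, 0, 0, 0), (0, 1, 20, 0), (0, 2, 2, 0), (0, 2, 28, 0), (3, 0, 3, 4), (0, 5, 7, 0)], (0, 6, 0)),
  ([(1, 0, 0, 0), (0, 1, 20, 0), (0, 0, 30, 0), (0, 2, 30, 0), (3, 0, 3, 4), (0, 2, 15, 0), (0, 5, 17, 0), (3, 0, 6, 7), (0, 8, 14, 0)], (0, 9, 0)),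
  ([(1, 0, 0, 0), (0, 1, 20, 0), (0, 0, 30, 0), (0, 2, 30, 0), (3, 0, 3, 4), (0, 2, 16, 0), (0, 5, 14, 0), (3, 0, 6, 7), (0, 8, 13, 0)], (0, 9, 0)),
  ([(1, 0, 0, 0), (0, 1, 20, 0), (0, 2, 13, 0), (0, 2, 19, 0), (3, 0, 3, 4), (0, 5, 10, 0)], (0, 6, 0)),
  ([(1, 0, 0, 0), (0, 1, 20, 0), (0, 2, 31, 0), (3, 0, 2, 3), (0, 4, 5, 0)], (0, 5, 0)),
  ([(1, 0, 0, 0), (0, 1, 20, 0), (0, 2, 16, 0), (0, 2, 14, 0), (3, 0, 3, 4), (0, 5, 13, 0)], (0, 6, 0)),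
  ([(1, 0, 0, 0), (0, 1, 20, 0), (0, 0, 30, 0), (0, 2, 30, 0), (3, 0, 3, 4), (0, 2, 11, 0), (0, 5, 21, 0), (3, 0, 6, 7), (0, 8, 15, 0)], (0, 9, 0)),
  ([(1, 0, 0, 0), (0, 1, 20, 0), (0, 2, 17, 0), (0, 2, 15, 0), (3, 0, 3, 4), (0, 5, 11, 0)], (0, 6, 0))]

/-- Refutations, first coordinate 31. -/
def case5_3_31 : List (List (ℕ × ℕ × ℕ × ℕ) × (ℕ × ℕ × ℕ)) := [
  ([(1, 0, 0, 0), (0, 1, 27, 0), (0, 0, 31, 0), (0, 2, 31, 0), (3, 0, 3, 4), (0, 0, 18, 0), (0, 5, 18, 0), (3, 2, 6, 7), (0, 8, 21, 0), (0, 0, 26, 0), (0, 9, 18, 0), (3, 2, 10, 11), (0, 12, 16, 0), (0, 2, 14, 0), (0, 13, 28, 0), (3, 2, 14, 15), (0, 5, 2, 0), (0, 9, 16, 0), (3, 2, 17, 18), (0, 19, 3, 0), (0, 5, 5, 0), (0, 20, 23, 0), (3, 2, 21, 22), (0, 23, 11, 0)], (0,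 24, 16)),
  ([(1, 0, 0, 0), (0, 1, 27, 0), (0, 0, 31, 0), (0, 2, 31, 0), (3, 0, 3, 4), (0, 2, 10, 0), (0, 5, 21, 0), (3, 0, 6, 7), (0, 8, 27, 0)], (0, 9, 0)),
  ([(1, 0, 0, 0), (0, 1, 27, 0), (0, 2, 19, 0), (0, 2, 12, 0), (3, 0, 3, 4), (0, 5, 23, 0)], (0, 6, 0)),
  ([(1, 0, 0, 0), (0, 1, 27, 0), (0, 2, 8, 0), (0, 2, 23, 0), (3, 0, 3, 4), (0, 5, 3, 0)], (0, 6, 0)),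
  ([(1, 0, 0, 0), (0, 1, 27, 0), (0, 2, 15, 0), (0, 2, 16, 0), (3, 0, 3, 4), (0, 5, 7, 0)], (0, 6, 0)),
  ([(1, 0, 0, 0), (0, 1, 27, 0), (0, 0, 31, 0), (0, 2, 31, 0), (3, 0, 3, 4), (0, 2, 3, 0), (0, 5, 28, 0), (3, 0, 6, 7), (0, 8, 15, 0)], (0, 9, 0)),
  ([(1, 0, 0, 0), (0, 1, 27, 0), (0, 2, 13, 0), (0, 2, 18, 0), (3, 0, 3, 4), (0, 5, 9, 0)], (0, 6, 0)),
  ([(1, 0, 0, 0), (0, 1, 27, 0), (0, 0, 31, 0), (0, 2, 31, 0), (3, 0, 3, 4), (0, 5, 18, 0)], (2, 2, 6)),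
  ([(1, 0, 0, 0), (0, 1, 27, 0), (0, 2, 5, 0), (0, 2, 26, 0), (3, 0, 3, 4), (0, 5, 16, 0)], (0, 6, 0)),
  ([(1, 0, 0, 0), (0, 1, 27, 0), (0, 2, 12, 0), (0, 2, 19, 0), (3, 0, 3, 4), (0, 5, 20, 0)], (0, 6, 0)),
  ([(1, 0, 0, 0), (0, 1, 27, 0), (0, 2, 27, 0), (0, 2, 4, 0), (3, 0, 3, 4), (0, 5, 28, 0)], (0, 6, 0)),
  ([(1, 0, 0, 0), (0, 1, 27, 0), (0, 2, 2, 0), (0, 2, 29, 0), (3, 0, 3, 4), (0, 5, 11, 0)], (0, 6, 0)),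
  ([(1, 0, 0, 0), (0, 1, 27, 0), (0, 2, 4, 0), (0, 2, 27, 0), (3, 0, 3, 4), (0, 5, 6, 0)], (0, 6, 0)),
  ([(1, 0, 0, 0), (0, 1, 27, 0), (0, 0, 31, 0), (0, 2, 31, 0), (3, 0, 3, 4), (0, 2, 2, 0), (0, 5, 29, 0), (3, 0, 6, 7), (0, 8, 11, 0)], (0, 9, 0)),
  ([(1, 0, 0, 0), (0, 1, 27, 0), (0, 2, 3, 0), (0, 2, 28, 0), (3, 0, 3, 4), (0, 5, 15, 0)], (0, 6, 0)),
  ([(1, 0, 0, 0), (0, 1, 27, 0), (0, 0, 31, 0), (0, 2, 31, 0), (3, 0, 3, 4), (0, 2, 6, 0), (0, 5, 25, 0), (3, 0, 6, 7), (0, 8, 24, 0)], (0, 9, 0)),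
  ([(1, 0, 0, 0), (0, 1, 27, 0), (0, 0, 31, 0), (0, 2, 31, 0), (3, 0, 3, 4), (0, 2, 15, 0), (0, 5, 16, 0), (3, 0, 6, 7), (0, 8, 7, 0)], (0, 9, 0)),
  ([(1, 0, 0, 0), (0, 1, 27, 0), (0, 2, 10, 0), (0, 2, 21, 0), (3, 0, 3, 4), (0, 5, 27, 0)], (0, 6, 0)),
  ([(1, 0, 0, 0), (0, 1, 27, 0), (0, 0, 31, 0), (0, 2, 31, 0), (3, 0, 3, 4), (0, 2, 24, 0), (0, 5, 7, 0), (3, 0, 6, 7), (0, 8, 31, 0)], (0, 9, 0)),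
  ([(1, 0, 0, 0), (0, 1, 27, 0), (0, 0, 31, 0), (0, 2, 31, 0), (3, 0, 3, 4), (0, 2, 19, 0), (0, 5, 12, 0), (3, 0, 6, 7), (0, 8, 23, 0)], (0, 9, 0)),
  ([(1, 0, 0, 0), (0, 1, 27, 0), (0, 0, 31, 0), (0, 2, 31, 0), (3, 0, 3, 4), (0, 2, 12, 0), (0, 5, 19, 0), (3, 0, 6, 7), (0, 8, 20, 0)], (0, 9, 0)),
  ([(1, 0, 0, 0), (0, 1, 27, 0), (0, 2, 6, 0), (0, 2, 25, 0), (3, 0, 3, 4), (0, 5, 24, 0)], (0, 6, 0)),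
  ([(1, 0, 0, 0), (0, 1, 27, 0), (0, 0, 31, 0), (0, 2, 31, 0), (3, 0, 3, 4), (0, 5, 30, 0), (3, 0, 2, 6), (0, 7, 21, 0)], (0, 8, 0)),
  ([(1, 0, 0, 0), (0, 1, 27, 0), (0, 0, 31, 0), (0, 2, 31, 0), (3, 0, 3, 4), (0, 2, 16, 0), (0, 5, 15, 0), (3, 0, 6, 7), (0, 8, 22, 0)], (0, 9, 0)),
  ([(1, 0, 0, 0), (0, 1, 27, 0), (0, 2, 16, 0), (0, 2, 15, 0), (3, 0, 3, 4), (0, 5, 22, 0)], (0, 6, 0)),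
  ([(1, 0, 0, 0), (0, 1, 27, 0), (0, 0, 31, 0), (0, 2, 31, 0), (3, 0, 3, 4), (0, 2, 13, 0), (0, 5, 18, 0), (3, 0, 6, 7), (0, 8, 9, 0)], (0, 9, 0)),
  ([(1, 0, 0, 0), (0, 1, 27, 0), (0, 0, 31, 0), (0, 2, 31, 0), (3, 0, 3, 4), (0, 2, 4, 0), (0, 5, 27, 0), (3, 0, 6, 7), (0, 8, 6, 0)], (0, 9, 0)),
  ([(1, 0, 0, 0), (0, 1, 27, 0), (0, 0, 31, 0), (0, 2, 31, 0), (3, 0, 3, 4), (0, 2, 5, 0), (0, 5, 26, 0), (3, 0, 6, 7), (0, 8, 16, 0)], (0, 9, 0)),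
  ([(1, 0, 0, 0), (0, 1, 27, 0), (0, 2, 24, 0), (0, 2, 7, 0), (3, 0, 3, 4), (0, 5, 31, 0)], (0, 6, 0)),
  ([(1, 0, 0, 0), (0, 1, 27, 0), (0, 0, 31, 0), (0, 2, 31, 0), (3, 0, 3, 4), (0, 2, 27, 0), (0, 5, 4, 0), (3, 0, 6, 7), (0, 8, 28, 0)], (0, 9, 0)),
  ([(1, 0, 0, 0), (0, 1, 27, 0), (0, 2, 30, 0), (3, 0, 2, 3), (0, 4, 21, 0)], (0, 5, 0)),
  ([(1, 0, 0, 0), (0, 1, 27, 0), (0, 0, 31, 0), (0, 2, 31, 0), (3, 0, 3, 4), (0, 2, 8, 0), (0, 5, 23, 0), (3, 0, 6, 7), (0, 8, 3, 0)], (0, 9, 0))]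

/-- All refutations. -/
def cases5_3 : List (List (ℕ × ℕ × ℕ × ℕ) × (ℕ × ℕ × ℕ)) :=
  case5_3_0 ++
  case5_3_1 ++
  case5_3_2 ++
  case5_3_3 ++
  case5_3_4 ++
  case5_3_5 ++
  case5_3_6 ++
  case5_3_7 ++
  case5_3_8 ++
  case5_3_9 ++
  case5_3_10 ++
  case5_3_11 ++
  case5_3_12 ++
  case5_3_13 ++
  case5_3_14 ++
  case5_3_15 ++
  case5_3_16 ++
  case5_3_17 ++
  case5_3_18 ++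
  case5_3_19 ++
  case5_3_20 ++
  case5_3_21 ++
  case5_3_22 ++
  case5_3_23 ++
  case5_3_24 ++
  case5_3_25 ++
  case5_3_26 ++
  case5_3_27 ++
  case5_3_28 ++
  case5_3_29 ++
  case5_3_30 ++
  case5_3_31

/-- The derivation for the good value. -/
def ops5_3 : List (ℕ × ℕ × ℕ × ℕ) := [
  (1, 0, 0, 0), (3, 0, 0, 1), (0, 0, 2, 0), (0, 0, 6, 0), (3, 2, 3, 4), (0, 5, 29, 0),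
  (0, 0, 3, 0), (0, 0, 18, 0), (3, 2, 7, 8), (0, 9, 19, 0), (0, 0, 4, 0), (0, 0, 20, 0),
  (3, 2, 11, 12), (0, 13, 22, 0), (0, 0, 5, 0), (0, 0, 9, 0), (3, 2, 15, 16), (0, 17, 8, 0),
  (0, 0, 6, 0), (0, 0, 2, 0), (3, 2, 19, 20), (0, 21, 13, 0), (0, 0, 7, 0), (0, 0, 8, 0),
  (3, 2, 23, 24), (0, 25, 15, 0), (0, 0, 8, 0), (0, 0, 7, 0), (3, 2, 27, 28), (0, 29, 5, 0),
  (0, 0, 9, 0), (0, 0, 5, 0), (3, 2, 31, 32), (0, 33, 23, 0), (0, 0, 10, 0), (0, 0, 21, 0),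
  (3, 2, 35, 36), (0, 37, 17, 0), (0, 0, 11, 0), (0, 0, 17, 0), (3, 2, 39, 40), (0, 41, 24, 0),
  (0, 0, 12, 0), (0, 0, 15, 0), (3, 2, 43, 44), (0, 45, 14, 0), (0, 0, 13, 0), (0, 0, 22, 0),
  (3, 2, 47, 48), (0, 49, 6, 0), (0, 0, 14, 0), (0, 0, 28, 0), (3, 2, 51, 52), (0, 53, 12, 0),
  (0, 0, 15, 0), (0, 0, 12, 0), (3, 2, 55, 56), (0, 57, 7, 0), (0, 0, 16, 0), (0, 0, 29, 0),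
  (3, 2, 59, 60), (0, 61, 25, 0), (0, 0, 17, 0), (0, 0, 11, 0), (3, 2, 63, 64), (0, 65, 10, 0),
  (0, 0, 18, 0), (0, 0, 3, 0), (3, 2, 67, 68), (0, 69, 28, 0), (0, 0, 19, 0), (0, 0, 24, 0),
  (3, 2, 71, 72), (0, 73, 3, 0), (0, 0, 20, 0), (0, 0, 4, 0), (3, 2, 75, 76), (0, 77, 27, 0),
  (0, 0, 21, 0), (0, 0, 10, 0), (3, 2, 79, 80), (0, 81, 31, 0), (0, 0, 22, 0), (0, 0, 13, 0),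
  (3, 2, 83, 84), (0, 85, 4, 0), (0, 0, 23, 0), (0, 0, 30, 0), (3, 2, 87, 88), (0, 89, 9, 0),
  (0, 0, 24, 0), (0, 0, 19, 0), (3, 2, 91, 92), (0, 93, 11, 0), (0, 0, 25, 0), (0, 0, 27, 0),
  (3, 2, 95, 96), (0, 97, 16, 0), (0, 0, 26, 0), (0, 0, 31, 0), (3, 2, 99, 100), (0, 101, 30, 0),
  (0, 0, 27, 0), (0, 0, 25, 0), (3, 2, 103, 104), (0, 105, 20, 0), (0, 0, 28, 0), (0, 0, 14, 0),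
  (3, 2, 107, 108), (0, 109, 18, 0), (0, 0, 29, 0), (0, 0, 16, 0), (3, 2, 111, 112), (0, 113, 2, 0),
  (0, 0, 30, 0), (0, 0, 23, 0), (3, 2, 115, 116), (0, 117, 26, 0), (0, 0, 31, 0), (0, 0, 26, 0),
  (3, 2, 119, 120), (0, 121, 21, 0)]

/-- Where every pair is derived. -/
def cov5_3 : List (ℕ × ℕ) := [
  (0, 0), (0, 1), (0, 20), (0, 4), (0, 29), (0, 16), (0, 26), (0, 31), (0, 24), (0, 19),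
  (0, 7), (0, 8), (0, 27), (0, 25), (0, 21), (0, 10), (0, 22), (0, 13), (0, 30), (0, 23),
  (0, 3), (0, 18), (0, 17), (0, 11), (0, 15), (0, 12), (0, 2), (0, 6), (0, 9), (0, 5),
  (0, 28), (0, 14), (1, 1), (2, 1), (98, 1), (38, 1), (22, 1), (54, 1), (6, 1), (70, 1),
  (46, 1), (26, 1), (102, 1), (82, 1), (74, 1), (114, 1), (10, 1), (110, 1), (78, 1), (118, 1),
  (94, 1), (66, 1), (14, 1), (34, 1), (50, 1), (58, 1), (122, 1), (106, 1), (30, 1), (86, 1),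
  (42, 1), (62, 1), (18, 1), (90, 1), (1, 2), (34, 2), (110, 2), (30, 2), (18, 2), (82, 2),
  (118, 2), (22, 2), (106, 2), (74, 2), (50, 2), (38, 2), (70, 2), (94, 2), (46, 2), (62, 2),
  (58, 2), (98, 2), (122, 2), (114, 2), (26, 2), (42, 2), (6, 2), (66, 2), (10, 2), (86, 2),
  (2, 2), (14, 2), (78, 2), (54, 2), (90, 2), (102, 2), (1, 3), (18, 3), (106, 3), (70, 3),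
  (58, 3), (26, 3), (10, 3), (78, 3), (82, 3), (34, 3), (94, 3), (74, 3), (42, 3), (98, 3),
  (54, 3), (86, 3), (50, 3), (46, 3), (110, 3), (118, 3), (2, 3), (90, 3), (122, 3), (6, 3),
  (62, 3), (38, 3), (22, 3), (30, 3), (102, 3), (14, 3), (66, 3), (114, 3), (1, 4), (42, 4),
  (62, 4), (2, 4), (90, 4), (38, 4), (98, 4), (18, 4), (86, 4), (70, 4), (6, 4), (30, 4),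
  (22, 4), (122, 4), (106, 4), (54, 4), (66, 4), (110, 4), (10, 4), (94, 4), (74, 4), (78, 4),
  (118, 4), (114, 4), (46, 4), (14, 4), (34, 4), (26, 4), (58, 4), (82, 4), (102, 4), (50, 4),
  (1, 5), (66, 5), (38, 5), (78, 5), (6, 5), (34, 5), (54, 5), (50, 5), (74, 5), (90, 5),
  (110, 5), (42, 5), (102, 5), (106, 5), (26, 5), (30, 5), (122, 5), (82, 5), (86, 5), (46, 5),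
  (18, 5), (114, 5), (62, 5), (10, 5), (14, 5), (70, 5), (58, 5), (22, 5), (94, 5), (2, 5),
  (118, 5), (98, 5), (1, 6), (90, 6), (86, 6), (22, 6), (66, 6), (74, 6), (46, 6), (58, 6),
  (38, 6), (42, 6), (122, 6), (70, 6), (78, 6), (110, 6), (82, 6), (14, 6), (6, 6), (106, 6),
  (62, 6), (98, 6), (34, 6), (102, 6), (10, 6), (118, 6), (54, 6), (30, 6), (18, 6), (2, 6),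
  (50, 6), (26, 6), (114, 6), (94, 6), (1, 7), (106, 7), (58, 7), (10, 7), (82, 7), (94, 7),
  (42, 7), (54, 7), (50, 7), (110, 7), (2, 7), (122, 7), (62, 7), (22, 7), (102, 7), (66, 7),
  (26, 7), (78, 7), (18, 7), (70, 7), (98, 7), (86, 7), (34, 7), (74, 7), (90, 7), (6, 7),
  (46, 7), (118, 7), (14, 7), (114, 7), (38, 7), (30, 7), (1, 8), (78, 8), (54, 8), (34, 8),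
  (102, 8), (30, 8), (110, 8), (90, 8), (14, 8), (22, 8), (118, 8), (2, 8), (18, 8), (10, 8),
  (86, 8), (82, 8), (114, 8), (62, 8), (46, 8), (122, 8), (70, 8), (58, 8), (98, 8), (94, 8),
  (106, 8), (26, 8), (42, 8), (74, 8), (66, 8), (38, 8), (50, 8), (6, 8), (1, 9), (38, 9),
  (6, 9), (54, 9), (74, 9), (110, 9), (102, 9), (26, 9), (122, 9), (86, 9), (18, 9), (62, 9),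
  (14, 9), (58, 9), (94, 9), (118, 9), (34, 9), (50, 9), (66, 9), (78, 9), (106, 9), (30, 9),
  (90, 9), (42, 9), (114, 9), (10, 9), (82, 9), (46, 9), (2, 9), (98, 9), (70, 9), (22, 9),
  (1, 10), (114, 10), (30, 10), (58, 10), (118, 10), (42, 10), (82, 10), (6, 10), (70, 10), (102, 10),
  (62, 10), (78, 10), (50, 10), (86, 10), (74, 10), (2, 10), (10, 10), (38, 10), (14, 10), (106, 10),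
  (90, 10), (94, 10), (54, 10), (46, 10), (26, 10), (22, 10), (66, 10), (18, 10), (122, 10), (34, 10),
  (98, 10), (110, 10), (1, 11), (54, 11), (102, 11), (110, 11), (14, 11), (118, 11), (18, 11), (86, 11),
  (114, 11), (46, 11), (70, 11), (98, 11), (106, 11), (42, 11), (66, 11), (50, 11), (30, 11), (90, 11),
  (78, 11), (34, 11), (10, 11), (82, 11), (22, 11), (2, 11), (58, 11), (94, 11), (62, 11), (122, 11),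
  (38, 11), (6, 11), (26, 11), (74, 11), (1, 12), (102, 12), (14, 12), (18, 12), (114, 12), (70, 12),
  (106, 12), (66, 12), (30, 12), (78, 12), (10, 12), (22, 12), (58, 12), (62, 12), (38, 12), (26, 12),
  (118, 12), (86, 12), (54, 12), (110, 12), (42, 12), (50, 12), (46, 12), (98, 12), (82, 12), (2, 12),
  (90, 12), (34, 12), (6, 12), (74, 12), (94, 12), (122, 12), (1, 13), (122, 13), (34, 13), (114, 13),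
  (110, 13), (58, 13), (30, 13), (98, 13), (18, 13), (6, 13), (82, 13), (66, 13), (118, 13), (26, 13),
  (22, 13), (42, 13), (106, 13), (2, 13), (74, 13), (14, 13), (50, 13), (10, 13), (38, 13), (86, 13),
  (70, 13), (90, 13), (94, 13), (102, 13), (46, 13), (78, 13), (62, 13), (54, 13), (1, 14), (86, 14),
  (66, 14), (46, 14), (38, 14), (122, 14), (78, 14), (82, 14), (6, 14), (62, 14), (34, 14), (10, 14),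
  (54, 14), (18, 14), (50, 14), (114, 14), (74, 14), (58, 14), (90, 14), (22, 14), (110, 14), (14, 14),
  (42, 14), (70, 14), (102, 14), (118, 14), (106, 14), (98, 14), (26, 14), (94, 14), (30, 14), (2, 14),
  (1, 15), (118, 15), (70, 15), (50, 15), (10, 15), (90, 15), (26, 15), (122, 15), (42, 15), (114, 15),
  (86, 15), (102, 15), (94, 15), (38, 15), (34, 15), (22, 15), (62, 15), (74, 15), (30, 15), (82, 15),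
  (66, 15), (98, 15), (14, 15), (54, 15), (2, 15), (78, 15), (6, 15), (58, 15), (110, 15), (18, 15),
  (46, 15), (106, 15), (1, 16), (58, 16), (82, 16), (42, 16), (50, 16), (2, 16), (62, 16), (102, 16),
  (26, 16), (18, 16), (98, 16), (34, 16), (90, 16), (46, 16), (14, 16), (38, 16), (94, 16), (54, 16),
  (106, 16), (10, 16), (22, 16), (66, 16), (110, 16), (122, 16), (86, 16), (74, 16), (78, 16), (70, 16),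
  (114, 16), (30, 16), (6, 16), (118, 16), (1, 17), (46, 17), (78, 17), (122, 17), (54, 17), (114, 17),
  (34, 17), (62, 17), (102, 17), (98, 17), (30, 17), (94, 17), (110, 17), (70, 17), (90, 17), (58, 17),
  (14, 17), (42, 17), (22, 17), (74, 17), (118, 17), (106, 17), (2, 17), (26, 17), (18, 17), (50, 17),
  (10, 17), (6, 17), (86, 17), (66, 17), (82, 17), (38, 17), (1, 18), (30, 18), (118, 18), (82, 18),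
  (70, 18), (62, 18), (50, 18), (74, 18), (10, 18), (14, 18), (90, 18), (54, 18), (26, 18), (66, 18),
  (122, 18), (98, 18), (42, 18), (6, 18), (114, 18), (58, 18), (86, 18), (2, 18), (102, 18), (78, 18),
  (94, 18), (46, 18), (38, 18), (106, 18), (34, 18), (110, 18), (22, 18), (18, 18), (1, 19), (22, 19),
  (46, 19), (74, 19), (78, 19), (14, 19), (122, 19), (42, 19), (54, 19), (2, 19), (114, 19), (26, 19),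
  (34, 19), (118, 19), (62, 19), (106, 19), (102, 19), (10, 19), (98, 19), (6, 19), (30, 19), (18, 19),
  (94, 19), (50, 19), (110, 19), (82, 19), (70, 19), (38, 19), (90, 19), (86, 19), (58, 19), (66, 19),
  (1, 20), (94, 20), (2, 20), (66, 20), (98, 20), (78, 20), (38, 20), (118, 20), (22, 20), (50, 20),
  (54, 20), (58, 20), (6, 20), (14, 20), (70, 20), (34, 20), (46, 20), (30, 20), (26, 20), (86, 20),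
  (102, 20), (122, 20), (82, 20), (106, 20), (74, 20), (18, 20), (114, 20), (90, 20), (10, 20), (42, 20),
  (110, 20), (62, 20), (1, 21), (6, 21), (74, 21), (102, 21), (122, 21), (18, 21), (14, 21), (94, 21),
  (34, 21), (66, 21), (106, 21), (90, 21), (114, 21), (82, 21), (2, 21), (70, 21), (110, 21), (26, 21),
  (38, 21), (54, 21), (58, 21), (118, 21), (86, 21), (62, 21), (30, 21), (42, 21), (50, 21), (78, 21),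
  (98, 21), (22, 21), (10, 21), (46, 21), (1, 22), (82, 22), (50, 22), (62, 22), (26, 22), (98, 22),
  (90, 22), (14, 22), (94, 22), (106, 22), (22, 22), (110, 22), (86, 22), (78, 22), (114, 22), (6, 22),
  (2, 22), (102, 22), (58, 22), (42, 22), (46, 22), (38, 22), (18, 22), (34, 22), (66, 22), (122, 22),
  (54, 22), (10, 22), (30, 22), (118, 22), (74, 22), (70, 22), (1, 23), (62, 23), (90, 23), (98, 23),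
  (86, 23), (6, 23), (22, 23), (106, 23), (66, 23), (10, 23), (74, 23), (118, 23), (46, 23), (34, 23),
  (58, 23), (102, 23), (38, 23), (18, 23), (42, 23), (2, 23), (122, 23), (54, 23), (70, 23), (30, 23),
  (78, 23), (114, 23), (110, 23), (94, 23), (82, 23), (50, 23), (14, 23), (26, 23), (1, 24), (50, 24),
  (26, 24), (90, 24), (94, 24), (22, 24), (86, 24), (114, 24), (2, 24), (58, 24), (46, 24), (18, 24),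
  (66, 24), (54, 24), (30, 24), (74, 24), (98, 24), (14, 24), (82, 24), (62, 24), (78, 24), (6, 24),
  (106, 24), (110, 24), (38, 24), (34, 24), (102, 24), (42, 24), (118, 24), (70, 24), (122, 24), (10, 24),
  (1, 25), (110, 25), (18, 25), (118, 25), (106, 25), (50, 25), (70, 25), (46, 25), (58, 25), (122, 25),
  (26, 25), (6, 25), (10, 25), (2, 25), (78, 25), (90, 25), (82, 25), (22, 25), (34, 25), (30, 25),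
  (94, 25), (62, 25), (74, 25), (38, 25), (42, 25), (66, 25), (98, 25), (114, 25), (54, 25), (102, 25),
  (86, 25), (14, 25), (1, 26), (10, 26), (42, 26), (94, 26), (62, 26), (66, 26), (2, 26), (110, 26),
  (90, 26), (118, 26), (38, 26), (114, 26), (98, 26), (74, 26), (18, 26), (78, 26), (86, 26), (34, 26),
  (70, 26), (26, 26), (6, 26), (46, 26), (30, 26), (14, 26), (22, 26), (102, 26), (122, 26), (50, 26),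
  (106, 26), (58, 26), (54, 26), (82, 26), (1, 27), (70, 27), (10, 27), (26, 27), (42, 27), (86, 27),
  (94, 27), (34, 27), (62, 27), (30, 27), (66, 27), (14, 27), (2, 27), (6, 27), (110, 27), (46, 27),
  (90, 27), (122, 27), (118, 27), (50, 27), (38, 27), (22, 27), (114, 27), (102, 27), (98, 27), (54, 27),
  (74, 27), (82, 27), (18, 27), (106, 27), (78, 27), (58, 27), (1, 28), (14, 28), (114, 28), (106, 28),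
  (30, 28), (10, 28), (58, 28), (38, 28), (118, 28), (54, 28), (42, 28), (46, 28), (82, 28), (90, 28),
  (6, 28), (94, 28), (70, 28), (66, 28), (102, 28), (18, 28), (62, 28), (26, 28), (78, 28), (22, 28),
  (50, 28), (98, 28), (86, 28), (110, 28), (74, 28), (122, 28), (2, 28), (34, 28), (1, 29), (26, 29),
  (94, 29), (86, 29), (2, 29), (46, 29), (66, 29), (30, 29), (98, 29), (82, 29), (78, 29), (106, 29),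
  (38, 29), (102, 29), (118, 29), (122, 29), (22, 29), (114, 29), (50, 29), (90, 29), (54, 29), (74, 29),
  (58, 29), (18, 29), (6, 29), (110, 29), (14, 29), (62, 29), (70, 29), (10, 29), (34, 29), (42, 29),
  (1, 30), (98, 30), (22, 30), (6, 30), (46, 30), (102, 30), (74, 30), (10, 30), (78, 30), (94, 30),
  (14, 30), (50, 30), (122, 30), (30, 30), (42, 30), (18, 30), (54, 30), (70, 30), (2, 30), (38, 30),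
  (114, 30), (110, 30), (26, 30), (82, 30), (34, 30), (58, 30), (118, 30), (66, 30), (62, 30), (90, 30),
  (106, 30), (86, 30), (1, 31), (74, 31), (122, 31), (14, 31), (34, 31), (106, 31), (114, 31), (2, 31),
  (110, 31), (38, 31), (58, 31), (86, 31), (30, 31), (50, 31), (98, 31), (10, 31), (18, 31), (94, 31),
  (6, 31), (102, 31), (82, 31), (70, 31), (66, 31), (90, 31), (118, 31), (62, 31), (26, 31), (54, 31),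
  (22, 31), (46, 31), (42, 31), (78, 31)]

/-- Refutations, first coordinate 0. -/
def case5_4_0 : List (List (ℕ × ℕ × ℕ × ℕ) × (ℕ × ℕ × ℕ)) := [
  ([], (0, 0, 0)),
  ([], (0, 0, 0)),
  ([(1, 0, 0, 0), (0, 1, 12, 0)], (0, 2, 0)),
  ([(1, 0, 0, 0), (0, 1, 6, 0)], (0, 2, 0)),
  ([(1, 0, 0, 0), (0, 1, 26, 0)], (0, 2, 0)),
  ([(1, 0, 0, 0), (0, 1, 20, 0)], (0, 2, 0)),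
  ([(1, 0, 0, 0), (0, 1, 13, 0)], (0, 2, 0)),
  ([(1, 0, 0, 0), (0, 1, 8, 0)], (0, 2, 0)),
  ([(1, 0, 0, 0), (0, 1, 9, 0)], (0, 2, 0)),
  ([(1, 0, 0, 0), (0, 1, 21, 0)], (0, 2, 0)),
  ([(1, 0, 0, 0), (0, 1, 11, 0)], (0, 2, 0)),
  ([(1, 0, 0, 0), (0, 1, 28, 0)], (0, 2, 0)),
  ([(1, 0, 0, 0), (0, 1, 22, 0)], (0, 2, 0)),
  ([(1, 0, 0, 0), (0, 1, 5, 0)], (0, 2, 0)),
  ([(1, 0, 0, 0), (0, 1, 15, 0)], (0, 2, 0)),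
  ([(1, 0, 0, 0), (0, 1, 23, 0)], (0, 2, 0)),
  ([(1, 0, 0, 0), (0, 1, 3, 0)], (0, 2, 0)),
  ([(1, 0, 0, 0), (0, 1, 29, 0)], (0, 2, 0)),
  ([(1, 0, 0, 0), (0, 1, 7, 0)], (0, 2, 0)),
  ([(1, 0, 0, 0), (0, 1, 18, 0)], (0, 2, 0)),
  ([(1, 0, 0, 0), (0, 1, 27, 0)], (0, 2, 0)),
  ([(1, 0, 0, 0), (0, 1, 10, 0)], (0, 2, 0)),
  ([(1, 0, 0, 0), (0, 1, 4, 0)], (0, 2, 0)),
  ([(1, 0, 0, 0), (0, 1, 30, 0)], (0, 2, 0)),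
  ([(1, 0, 0, 0), (0, 1, 19, 0)], (0, 2, 0)),
  ([(1, 0, 0, 0), (0, 1, 16, 0)], (0, 2, 0)),
  ([(1, 0, 0, 0), (0, 1, 25, 0)], (0, 2, 0)),
  ([(1, 0, 0, 0), (0, 1, 17, 0)], (0, 2, 0)),
  ([(1, 0, 0, 0), (0, 1, 14, 0)], (0, 2, 0)),
  ([(1, 0, 0, 0), (0, 1, 2, 0)], (0, 2, 0)),
  ([(1, 0, 0, 0), (0, 1, 31, 0)], (0, 2, 0)),
  ([(1, 0, 0, 0), (0, 1, 24, 0)], (0, 2, 0))]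

/-- Refutations, first coordinate 1. -/
def case5_4_1 : List (List (ℕ × ℕ × ℕ × ℕ) × (ℕ × ℕ × ℕ)) := [
  ([(1, 0, 0, 0), (3, 0, 0, 1), (0, 0, 4, 0), (0, 0, 26, 0), (3, 2, 3, 4), (0, 5, 22, 0), (0, 0, 9, 0), (0, 0, 20, 0), (3, 2, 7, 8), (0, 9, 23, 0), (0, 1, 2, 0), (0, 6, 2, 0), (3, 2, 11, 12)], (0, 13, 10)),
  ([(1, 0, 0, 0), (3, 0, 0, 1), (0, 0, 2, 0), (0, 0, 12, 0), (3, 2, 3, 4), (0, 5, 29, 0), (0, 0, 18, 0), (0, 0, 6, 0), (3, 2, 7, 8), (0, 9, 28, 0), (0, 1, 2, 0), (0, 6, 2, 0), (3, 2, 11, 12)], (0, 13, 10)),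
  ([(1, 0, 0, 0), (3, 0, 0, 1), (0, 1, 5, 0), (0, 2, 4, 0), (3, 0, 3, 4), (0, 5, 22, 0)], (0, 6, 0)),
  ([(1, 0, 0, 0), (3, 0, 0, 1), (0, 1, 4, 0), (0, 2, 5, 0), (3, 0, 3, 4), (0, 5, 30, 0)], (0, 6, 0)),
  ([(1, 0, 0, 0), (3, 0, 0, 1), (0, 1, 17, 0), (0, 2, 16, 0), (3, 0, 3, 4), (0, 5, 25, 0)], (0, 6, 0)),
  ([(1, 0, 0, 0), (0, 1, 11, 0), (0, 1, 10, 0), (3, 0, 2, 3), (0, 4, 28, 0)], (0, 5, 0)),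
  ([(1, 0, 0, 0), (3, 0, 0, 1), (0, 1, 21, 0), (0, 2, 20, 0), (3, 0, 3, 4), (0, 5, 9, 0)], (0, 6, 0)),
  ([(1, 0, 0, 0), (3, 0, 0, 1), (0, 1, 20, 0), (0, 2, 21, 0), (3, 0, 3, 4), (0, 5, 26, 0)], (0, 6, 0)),
  ([(1, 0, 0, 0), (3, 0, 0, 1), (0, 1, 11, 0), (0, 2, 10, 0), (3, 0, 3, 4), (0, 5, 28, 0)], (0, 6, 0)),
  ([(1, 0, 0, 0), (3, 0, 0, 1), (0, 1, 10, 0), (0, 2, 11, 0), (3, 0, 3, 4), (0, 5, 27, 0)], (0, 6, 0)),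
  ([(1, 0, 0, 0), (0, 1, 13, 0), (0, 1, 12, 0), (3, 0, 2, 3), (0, 4, 8, 0)], (0, 5, 0)),
  ([(1, 0, 0, 0), (0, 1, 6, 0), (0, 1, 7, 0), (3, 0, 2, 3), (0, 4, 12, 0)], (0, 5, 0)),
  ([(1, 0, 0, 0), (3, 0, 0, 1), (0, 1, 27, 0), (0, 2, 26, 0), (3, 0, 3, 4), (0, 5, 10, 0)], (0, 6, 0)),
  ([(1, 0, 0, 0), (0, 1, 21, 0), (0, 1, 20, 0), (3, 0, 2, 3), (0, 4, 9, 0)], (0, 5, 0)),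
  ([(1, 0, 0, 0), (0, 1, 27, 0), (0, 1, 26, 0), (3, 0, 2, 3), (0, 4, 10, 0)], (0, 5, 0)),
  ([(1, 0, 0, 0), (0, 1, 20, 0), (0, 1, 21, 0), (3, 0, 2, 3), (0, 4, 26, 0)], (0, 5, 0)),
  ([(1, 0, 0, 0), (0, 1, 7, 0), (0, 1, 6, 0), (3, 0, 2, 3), (0, 4, 18, 0)], (0, 5, 0)),
  ([(1, 0, 0, 0), (3, 0, 0, 1), (0, 1, 13, 0), (0, 2, 12, 0), (3, 0, 3, 4), (0, 5, 8, 0)], (0, 6, 0)),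
  ([(1, 0, 0, 0), (3, 0, 0, 1), (0, 1, 8, 0), (0, 2, 9, 0), (3, 0, 3, 4), (0, 5, 13, 0)], (0, 6, 0)),
  ([(1, 0, 0, 0), (0, 1, 4, 0), (0, 1, 5, 0), (3, 0, 2, 3), (0, 4, 30, 0)], (0, 5, 0)),
  ([(1, 0, 0, 0), (0, 1, 3, 0), (0, 1, 2, 0), (3, 0, 2, 3), (0, 4, 29, 0)], (0, 5, 0)),
  ([(1, 0, 0, 0), (0, 1, 19, 0), (0, 1, 18, 0), (3, 0, 2, 3), (0, 4, 16, 0)], (0, 5, 0)),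
  ([(1, 0, 0, 0), (0, 1, 17, 0), (0, 1, 16, 0), (3, 0, 2, 3), (0, 4, 25, 0)], (0, 5, 0)),
  ([(1, 0, 0, 0), (0, 1, 10, 0), (0, 1, 11, 0), (3, 0, 2, 3), (0, 4, 27, 0)], (0, 5, 0)),
  ([(1, 0, 0, 0), (3, 0, 0, 1), (0, 1, 6, 0), (0, 2, 7, 0), (3, 0, 3, 4), (0, 5, 12, 0)], (0, 6, 0)),
  ([(1, 0, 0, 0), (3, 0, 0, 1), (0, 1, 7, 0), (0, 2, 6, 0), (3, 0, 3, 4), (0, 5, 18, 0)], (0, 6, 0)),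
  ([(1, 0, 0, 0), (3, 0, 0, 1), (0, 1, 2, 0), (0, 2, 3, 0), (3, 0, 3, 4), (0, 5, 14, 0)], (0, 6, 0)),
  ([(1, 0, 0, 0), (3, 0, 0, 1), (0, 1, 3, 0), (0, 2, 2, 0), (3, 0, 3, 4), (0, 5, 29, 0)], (0, 6, 0)),
  ([(1, 0, 0, 0), (0, 1, 8, 0), (0, 1, 9, 0), (3, 0, 2, 3), (0, 4, 13, 0)], (0, 5, 0)),
  ([(1, 0, 0, 0), (0, 1, 5, 0), (0, 1, 4, 0), (3, 0, 2, 3), (0, 4, 22, 0)], (0, 5, 0)),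
  ([(1, 0, 0, 0), (0, 1, 2, 0), (0, 1, 3, 0), (3, 0, 2, 3), (0, 4, 14, 0)], (0, 5, 0)),
  ([(1, 0, 0, 0), (3, 0, 0, 1), (0, 1, 19, 0), (0, 2, 18, 0), (3, 0, 3, 4), (0, 5, 16, 0)], (0, 6, 0))]

/-- Refutations, first coordinate 2. -/
def case5_4_2 : List (List (ℕ × ℕ × ℕ × ℕ) × (ℕ × ℕ × ℕ)) := [
  ([(1, 0, 0, 0), (0, 1, 18, 0), (0, 0, 2, 0), (0, 2, 2, 0), (3, 0, 3, 4), (0, 0, 4, 0), (0, 5, 4, 0), (3, 2, 6, 7), (0, 8, 29, 0), (0, 0, 5, 0), (0, 9, 4, 0), (3, 2, 10, 11), (0, 12, 25, 0), (0, 0, 29, 0), (0, 13, 4, 0), (3, 2, 14, 15), (0, 16, 18, 0), (0, 2, 24, 0), (0, 13, 28, 0), (3, 2, 18, 19)], (0, 20, 17)),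
  ([(1, 0, 0, 0), (0, 1, 18, 0), (0, 2, 10, 0), (0, 2, 8, 0), (3, 0, 3, 4), (0, 5, 22, 0)], (0, 6, 0)),
  ([(1, 0, 0, 0), (0, 1, 18, 0), (0, 0, 2, 0), (0, 2, 2, 0), (3, 0, 3, 4), (0, 2, 3, 0), (3, 0, 6, 5), (0, 7, 16, 0)], (0, 8, 0)),
  ([(1, 0, 0, 0), (0, 1, 18, 0), (0, 0, 2, 0), (0, 2, 2, 0), (3, 0, 3, 4), (0, 2, 10, 0), (0, 5, 8, 0), (3, 0, 6, 7), (0, 8, 22, 0)], (0, 9, 0)),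
  ([(1, 0, 0, 0), (0, 1, 18, 0), (0, 0, 2, 0), (0, 2, 2, 0), (3, 0, 3, 4), (0, 2, 6, 0), (0, 5, 4, 0), (3, 0, 6, 7), (0, 8, 29, 0)], (0, 9, 0)),
  ([(1, 0, 0, 0), (0, 1, 18, 0), (0, 0, 2, 0), (0, 2, 2, 0), (3, 0, 3, 4), (0, 2, 15, 0), (0, 5, 13, 0), (3, 0, 6, 7), (0, 8, 9, 0)], (0, 9, 0)),
  ([(1, 0, 0, 0), (0, 1, 18, 0), (0, 0, 2, 0), (0, 2, 2, 0), (3, 0, 3, 4), (0, 2, 7, 0), (0, 5, 5, 0), (3, 0, 6, 7), (0, 8, 25, 0)], (0, 9, 0)),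
  ([(1, 0, 0, 0), (0, 1, 18, 0), (0, 0, 2, 0), (0, 2, 2, 0), (3, 0, 3, 4), (0, 2, 14, 0), (0, 5, 12, 0), (3, 0, 6, 7), (0, 8, 18, 0)], (0, 9, 0)),
  ([(1, 0, 0, 0), (0, 1, 18, 0), (0, 2, 8, 0), (0, 2, 10, 0), (3, 0, 3, 4), (0, 5, 30, 0)], (0, 6, 0)),
  ([(1, 0, 0, 0), (0, 1, 18, 0), (0, 2, 19, 0), (0, 2, 17, 0), (3, 0, 3, 4), (0, 5, 10, 0)], (0, 6, 0)),
  ([(1, 0, 0, 0), (0, 1, 18, 0), (0, 0, 2, 0), (0, 2, 2, 0), (3, 0, 3, 4), (0, 2, 19, 0), (0, 5, 17, 0), (3, 0, 6, 7), (0, 8, 10, 0)], (0, 9, 0)),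
  ([(1, 0, 0, 0), (0, 1, 18, 0), (0, 0, 2, 0), (0, 2, 2, 0), (3, 0, 3, 4), (0, 2, 26, 0), (0, 5, 24, 0), (3, 0, 6, 7), (0, 8, 8, 0)], (0, 9, 0)),
  ([(1, 0, 0, 0), (0, 1, 18, 0), (0, 2, 5, 0), (0, 2, 7, 0), (3, 0, 3, 4), (0, 5, 19, 0)], (0, 6, 0)),
  ([(1, 0, 0, 0), (0, 1, 18, 0), (0, 2, 3, 0), (3, 0, 3, 2), (0, 4, 16, 0)], (0, 5, 0)),
  ([(1, 0, 0, 0), (0, 1, 18, 0), (0, 2, 20, 0), (0, 2, 22, 0), (3, 0, 3, 4), (0, 5, 27, 0)], (0, 6, 0)),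
  ([(1, 0, 0, 0), (0, 1, 18, 0), (0, 2, 26, 0), (0, 2, 24, 0), (3, 0, 3, 4), (0, 5, 8, 0)], (0, 6, 0)),
  ([(1, 0, 0, 0), (0, 1, 18, 0), (0, 0, 2, 0), (0, 2, 2, 0), (3, 0, 3, 4), (0, 2, 8, 0), (0, 5, 10, 0), (3, 0, 6, 7), (0, 8, 30, 0)], (0, 9, 0)),
  ([(1, 0, 0, 0), (0, 1, 18, 0), (0, 0, 2, 0), (0, 2, 2, 0), (3, 0, 3, 4), (0, 5, 3, 0), (3, 0, 2, 6), (0, 7, 7, 0)], (0, 8, 0)),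
  ([(1, 0, 0, 0), (0, 1, 18, 0), (0, 0, 2, 0), (0, 2, 2, 0), (3, 0, 3, 4), (0, 2, 9, 0), (0, 5, 11, 0), (3, 0, 6, 7), (0, 8, 5, 0)], (0, 9, 0)),
  ([(1, 0, 0, 0), (0, 1, 18, 0), (0, 0, 2, 0), (0, 2, 2, 0), (3, 0, 3, 4), (0, 0, 4, 0), (0, 5, 4, 0), (3, 2, 6, 7), (0, 8, 29, 0), (0, 0, 23, 0), (0, 9, 4, 0), (3, 2, 10, 11), (0, 12, 16, 0), (0, 2, 23, 0), (0, 9, 19, 0), (3, 2, 14, 15)], (0, 16, 13)),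
  ([(1, 0, 0, 0), (0, 1, 18, 0), (0, 0, 2, 0), (0, 2, 2, 0), (3, 0, 3, 4), (0, 2, 12, 0), (0, 5, 14, 0), (3, 0, 6, 7), (0, 8, 12, 0)], (0, 9, 0)),
  ([(1, 0, 0, 0), (0, 1, 18, 0), (0, 0, 2, 0), (0, 2, 2, 0), (3, 0, 3, 4), (0, 2, 5, 0), (0, 5, 7, 0), (3, 0, 6, 7), (0, 8, 19, 0)], (0, 9, 0)),
  ([(1, 0, 0, 0), (0, 1, 18, 0), (0, 0, 2, 0), (0, 2, 2, 0), (3, 0, 3, 4), (0, 2, 13, 0), (0, 5, 15, 0), (3, 0, 6, 7), (0, 8, 26, 0)], (0, 9, 0)),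
  ([(1, 0, 0, 0), (0, 1, 18, 0), (0, 2, 3, 0), (3, 0, 2, 3), (0, 4, 7, 0)], (0, 5, 0)),
  ([(1, 0, 0, 0), (0, 1, 18, 0), (0, 2, 14, 0), (0, 2, 12, 0), (3, 0, 3, 4), (0, 5, 18, 0)], (0, 6, 0)),
  ([(1, 0, 0, 0), (0, 1, 18, 0), (0, 2, 15, 0), (0, 2, 13, 0), (3, 0, 3, 4), (0, 5, 9, 0)], (0, 6, 0)),
  ([(1, 0, 0, 0), (0, 1, 18, 0), (0, 2, 13, 0), (0, 2, 15, 0), (3, 0, 3, 4), (0, 5, 26, 0)], (0, 6, 0)),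
  ([(1, 0, 0, 0), (0, 1, 18, 0), (0, 2, 9, 0), (0, 2, 11, 0), (3, 0, 3, 4), (0, 5, 5, 0)], (0, 6, 0)),
  ([(1, 0, 0, 0), (0, 1, 18, 0), (0, 2, 12, 0), (0, 2, 14, 0), (3, 0, 3, 4), (0, 5, 12, 0)], (0, 6, 0)),
  ([(1, 0, 0, 0), (0, 1, 18, 0), (0, 2, 7, 0), (0, 2, 5, 0), (3, 0, 3, 4), (0, 5, 25, 0)], (0, 6, 0)),
  ([(1, 0, 0, 0), (0, 1, 18, 0), (0, 2, 6, 0), (0, 2, 4, 0), (3, 0, 3, 4), (0, 5, 29, 0)], (0, 6, 0)),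
  ([(1, 0, 0, 0), (0, 1, 18, 0), (0, 0, 2, 0), (0, 2, 2, 0), (3, 0, 3, 4), (0, 2, 20, 0), (0, 5, 22, 0), (3, 0, 6, 7), (0, 8, 27, 0)], (0, 9, 0))]

/-- Refutations, first coordinate 3. -/
def case5_4_3 : List (List (ℕ × ℕ × ℕ × ℕ) × (ℕ × ℕ × ℕ)) := [
  ([(1, 0, 0, 0), (0, 1, 28, 0), (0, 0, 3, 0), (0, 2, 3, 0), (3, 0, 3, 4), (0, 5, 5, 0)], (2, 2, 6)),
  ([(1, 0, 0, 0), (0, 1, 28, 0), (0, 2, 9, 0), (0, 2, 10, 0), (3, 0, 3, 4), (0, 5, 18, 0)], (0, 6, 0)),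
  ([(1, 0, 0, 0), (0, 1, 28, 0), (0, 0, 3, 0), (0, 2, 3, 0), (3, 0, 3, 4), (0, 2, 21, 0), (0, 5, 22, 0), (3, 0, 6, 7), (0, 8, 19, 0)], (0, 9, 0)),
  ([(1, 0, 0, 0), (0, 1, 28, 0), (0, 0, 3, 0), (0, 2, 3, 0), (3, 0, 3, 4), (0, 2, 2, 0), (3, 0, 6, 5), (0, 7, 3, 0)], (0, 8, 0)),
  ([(1, 0, 0, 0), (0, 1, 28, 0), (0, 0, 3, 0), (0, 2, 3, 0), (3, 0, 3, 4), (0, 2, 17, 0), (0, 5, 18, 0), (3, 0, 6, 7), (0, 8, 23, 0)], (0, 9, 0)),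
  ([(1, 0, 0, 0), (0, 1, 28, 0), (0, 0, 3, 0), (0, 2, 3, 0), (3, 0, 3, 4), (0, 2, 6, 0), (0, 5, 5, 0), (3, 0, 6, 7), (0, 8, 14, 0)], (0, 9, 0)),
  ([(1, 0, 0, 0), (0, 1, 28, 0), (0, 0, 3, 0), (0, 2, 3, 0), (3, 0, 3, 4), (0, 2, 7, 0), (0, 5, 4, 0), (3, 0, 6, 7), (0, 8, 4, 0)], (0, 9, 0)),
  ([(1, 0, 0, 0), (0, 1, 28, 0), (0, 2, 2, 0), (3, 0, 3, 2), (0, 4, 3, 0)], (0, 5, 0)),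
  ([(1, 0, 0, 0), (0, 1, 28, 0), (0, 0, 3, 0), (0, 2, 3, 0), (3, 0, 3, 4), (0, 5, 2, 0), (3, 0, 2, 6), (0, 7, 11, 0)], (0, 8, 0)),
  ([(1, 0, 0, 0), (0, 1, 28, 0), (0, 2, 13, 0), (0, 2, 14, 0), (3, 0, 3, 4), (0, 5, 31, 0)], (0, 6, 0)),
  ([(1, 0, 0, 0), (0, 1, 28, 0), (0, 2, 17, 0), (0, 2, 18, 0), (3, 0, 3, 4), (0, 5, 23, 0)], (0, 6, 0)),
  ([(1, 0, 0, 0), (0, 1, 28, 0), (0, 0, 3, 0), (0, 2, 3, 0), (3, 0, 3, 4), (0, 0, 5, 0), (0, 5, 5, 0), (3, 2, 6, 7), (0, 8, 19, 0), (0, 0, 27, 0), (0, 9, 5, 0), (3, 2, 10, 11), (0, 12, 23, 0), (0, 2, 5, 0), (0, 0, 5, 0), (3, 2, 14, 15), (0, 2, 7, 0), (0, 13, 2, 0), (3, 2, 17, 18), (0, 5, 2, 0), (0, 19, 7, 0), (3, 2, 20, 21), (0, 22, 2, 0)], (0, 23, 16)),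
  ([(1, 0, 0, 0), (0, 1, 28, 0), (0, 2, 6, 0), (0, 2, 5, 0), (3, 0, 3, 4), (0, 5, 14, 0)], (0, 6, 0)),
  ([(1, 0, 0, 0), (0, 1, 28, 0), (0, 0, 3, 0), (0, 2, 3, 0), (3, 0, 3, 4), (0, 2, 4, 0), (0, 5, 7, 0), (3, 0, 6, 7), (0, 8, 24, 0)], (0, 9, 0)),
  ([(1, 0, 0, 0), (0, 1, 28, 0), (0, 2, 2, 0), (3, 0, 2, 3), (0, 4, 11, 0)], (0, 5, 0)),
  ([(1, 0, 0, 0), (0, 1, 28, 0), (0, 2, 10, 0), (0, 2, 9, 0), (3, 0, 3, 4), (0, 5, 12, 0)], (0, 6, 0)),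
  ([(1, 0, 0, 0), (0, 1, 28, 0), (0, 0, 3, 0), (0, 2, 3, 0), (3, 0, 3, 4), (0, 2, 11, 0), (0, 5, 8, 0), (3, 0, 6, 7), (0, 8, 20, 0)], (0, 9, 0)),
  ([(1, 0, 0, 0), (0, 1, 28, 0), (0, 2, 15, 0), (0, 2, 12, 0), (3, 0, 3, 4), (0, 5, 22, 0)], (0, 6, 0)),
  ([(1, 0, 0, 0), (0, 1, 28, 0), (0, 2, 21, 0), (0, 2, 22, 0), (3, 0, 3, 4), (0, 5, 19, 0)], (0, 6, 0)),
  ([(1, 0, 0, 0), (0, 1, 28, 0), (0, 0, 3, 0), (0, 2, 3, 0), (3, 0, 3, 4), (0, 2, 10, 0), (0, 5, 9, 0), (3, 0, 6, 7), (0, 8, 12, 0)], (0, 9, 0)),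
  ([(1, 0, 0, 0), (0, 1, 28, 0), (0, 2, 7, 0), (0, 2, 4, 0), (3, 0, 3, 4), (0, 5, 4, 0)], (0, 6, 0)),
  ([(1, 0, 0, 0), (0, 1, 28, 0), (0, 0, 3, 0), (0, 2, 3, 0), (3, 0, 3, 4), (0, 2, 14, 0), (0, 5, 13, 0), (3, 0, 6, 7), (0, 8, 17, 0)], (0, 9, 0)),
  ([(1, 0, 0, 0), (0, 1, 28, 0), (0, 0, 3, 0), (0, 2, 3, 0), (3, 0, 3, 4), (0, 2, 15, 0), (0, 5, 12, 0), (3, 0, 6, 7), (0, 8, 22, 0)], (0, 9, 0)),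
  ([(1, 0, 0, 0), (0, 1, 28, 0), (0, 0, 3, 0), (0, 2, 3, 0), (3, 0, 3, 4), (0, 2, 24, 0), (0, 5, 27, 0), (3, 0, 6, 7), (0, 8, 13, 0)], (0, 9, 0)),
  ([(1, 0, 0, 0), (0, 1, 28, 0), (0, 0, 3, 0), (0, 2, 3, 0), (3, 0, 3, 4), (0, 2, 9, 0), (0, 5, 10, 0), (3, 0, 6, 7), (0, 8, 18, 0)], (0, 9, 0)),
  ([(1, 0, 0, 0), (0, 1, 28, 0), (0, 2, 14, 0), (0, 2, 13, 0), (3, 0, 3, 4), (0, 5, 17, 0)], (0, 6, 0)),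
  ([(1, 0, 0, 0), (0, 1, 28, 0), (0, 2, 24, 0), (0, 2, 27, 0), (3, 0, 3, 4), (0, 5, 13, 0)], (0, 6, 0)),
  ([(1, 0, 0, 0), (0, 1, 28, 0), (0, 2, 4, 0), (0, 2, 7, 0), (3, 0, 3, 4), (0, 5, 24, 0)], (0, 6, 0)),
  ([(1, 0, 0, 0), (0, 1, 28, 0), (0, 2, 12, 0), (0, 2, 15, 0), (3, 0, 3, 4), (0, 5, 30, 0)], (0, 6, 0)),
  ([(1, 0, 0, 0), (0, 1, 28, 0), (0, 0, 3, 0), (0, 2, 3, 0), (3, 0, 3, 4), (0, 2, 12, 0), (0, 5, 15, 0), (3, 0, 6, 7), (0, 8, 30, 0)], (0, 9, 0)),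
  ([(1, 0, 0, 0), (0, 1, 28, 0), (0, 0, 3, 0), (0, 2, 3, 0), (3, 0, 3, 4), (0, 2, 13, 0), (0, 5, 14, 0), (3, 0, 6, 7), (0, 8, 31, 0)], (0, 9, 0)),
  ([(1, 0, 0, 0), (0, 1, 28, 0), (0, 2, 11, 0), (0, 2, 8, 0), (3, 0, 3, 4), (0, 5, 20, 0)], (0, 6, 0))]

/-- Refutations, first coordinate 4. -/
def case5_4_4 : List (List (ℕ × ℕ × ℕ × ℕ) × (ℕ × ℕ × ℕ)) := [
  ([(1, 0, 0, 0), (0, 1, 9, 0), (0, 0, 4, 0), (0, 2, 4, 0), (3, 0, 3, 4), (0, 0, 16, 0), (0, 5, 16, 0), (3, 2, 6, 7), (0, 8, 22, 0), (0, 0, 17, 0), (0, 9, 16, 0), (3, 2, 10, 11), (0, 12, 6, 0), (0, 0, 22, 0), (0, 13, 16, 0), (3, 2, 14, 15), (0, 16, 9, 0), (0, 0, 23, 0), (0, 17, 16, 0), (3, 2, 18, 19), (0, 20, 26, 0)], (0, 21, 13)),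
  ([(1, 0, 0, 0), (0, 1, 9, 0), (0, 2, 14, 0), (0, 2, 10, 0), (3, 0, 3, 4), (0, 5, 25, 0)], (0, 6, 0)),
  ([(1, 0, 0, 0), (0, 1, 9, 0), (0, 2, 11, 0), (0, 2, 15, 0), (3, 0, 3, 4), (0, 5, 17, 0)], (0, 6, 0)),
  ([(1, 0, 0, 0), (0, 1, 9, 0), (0, 0, 4, 0), (0, 2, 4, 0), (3, 0, 3, 4), (0, 2, 6, 0), (0, 5, 2, 0), (3, 0, 6, 7), (0, 8, 16, 0)], (0, 9, 0)),
  ([(1, 0, 0, 0), (0, 1, 9, 0), (0, 0, 4, 0), (0, 2, 4, 0), (3, 0, 3, 4), (0, 2, 5, 0), (3, 0, 6, 5), (0, 7, 13, 0)], (0, 8, 0)),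
  ([(1, 0, 0, 0), (0, 1, 9, 0), (0, 0, 4, 0), (0, 2, 4, 0), (3, 0, 3, 4), (0, 2, 14, 0), (0, 5, 10, 0), (3, 0, 6, 7), (0, 8, 25, 0)], (0, 9, 0)),
  ([(1, 0, 0, 0), (0, 1, 9, 0), (0, 0, 4, 0), (0, 2, 4, 0), (3, 0, 3, 4), (0, 2, 12, 0), (0, 5, 8, 0), (3, 0, 6, 7), (0, 8, 29, 0)], (0, 9, 0)),
  ([(1, 0, 0, 0), (0, 1, 9, 0), (0, 0, 4, 0), (0, 2, 4, 0), (3, 0, 3, 4), (0, 2, 7, 0), (0, 5, 3, 0), (3, 0, 6, 7), (0, 8, 20, 0)], (0, 9, 0)),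
  ([(1, 0, 0, 0), (0, 1, 9, 0), (0, 0, 4, 0), (0, 2, 4, 0), (3, 0, 3, 4), (0, 0, 16, 0), (0, 5, 16, 0), (3, 2, 6, 7), (0, 8, 22, 0), (0, 0, 24, 0), (0, 9, 16, 0), (3, 2, 10, 11), (0, 12, 13, 0), (0, 0, 27, 0), (0, 13, 16, 0), (3, 2, 14, 15), (0, 16, 2, 0)], (0, 17, 9)),
  ([(1, 0, 0, 0), (0, 1, 9, 0), (0, 0, 4, 0), (0, 2, 4, 0), (3, 0, 3, 4), (0, 2, 11, 0), (0, 5, 15, 0), (3, 0, 6, 7), (0, 8, 17, 0)], (0, 9, 0)),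
  ([(1, 0, 0, 0), (0, 1, 9, 0), (0, 0, 4, 0), (0, 2, 4, 0), (3, 0, 3, 4), (0, 2, 9, 0), (0, 5, 13, 0), (3, 0, 6, 7), (0, 8, 28, 0)], (0, 9, 0)),
  ([(1, 0, 0, 0), (0, 1, 9, 0), (0, 0, 4, 0), (0, 2, 4, 0), (3, 0, 3, 4), (0, 2, 2, 0), (0, 5, 6, 0), (3, 0, 6, 7), (0, 8, 7, 0)], (0, 9, 0)),
  ([(1, 0, 0, 0), (0, 1, 9, 0), (0, 0, 4, 0), (0, 2, 4, 0), (3, 0, 3, 4), (0, 5, 5, 0), (3, 0, 2, 6), (0, 7, 21, 0)], (0, 8, 0)),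
  ([(1, 0, 0, 0), (0, 1, 9, 0), (0, 2, 9, 0), (0, 2, 13, 0), (3, 0, 3, 4), (0, 5, 28, 0)], (0, 6, 0)),
  ([(1, 0, 0, 0), (0, 1, 9, 0), (0, 2, 2, 0), (0, 2, 6, 0), (3, 0, 3, 4), (0, 5, 7, 0)], (0, 6, 0)),
  ([(1, 0, 0, 0), (0, 1, 9, 0), (0, 0, 4, 0), (0, 2, 4, 0), (3, 0, 3, 4), (0, 2, 3, 0), (0, 5, 7, 0), (3, 0, 6, 7), (0, 8, 10, 0)], (0, 9, 0)),
  ([(1, 0, 0, 0), (0, 1, 9, 0), (0, 0, 4, 0), (0, 2, 4, 0), (3, 0, 3, 4), (0, 2, 20, 0), (0, 5, 16, 0), (3, 0, 6, 7), (0, 8, 22, 0)], (0, 9, 0)),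
  ([(1, 0, 0, 0), (0, 1, 9, 0), (0, 2, 12, 0), (0, 2, 8, 0), (3, 0, 3, 4), (0, 5, 29, 0)], (0, 6, 0)),
  ([(1, 0, 0, 0), (0, 1, 9, 0), (0, 2, 24, 0), (0, 2, 28, 0), (3, 0, 3, 4), (0, 5, 12, 0)], (0, 6, 0)),
  ([(1, 0, 0, 0), (0, 1, 9, 0), (0, 2, 20, 0), (0, 2, 16, 0), (3, 0, 3, 4), (0, 5, 22, 0)], (0, 6, 0)),
  ([(1, 0, 0, 0), (0, 1, 9, 0), (0, 0, 4, 0), (0, 2, 4, 0), (3, 0, 3, 4), (0, 2, 21, 0), (0, 5, 17, 0), (3, 0, 6, 7), (0, 8, 6, 0)], (0, 9, 0)),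
  ([(1, 0, 0, 0), (0, 1, 9, 0), (0, 2, 7, 0), (0, 2, 3, 0), (3, 0, 3, 4), (0, 5, 20, 0)], (0, 6, 0)),
  ([(1, 0, 0, 0), (0, 1, 9, 0), (0, 2, 21, 0), (0, 2, 17, 0), (3, 0, 3, 4), (0, 5, 6, 0)], (0, 6, 0)),
  ([(1, 0, 0, 0), (0, 1, 9, 0), (0, 0, 4, 0), (0, 2, 4, 0), (3, 0, 3, 4), (0, 2, 23, 0), (0, 5, 19, 0), (3, 0, 6, 7), (0, 8, 4, 0)], (0, 9, 0)),
  ([(1, 0, 0, 0), (0, 1, 9, 0), (0, 2, 5, 0), (3, 0, 2, 3), (0, 4, 21, 0)], (0, 5, 0)),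
  ([(1, 0, 0, 0), (0, 1, 9, 0), (0, 2, 6, 0), (0, 2, 2, 0), (3, 0, 3, 4), (0, 5, 16, 0)], (0, 6, 0)),
  ([(1, 0, 0, 0), (0, 1, 9, 0), (0, 2, 17, 0), (0, 2, 21, 0), (3, 0, 3, 4), (0, 5, 8, 0)], (0, 6, 0)),
  ([(1, 0, 0, 0), (0, 1, 9, 0), (0, 2, 5, 0), (3, 0, 3, 2), (0, 4, 13, 0)], (0, 5, 0)),
  ([(1, 0, 0, 0), (0, 1, 9, 0), (0, 0, 4, 0), (0, 2, 4, 0), (3, 0, 3, 4), (0, 2, 17, 0), (0, 5, 21, 0), (3, 0, 6, 7), (0, 8, 8, 0)], (0, 9, 0)),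
  ([(1, 0, 0, 0), (0, 1, 9, 0), (0, 2, 23, 0), (0, 2, 19, 0), (3, 0, 3, 4), (0, 5, 4, 0)], (0, 6, 0)),
  ([(1, 0, 0, 0), (0, 1, 9, 0), (0, 0, 4, 0), (0, 2, 4, 0), (3, 0, 3, 4), (0, 2, 24, 0), (0, 5, 28, 0), (3, 0, 6, 7), (0, 8, 12, 0)], (0, 9, 0)),
  ([(1, 0, 0, 0), (0, 1, 9, 0), (0, 2, 3, 0), (0, 2, 7, 0), (3, 0, 3, 4), (0, 5, 10, 0)], (0, 6, 0))]

/-- Refutations, first coordinate 5. -/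
def case5_4_5 : List (List (ℕ × ℕ × ℕ × ℕ) × (ℕ × ℕ × ℕ)) := [
  ([(1, 0, 0, 0), (0, 1, 23, 0), (0, 0, 5, 0), (0, 2, 5, 0), (3, 0, 3, 4), (0, 5, 17, 0)], (2, 2, 6)),
  ([(1, 0, 0, 0), (0, 1, 23, 0), (0, 2, 11, 0), (0, 2, 14, 0), (3, 0, 3, 4), (0, 5, 9, 0)], (0, 6, 0)),
  ([(1, 0, 0, 0), (0, 1, 23, 0), (0, 0, 5, 0), (0, 2, 5, 0), (3, 0, 3, 4), (0, 2, 10, 0), (0, 5, 15, 0), (3, 0, 6, 7), (0, 8, 14, 0)], (0, 9, 0)),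
  ([(1, 0, 0, 0), (0, 1, 23, 0), (0, 2, 7, 0), (0, 2, 2, 0), (3, 0, 3, 4), (0, 5, 27, 0)], (0, 6, 0)),
  ([(1, 0, 0, 0), (0, 1, 23, 0), (0, 2, 22, 0), (0, 2, 19, 0), (3, 0, 3, 4), (0, 5, 23, 0)], (0, 6, 0)),
  ([(1, 0, 0, 0), (0, 1, 23, 0), (0, 0, 5, 0), (0, 2, 5, 0), (3, 0, 3, 4), (0, 2, 4, 0), (3, 0, 6, 5), (0, 7, 5, 0)], (0, 8, 0)),
  ([(1, 0, 0, 0), (0, 1, 23, 0), (0, 0, 5, 0), (0, 2, 5, 0), (3, 0, 3, 4), (0, 2, 19, 0), (0, 5, 22, 0), (3, 0, 6, 7), (0, 8, 2, 0)], (0, 9, 0)),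
  ([(1, 0, 0, 0), (0, 1, 23, 0), (0, 0, 5, 0), (0, 2, 5, 0), (3, 0, 3, 4), (0, 2, 11, 0), (0, 5, 14, 0), (3, 0, 6, 7), (0, 8, 9, 0)], (0, 9, 0)),
  ([(1, 0, 0, 0), (0, 1, 23, 0), (0, 2, 9, 0), (0, 2, 12, 0), (3, 0, 3, 4), (0, 5, 4, 0)], (0, 6, 0)),
  ([(1, 0, 0, 0), (0, 1, 23, 0), (0, 0, 5, 0), (0, 2, 5, 0), (3, 0, 3, 4), (0, 2, 22, 0), (0, 5, 19, 0), (3, 0, 6, 7), (0, 8, 23, 0)], (0, 9, 0)),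
  ([(1, 0, 0, 0), (0, 1, 23, 0), (0, 0, 5, 0), (0, 2, 5, 0), (3, 0, 3, 4), (0, 5, 4, 0), (3, 0, 2, 6), (0, 7, 15, 0)], (0, 8, 0)),
  ([(1, 0, 0, 0), (0, 1, 23, 0), (0, 0, 5, 0), (0, 2, 5, 0), (3, 0, 3, 4), (0, 2, 25, 0), (0, 5, 28, 0), (3, 0, 6, 7), (0, 8, 6, 0)], (0, 9, 0)),
  ([(1, 0, 0, 0), (0, 1, 23, 0), (0, 0, 5, 0), (0, 2, 5, 0), (3, 0, 3, 4), (0, 2, 23, 0), (0, 5, 18, 0), (3, 0, 6, 7), (0, 8, 31, 0)], (0, 9, 0)),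
  ([(1, 0, 0, 0), (0, 1, 23, 0), (0, 2, 3, 0), (0, 2, 6, 0), (3, 0, 3, 4), (0, 5, 11, 0)], (0, 6, 0)),
  ([(1, 0, 0, 0), (0, 1, 23, 0), (0, 2, 12, 0), (0, 2, 9, 0), (3, 0, 3, 4), (0, 5, 24, 0)], (0, 6, 0)),
  ([(1, 0, 0, 0), (0, 1, 23, 0), (0, 0, 5, 0), (0, 2, 5, 0), (3, 0, 3, 4), (0, 2, 17, 0), (0, 0, 17, 0), (3, 2, 6, 7), (0, 2, 24, 0), (0, 8, 9, 0), (3, 2, 9, 10), (0, 5, 7, 0), (0, 11, 22, 0), (3, 2, 12, 13)], (1, 14, 0)),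
  ([(1, 0, 0, 0), (0, 1, 23, 0), (0, 0, 5, 0), (0, 2, 5, 0), (3, 0, 3, 4), (0, 2, 12, 0), (0, 5, 9, 0), (3, 0, 6, 7), (0, 8, 24, 0)], (0, 9, 0)),
  ([(1, 0, 0, 0), (0, 1, 23, 0), (0, 2, 8, 0), (0, 2, 13, 0), (3, 0, 3, 4), (0, 5, 21, 0)], (0, 6, 0)),
  ([(1, 0, 0, 0), (0, 1, 23, 0), (0, 0, 5, 0), (0, 2, 5, 0), (3, 0, 3, 4), (0, 2, 3, 0), (0, 5, 6, 0), (3, 0, 6, 7), (0, 8, 11, 0)], (0, 9, 0)),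
  ([(1, 0, 0, 0), (0, 1, 23, 0), (0, 2, 25, 0), (0, 2, 28, 0), (3, 0, 3, 4), (0, 5, 6, 0)], (0, 6, 0)),
  ([(1, 0, 0, 0), (0, 1, 23, 0), (0, 2, 6, 0), (0, 2, 3, 0), (3, 0, 3, 4), (0, 5, 3, 0)], (0, 6, 0)),
  ([(1, 0, 0, 0), (0, 1, 23, 0), (0, 2, 4, 0), (3, 0, 3, 2), (0, 4, 5, 0)], (0, 5, 0)),
  ([(1, 0, 0, 0), (0, 1, 23, 0), (0, 2, 2, 0), (0, 2, 7, 0), (3, 0, 3, 4), (0, 5, 28, 0)], (0, 6, 0)),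
  ([(1, 0, 0, 0), (0, 1, 23, 0), (0, 0, 5, 0), (0, 2, 5, 0), (3, 0, 3, 4), (0, 2, 2, 0), (0, 5, 7, 0), (3, 0, 6, 7), (0, 8, 28, 0)], (0, 9, 0)),
  ([(1, 0, 0, 0), (0, 1, 23, 0), (0, 0, 5, 0), (0, 2, 5, 0), (3, 0, 3, 4), (0, 2, 7, 0), (0, 5, 2, 0), (3, 0, 6, 7), (0, 8, 27, 0)], (0, 9, 0)),
  ([(1, 0, 0, 0), (0, 1, 23, 0), (0, 2, 23, 0), (0, 2, 18, 0), (3, 0, 3, 4), (0, 5, 31, 0)], (0, 6, 0)),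
  ([(1, 0, 0, 0), (0, 1, 23, 0), (0, 0, 5, 0), (0, 2, 5, 0), (3, 0, 3, 4), (0, 2, 8, 0), (0, 5, 13, 0), (3, 0, 6, 7), (0, 8, 21, 0)], (0, 9, 0)),
  ([(1, 0, 0, 0), (0, 1, 23, 0), (0, 2, 10, 0), (0, 2, 15, 0), (3, 0, 3, 4), (0, 5, 14, 0)], (0, 6, 0)),
  ([(1, 0, 0, 0), (0, 1, 23, 0), (0, 2, 19, 0), (0, 2, 22, 0), (3, 0, 3, 4), (0, 5, 2, 0)], (0, 6, 0)),
  ([(1, 0, 0, 0), (0, 1, 23, 0), (0, 0, 5, 0), (0, 2, 5, 0), (3, 0, 3, 4), (0, 2, 6, 0), (0, 5, 3, 0), (3, 0, 6, 7), (0, 8, 3, 0)], (0, 9, 0)),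
  ([(1, 0, 0, 0), (0, 1, 23, 0), (0, 2, 4, 0), (3, 0, 2, 3), (0, 4, 15, 0)], (0, 5, 0)),
  ([(1, 0, 0, 0), (0, 1, 23, 0), (0, 0, 5, 0), (0, 2, 5, 0), (3, 0, 3, 4), (0, 2, 9, 0), (0, 5, 12, 0), (3, 0, 6, 7), (0, 8, 4, 0)], (0, 9, 0))]

/-- Refutations, first coordinate 6. -/
def case5_4_6 : List (List (ℕ × ℕ × ℕ × ℕ) × (ℕ × ℕ × ℕ)) := [
  ([(1, 0, 0, 0), (0, 1, 14, 0), (0, 0, 6, 0), (0, 2, 6, 0), (3, 0, 3, 4), (0, 5, 20, 0)], (2, 2, 6)),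
  ([(1, 0, 0, 0), (0, 1, 14, 0), (0, 2, 19, 0), (0, 2, 21, 0), (3, 0, 3, 4), (0, 5, 21, 0)], (0, 6, 0)),
  ([(1, 0, 0, 0), (0, 1, 14, 0), (0, 0, 6, 0), (0, 2, 6, 0), (3, 0, 3, 4), (0, 2, 17, 0), (0, 5, 23, 0), (3, 0, 6, 7), (0, 8, 9, 0)], (0, 9, 0)),
  ([(1, 0, 0, 0), (0, 1, 14, 0), (0, 0, 6, 0), (0, 2, 6, 0), (3, 0, 3, 4), (0, 2, 15, 0), (0, 5, 9, 0), (3, 0, 6, 7), (0, 8, 19, 0)], (0, 9, 0)),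
  ([(1, 0, 0, 0), (0, 1, 14, 0), (0, 2, 8, 0), (0, 2, 14, 0), (3, 0, 3, 4), (0, 5, 24, 0)], (0, 6, 0)),
  ([(1, 0, 0, 0), (0, 1, 14, 0), (0, 0, 6, 0), (0, 2, 6, 0), (3, 0, 3, 4), (0, 2, 14, 0), (0, 5, 8, 0), (3, 0, 6, 7), (0, 8, 4, 0)], (0, 9, 0)),
  ([(1, 0, 0, 0), (0, 1, 14, 0), (0, 0, 6, 0), (0, 2, 6, 0), (3, 0, 3, 4), (0, 2, 7, 0), (3, 0, 6, 5), (0, 7, 23, 0)], (0, 8, 0)),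
  ([(1, 0, 0, 0), (0, 1, 14, 0), (0, 0, 6, 0), (0, 2, 6, 0), (3, 0, 3, 4), (0, 2, 25, 0), (0, 5, 31, 0), (3, 0, 6, 7), (0, 8, 27, 0)], (0, 9, 0)),
  ([(1, 0, 0, 0), (0, 1, 14, 0), (0, 2, 7, 0), (3, 0, 2, 3), (0, 4, 2, 0)], (0, 5, 0)),
  ([(1, 0, 0, 0), (0, 1, 14, 0), (0, 2, 2, 0), (0, 2, 4, 0), (3, 0, 3, 4), (0, 5, 11, 0)], (0, 6, 0)),
  ([(1, 0, 0, 0), (0, 1, 14, 0), (0, 0, 6, 0), (0, 2, 6, 0), (3, 0, 3, 4), (0, 2, 3, 0), (0, 5, 5, 0), (3, 0, 6, 7), (0, 8, 7, 0)], (0, 9, 0)),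
  ([(1, 0, 0, 0), (0, 1, 14, 0), (0, 0, 6, 0), (0, 2, 6, 0), (3, 0, 3, 4), (0, 2, 29, 0), (0, 5, 27, 0), (3, 0, 6, 7), (0, 8, 15, 0)], (0, 9, 0)),
  ([(1, 0, 0, 0), (0, 1, 14, 0), (0, 0, 6, 0), (0, 2, 6, 0), (3, 0, 3, 4), (0, 2, 2, 0), (0, 5, 4, 0), (3, 0, 6, 7), (0, 8, 11, 0)], (0, 9, 0)),
  ([(1, 0, 0, 0), (0, 1, 14, 0), (0, 2, 25, 0), (0, 2, 31, 0), (3, 0, 3, 4), (0, 5, 27, 0)], (0, 6, 0)),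
  ([(1, 0, 0, 0), (0, 1, 14, 0), (0, 0, 6, 0), (0, 2, 6, 0), (3, 0, 3, 4), (0, 2, 21, 0), (0, 5, 19, 0), (3, 0, 6, 7), (0, 8, 13, 0)], (0, 9, 0)),
  ([(1, 0, 0, 0), (0, 1, 14, 0), (0, 2, 7, 0), (3, 0, 3, 2), (0, 4, 23, 0)], (0, 5, 0)),
  ([(1, 0, 0, 0), (0, 1, 14, 0), (0, 0, 6, 0), (0, 2, 6, 0), (3, 0, 3, 4), (0, 2, 4, 0), (0, 5, 2, 0), (3, 0, 6, 7), (0, 8, 3, 0)], (0, 9, 0)),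
  ([(1, 0, 0, 0), (0, 1, 14, 0), (0, 2, 9, 0), (0, 2, 15, 0), (3, 0, 3, 4), (0, 5, 25, 0)], (0, 6, 0)),
  ([(1, 0, 0, 0), (0, 1, 14, 0), (0, 0, 6, 0), (0, 2, 6, 0), (3, 0, 3, 4), (0, 2, 19, 0), (0, 5, 21, 0), (3, 0, 6, 7), (0, 8, 21, 0)], (0, 9, 0)),
  ([(1, 0, 0, 0), (0, 1, 14, 0), (0, 0, 6, 0), (0, 2, 6, 0), (3, 0, 3, 4), (0, 2, 13, 0), (0, 5, 11, 0), (3, 0, 6, 7), (0, 8, 6, 0)], (0, 9, 0)),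
  ([(1, 0, 0, 0), (0, 1, 14, 0), (0, 2, 13, 0), (0, 2, 11, 0), (3, 0, 3, 4), (0, 5, 6, 0)], (0, 6, 0)),
  ([(1, 0, 0, 0), (0, 1, 14, 0), (0, 2, 3, 0), (0, 2, 5, 0), (3, 0, 3, 4), (0, 5, 7, 0)], (0, 6, 0)),
  ([(1, 0, 0, 0), (0, 1, 14, 0), (0, 2, 4, 0), (0, 2, 2, 0), (3, 0, 3, 4), (0, 5, 3, 0)], (0, 6, 0)),
  ([(1, 0, 0, 0), (0, 1, 14, 0), (0, 2, 21, 0), (0, 2, 19, 0), (3, 0, 3, 4), (0, 5, 13, 0)], (0, 6, 0)),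
  ([(1, 0, 0, 0), (0, 1, 14, 0), (0, 2, 17, 0), (0, 2, 23, 0), (3, 0, 3, 4), (0, 5, 9, 0)], (0, 6, 0)),
  ([(1, 0, 0, 0), (0, 1, 14, 0), (0, 0, 6, 0), (0, 2, 6, 0), (3, 0, 3, 4), (0, 2, 8, 0), (0, 5, 14, 0), (3, 0, 6, 7), (0, 8, 24, 0)], (0, 9, 0)),
  ([(1, 0, 0, 0), (0, 1, 14, 0), (0, 0, 6, 0), (0, 2, 6, 0), (3, 0, 3, 4), (0, 5, 7, 0), (3, 0, 2, 6), (0, 7, 2, 0)], (0, 8, 0)),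
  ([(1, 0, 0, 0), (0, 1, 14, 0), (0, 2, 15, 0), (0, 2, 9, 0), (3, 0, 3, 4), (0, 5, 19, 0)], (0, 6, 0)),
  ([(1, 0, 0, 0), (0, 1, 14, 0), (0, 0, 6, 0), (0, 2, 6, 0), (3, 0, 3, 4), (0, 0, 20, 0), (0, 5, 20, 0), (3, 2, 6, 7), (0, 8, 13, 0), (0, 2, 20, 0), (0, 0, 20, 0), (3, 2, 10, 11)], (0, 12, 9)),
  ([(1, 0, 0, 0), (0, 1, 14, 0), (0, 2, 29, 0), (0, 2, 27, 0), (3, 0, 3, 4), (0, 5, 15, 0)], (0, 6, 0)),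
  ([(1, 0, 0, 0), (0, 1, 14, 0), (0, 2, 14, 0), (0, 2, 8, 0), (3, 0, 3, 4), (0, 5, 4, 0)], (0, 6, 0)),
  ([(1, 0, 0, 0), (0, 1, 14, 0), (0, 0, 6, 0), (0, 2, 6, 0), (3, 0, 3, 4), (0, 2, 9, 0), (0, 5, 15, 0), (3, 0, 6, 7), (0, 8, 25, 0)], (0, 9, 0))]

/-- Refutations, first coordinate 7. -/
def case5_4_7 : List (List (ℕ × ℕ × ℕ × ℕ) × (ℕ × ℕ × ℕ)) := [
  ([(1, 0, 0, 0), (0, 1, 12, 0), (0, 0, 7, 0), (0, 2, 7, 0), (3, 0, 3, 4), (0, 5, 21, 0)], (2, 2, 6)),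
  ([(1, 0, 0, 0), (0, 1, 12, 0), (0, 2, 13, 0), (0, 2, 10, 0), (3, 0, 3, 4), (0, 5, 5, 0)], (0, 6, 0)),
  ([(1, 0, 0, 0), (0, 1, 12, 0), (0, 0, 7, 0), (0, 2, 7, 0), (3, 0, 3, 4), (0, 5, 21, 0)], (2, 2, 6)),
  ([(1, 0, 0, 0), (0, 1, 12, 0), (0, 0, 7, 0), (0, 2, 7, 0), (3, 0, 3, 4), (0, 2, 26, 0), (0, 5, 29, 0), (3, 0, 6, 7), (0, 8, 21, 0)], (0, 9, 0)),
  ([(1, 0, 0, 0), (0, 1, 12, 0), (0, 2, 10, 0), (0, 2, 13, 0), (3, 0, 3, 4), (0, 5, 15, 0)], (0, 6, 0)),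
  ([(1, 0, 0, 0), (0, 1, 12, 0), (0, 0, 7, 0), (0, 2, 7, 0), (3, 0, 3, 4), (0, 5, 6, 0), (3, 0, 2, 6), (0, 7, 6, 0)], (0, 8, 0)),
  ([(1, 0, 0, 0), (0, 1, 12, 0), (0, 2, 26, 0), (0, 2, 29, 0), (3, 0, 3, 4), (0, 5, 21, 0)], (0, 6, 0)),
  ([(1, 0, 0, 0), (0, 1, 12, 0), (0, 0, 7, 0), (0, 2, 7, 0), (3, 0, 3, 4), (0, 2, 6, 0), (3, 0, 6, 5), (0, 7, 8, 0)], (0, 8, 0)),
  ([(1, 0, 0, 0), (0, 1, 12, 0), (0, 2, 2, 0), (0, 2, 5, 0), (3, 0, 3, 4), (0, 5, 31, 0)], (0, 6, 0)),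
  ([(1, 0, 0, 0), (0, 1, 12, 0), (0, 0, 7, 0), (0, 2, 7, 0), (3, 0, 3, 4), (0, 2, 2, 0), (0, 5, 5, 0), (3, 0, 6, 7), (0, 8, 31, 0)], (0, 9, 0)),
  ([(1, 0, 0, 0), (0, 1, 12, 0), (0, 2, 20, 0), (0, 2, 19, 0), (3, 0, 3, 4), (0, 5, 28, 0)], (0, 6, 0)),
  ([(1, 0, 0, 0), (0, 1, 12, 0), (0, 0, 7, 0), (0, 2, 7, 0), (3, 0, 3, 4), (0, 2, 5, 0), (0, 5, 2, 0), (3, 0, 6, 7), (0, 8, 17, 0)], (0, 9, 0)),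
  ([(1, 0, 0, 0), (0, 1, 12, 0), (0, 0, 7, 0), (0, 2, 7, 0), (3, 0, 3, 4), (0, 2, 4, 0), (0, 5, 3, 0), (3, 0, 6, 7), (0, 8, 9, 0)], (0, 9, 0)),
  ([(1, 0, 0, 0), (0, 1, 12, 0), (0, 2, 9, 0), (0, 2, 14, 0), (3, 0, 3, 4), (0, 5, 29, 0)], (0, 6, 0)),
  ([(1, 0, 0, 0), (0, 1, 12, 0), (0, 0, 7, 0), (0, 2, 7, 0), (3, 0, 3, 4), (0, 2, 3, 0), (0, 5, 4, 0), (3, 0, 6, 7), (0, 8, 26, 0)], (0, 9, 0)),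
  ([(1, 0, 0, 0), (0, 1, 12, 0), (0, 2, 22, 0), (0, 2, 17, 0), (3, 0, 3, 4), (0, 5, 16, 0)], (0, 6, 0)),
  ([(1, 0, 0, 0), (0, 1, 12, 0), (0, 0, 7, 0), (0, 2, 7, 0), (3, 0, 3, 4), (0, 2, 20, 0), (0, 5, 19, 0), (3, 0, 6, 7), (0, 8, 28, 0)], (0, 9, 0)),
  ([(1, 0, 0, 0), (0, 1, 12, 0), (0, 0, 7, 0), (0, 2, 7, 0), (3, 0, 3, 4), (0, 2, 14, 0), (0, 5, 9, 0), (3, 0, 6, 7), (0, 8, 14, 0)], (0, 9, 0)),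
  ([(1, 0, 0, 0), (0, 1, 12, 0), (0, 2, 5, 0), (0, 2, 2, 0), (3, 0, 3, 4), (0, 5, 17, 0)], (0, 6, 0)),
  ([(1, 0, 0, 0), (0, 1, 12, 0), (0, 0, 7, 0), (0, 2, 7, 0), (3, 0, 3, 4), (0, 2, 9, 0), (0, 5, 14, 0), (3, 0, 6, 7), (0, 8, 29, 0)], (0, 9, 0)),
  ([(1, 0, 0, 0), (0, 1, 12, 0), (0, 2, 6, 0), (3, 0, 3, 2), (0, 4, 8, 0)], (0, 5, 0)),
  ([(1, 0, 0, 0), (0, 1, 12, 0), (0, 2, 15, 0), (0, 2, 8, 0), (3, 0, 3, 4), (0, 5, 2, 0)], (0, 6, 0)),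
  ([(1, 0, 0, 0), (0, 1, 12, 0), (0, 0, 7, 0), (0, 2, 7, 0), (3, 0, 3, 4), (0, 2, 15, 0), (0, 5, 8, 0), (3, 0, 6, 7), (0, 8, 2, 0)], (0, 9, 0)),
  ([(1, 0, 0, 0), (0, 1, 12, 0), (0, 2, 6, 0), (3, 0, 2, 3), (0, 4, 6, 0)], (0, 5, 0)),
  ([(1, 0, 0, 0), (0, 1, 12, 0), (0, 0, 7, 0), (0, 2, 7, 0), (3, 0, 3, 4), (0, 2, 11, 0), (0, 5, 12, 0), (3, 0, 6, 7), (0, 8, 10, 0)], (0, 9, 0)),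
  ([(1, 0, 0, 0), (0, 1, 12, 0), (0, 2, 14, 0), (0, 2, 9, 0), (3, 0, 3, 4), (0, 5, 14, 0)], (0, 6, 0)),
  ([(1, 0, 0, 0), (0, 1, 12, 0), (0, 2, 4, 0), (0, 2, 3, 0), (3, 0, 3, 4), (0, 5, 9, 0)], (0, 6, 0)),
  ([(1, 0, 0, 0), (0, 1, 12, 0), (0, 0, 7, 0), (0, 2, 7, 0), (3, 0, 3, 4), (0, 2, 22, 0), (0, 5, 17, 0), (3, 0, 6, 7), (0, 8, 16, 0)], (0, 9, 0)),
  ([(1, 0, 0, 0), (0, 1, 12, 0), (0, 2, 11, 0), (0, 2, 12, 0), (3, 0, 3, 4), (0, 5, 10, 0)], (0, 6, 0)),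
  ([(1, 0, 0, 0), (0, 1, 12, 0), (0, 0, 7, 0), (0, 2, 7, 0), (3, 0, 3, 4), (0, 2, 13, 0), (0, 5, 10, 0), (3, 0, 6, 7), (0, 8, 5, 0)], (0, 9, 0)),
  ([(1, 0, 0, 0), (0, 1, 12, 0), (0, 2, 3, 0), (0, 2, 4, 0), (3, 0, 3, 4), (0, 5, 26, 0)], (0, 6, 0)),
  ([(1, 0, 0, 0), (0, 1, 12, 0), (0, 0, 7, 0), (0, 2, 7, 0), (3, 0, 3, 4), (0, 2, 10, 0), (0, 5, 13, 0), (3, 0, 6, 7), (0, 8, 15, 0)], (0, 9, 0))]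

/-- Refutations, first coordinate 8. -/
def case5_4_8 : List (List (ℕ × ℕ × ℕ × ℕ) × (ℕ × ℕ × ℕ)) := [
  ([(1, 0, 0, 0), (0, 1, 22, 0), (0, 0, 8, 0), (0, 2, 8, 0), (3, 0, 3, 4), (0, 0, 10, 0), (0, 5, 10, 0), (3, 2, 6, 7), (0, 8, 5, 0), (0, 2, 17, 0), (0, 9, 27, 0), (3, 2, 10, 11), (0, 2, 28, 0), (0, 12, 22, 0), (3, 2, 13, 14), (0, 2, 31, 0), (0, 15, 21, 0), (3, 2, 16, 17), (0, 5, 5, 0), (0, 18, 15, 0), (3, 2, 19, 20), (0, 21, 22, 0)], (0, 22, 18)),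
  ([(1, 0, 0, 0), (0, 1, 22, 0), (0, 2, 11, 0), (0, 2, 3, 0), (3, 0, 3, 4), (0, 5, 4, 0)], (0, 6, 0)),
  ([(1, 0, 0, 0), (0, 1, 22, 0), (0, 0, 8, 0), (0, 2, 8, 0), (3, 0, 3, 4), (0, 2, 3, 0), (0, 5, 11, 0), (3, 0, 6, 7), (0, 8, 24, 0)], (0, 9, 0)),
  ([(1, 0, 0, 0), (0, 1, 22, 0), (0, 2, 22, 0), (0, 2, 30, 0), (3, 0, 3, 4), (0, 5, 17, 0)], (0, 6, 0)),
  ([(1, 0, 0, 0), (0, 1, 22, 0), (0, 0, 8, 0), (0, 2, 8, 0), (3, 0, 3, 4), (0, 5, 9, 0), (3, 0, 2, 6), (0, 7, 5, 0)], (0, 8, 0)),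
  ([(1, 0, 0, 0), (0, 1, 22, 0), (0, 0, 8, 0), (0, 2, 8, 0), (3, 0, 3, 4), (0, 2, 24, 0), (0, 5, 16, 0), (3, 0, 6, 7), (0, 8, 29, 0)], (0, 9, 0)),
  ([(1, 0, 0, 0), (0, 1, 22, 0), (0, 2, 9, 0), (3, 0, 2, 3), (0, 4, 5, 0)], (0, 5, 0)),
  ([(1, 0, 0, 0), (0, 1, 22, 0), (0, 2, 12, 0), (0, 2, 4, 0), (3, 0, 3, 4), (0, 5, 16, 0)], (0, 6, 0)),
  ([(1, 0, 0, 0), (0, 1, 22, 0), (0, 0, 8, 0), (0, 2, 8, 0), (3, 0, 3, 4), (0, 2, 9, 0), (3, 0, 6, 5), (0, 7, 15, 0)], (0, 8, 0)),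
  ([(1, 0, 0, 0), (0, 1, 22, 0), (0, 2, 4, 0), (0, 2, 12, 0), (3, 0, 3, 4), (0, 5, 7, 0)], (0, 6, 0)),
  ([(1, 0, 0, 0), (0, 1, 22, 0), (0, 0, 8, 0), (0, 2, 8, 0), (3, 0, 3, 4), (0, 2, 2, 0), (0, 5, 10, 0), (3, 0, 6, 7), (0, 8, 21, 0)], (0, 9, 0)),
  ([(1, 0, 0, 0), (0, 1, 22, 0), (0, 2, 24, 0), (0, 2, 16, 0), (3, 0, 3, 4), (0, 5, 29, 0)], (0, 6, 0)),
  ([(1, 0, 0, 0), (0, 1, 22, 0), (0, 0, 8, 0), (0, 2, 8, 0), (3, 0, 3, 4), (0, 5, 10, 0)], (2, 2, 6)),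
  ([(1, 0, 0, 0), (0, 1, 22, 0), (0, 2, 14, 0), (0, 2, 6, 0), (3, 0, 3, 4), (0, 5, 20, 0)], (0, 6, 0)),
  ([(1, 0, 0, 0), (0, 1, 22, 0), (0, 0, 8, 0), (0, 2, 8, 0), (3, 0, 3, 4), (0, 2, 11, 0), (0, 5, 3, 0), (3, 0, 6, 7), (0, 8, 4, 0)], (0, 9, 0)),
  ([(1, 0, 0, 0), (0, 1, 22, 0), (0, 0, 8, 0), (0, 2, 8, 0), (3, 0, 3, 4), (0, 2, 18, 0), (0, 5, 26, 0), (3, 0, 6, 7), (0, 8, 28, 0)], (0, 9, 0)),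
  ([(1, 0, 0, 0), (0, 1, 22, 0), (0, 0, 8, 0), (0, 2, 8, 0), (3, 0, 3, 4), (0, 2, 12, 0), (0, 5, 4, 0), (3, 0, 6, 7), (0, 8, 16, 0)], (0, 9, 0)),
  ([(1, 0, 0, 0), (0, 1, 22, 0), (0, 0, 8, 0), (0, 2, 8, 0), (3, 0, 3, 4), (0, 2, 21, 0), (0, 5, 29, 0), (3, 0, 6, 7), (0, 8, 12, 0)], (0, 9, 0)),
  ([(1, 0, 0, 0), (0, 1, 22, 0), (0, 0, 8, 0), (0, 2, 8, 0), (3, 0, 3, 4), (0, 2, 7, 0), (0, 5, 15, 0), (3, 0, 6, 7), (0, 8, 8, 0)], (0, 9, 0)),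
  ([(1, 0, 0, 0), (0, 1, 22, 0), (0, 2, 28, 0), (0, 2, 20, 0), (3, 0, 3, 4), (0, 5, 25, 0)], (0, 6, 0)),
  ([(1, 0, 0, 0), (0, 1, 22, 0), (0, 2, 2, 0), (0, 2, 10, 0), (3, 0, 3, 4), (0, 5, 21, 0)], (0, 6, 0)),
  ([(1, 0, 0, 0), (0, 1, 22, 0), (0, 0, 8, 0), (0, 2, 8, 0), (3, 0, 3, 4), (0, 2, 28, 0), (0, 5, 20, 0), (3, 0, 6, 7), (0, 8, 25, 0)], (0, 9, 0)),
  ([(1, 0, 0, 0), (0, 1, 22, 0), (0, 0, 8, 0), (0, 2, 8, 0), (3, 0, 3, 4), (0, 2, 14, 0), (0, 5, 6, 0), (3, 0, 6, 7), (0, 8, 20, 0)], (0, 9, 0)),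
  ([(1, 0, 0, 0), (0, 1, 22, 0), (0, 2, 7, 0), (0, 2, 15, 0), (3, 0, 3, 4), (0, 5, 8, 0)], (0, 6, 0)),
  ([(1, 0, 0, 0), (0, 1, 22, 0), (0, 2, 9, 0), (3, 0, 3, 2), (0, 4, 15, 0)], (0, 5, 0)),
  ([(1, 0, 0, 0), (0, 1, 22, 0), (0, 2, 18, 0), (0, 2, 26, 0), (3, 0, 3, 4), (0, 5, 28, 0)], (0, 6, 0)),
  ([(1, 0, 0, 0), (0, 1, 22, 0), (0, 2, 3, 0), (0, 2, 11, 0), (3, 0, 3, 4), (0, 5, 24, 0)], (0, 6, 0)),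
  ([(1, 0, 0, 0), (0, 1, 22, 0), (0, 2, 21, 0), (0, 2, 29, 0), (3, 0, 3, 4), (0, 5, 12, 0)], (0, 6, 0)),
  ([(1, 0, 0, 0), (0, 1, 22, 0), (0, 0, 8, 0), (0, 2, 8, 0), (3, 0, 3, 4), (0, 2, 4, 0), (0, 5, 12, 0), (3, 0, 6, 7), (0, 8, 7, 0)], (0, 9, 0)),
  ([(1, 0, 0, 0), (0, 1, 22, 0), (0, 2, 15, 0), (0, 2, 7, 0), (3, 0, 3, 4), (0, 5, 6, 0)], (0, 6, 0)),
  ([(1, 0, 0, 0), (0, 1, 22, 0), (0, 0, 8, 0), (0, 2, 8, 0), (3, 0, 3, 4), (0, 2, 15, 0), (0, 5, 7, 0), (3, 0, 6, 7), (0, 8, 6, 0)], (0, 9, 0)),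
  ([(1, 0, 0, 0), (0, 1, 22, 0), (0, 0, 8, 0), (0, 2, 8, 0), (3, 0, 3, 4), (0, 2, 22, 0), (0, 5, 30, 0), (3, 0, 6, 7), (0, 8, 17, 0)], (0, 9, 0))]

/-- Refutations, first coordinate 9. -/
def case5_4_9 : List (List (ℕ × ℕ × ℕ × ℕ) × (ℕ × ℕ × ℕ)) := [
  ([(1, 0, 0, 0), (0, 1, 4, 0), (0, 0, 9, 0), (0, 2, 9, 0), (3, 0, 3, 4), (0, 0, 11, 0), (0, 5, 11, 0), (3, 2, 6, 7), (0, 8, 23, 0), (0, 2, 11, 0), (0, 0, 11, 0), (3, 2, 10, 11), (0, 2, 28, 0), (0, 12, 23, 0), (3, 2, 13, 14), (0, 5, 5, 0), (0, 15, 14, 0), (3, 2, 16, 17), (0, 18, 27, 0)], (0, 19, 9)),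
  ([(1, 0, 0, 0), (0, 1, 4, 0), (0, 2, 4, 0), (0, 2, 13, 0), (3, 0, 3, 4), (0, 5, 19, 0)], (0, 6, 0)),
  ([(1, 0, 0, 0), (0, 1, 4, 0), (0, 0, 9, 0), (0, 2, 9, 0), (3, 0, 3, 4), (0, 2, 3, 0), (0, 5, 10, 0), (3, 0, 6, 7), (0, 8, 6, 0)], (0, 9, 0)),
  ([(1, 0, 0, 0), (0, 1, 4, 0), (0, 2, 17, 0), (0, 2, 24, 0), (3, 0, 3, 4), (0, 5, 2, 0)], (0, 6, 0)),
  ([(1, 0, 0, 0), (0, 1, 4, 0), (0, 0, 9, 0), (0, 2, 9, 0), (3, 0, 3, 4), (0, 2, 4, 0), (0, 5, 13, 0), (3, 0, 6, 7), (0, 8, 19, 0)], (0, 9, 0)),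
  ([(1, 0, 0, 0), (0, 1, 4, 0), (0, 2, 12, 0), (0, 2, 5, 0), (3, 0, 3, 4), (0, 5, 9, 0)], (0, 6, 0)),
  ([(1, 0, 0, 0), (0, 1, 4, 0), (0, 0, 9, 0), (0, 2, 9, 0), (3, 0, 3, 4), (0, 2, 14, 0), (0, 5, 7, 0), (3, 0, 6, 7), (0, 8, 3, 0)], (0, 9, 0)),
  ([(1, 0, 0, 0), (0, 1, 4, 0), (0, 2, 8, 0), (3, 0, 3, 2), (0, 4, 22, 0)], (0, 5, 0)),
  ([(1, 0, 0, 0), (0, 1, 4, 0), (0, 2, 10, 0), (0, 2, 3, 0), (3, 0, 3, 4), (0, 5, 8, 0)], (0, 6, 0)),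
  ([(1, 0, 0, 0), (0, 1, 4, 0), (0, 0, 9, 0), (0, 2, 9, 0), (3, 0, 3, 4), (0, 2, 8, 0), (3, 0, 6, 5), (0, 7, 22, 0)], (0, 8, 0)),
  ([(1, 0, 0, 0), (0, 1, 4, 0), (0, 0, 9, 0), (0, 2, 9, 0), (3, 0, 3, 4), (0, 2, 18, 0), (0, 5, 27, 0), (3, 0, 6, 7), (0, 8, 14, 0)], (0, 9, 0)),
  ([(1, 0, 0, 0), (0, 1, 4, 0), (0, 0, 9, 0), (0, 2, 9, 0), (3, 0, 3, 4), (0, 2, 2, 0), (0, 5, 11, 0), (3, 0, 6, 7), (0, 8, 13, 0)], (0, 9, 0)),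
  ([(1, 0, 0, 0), (0, 1, 4, 0), (0, 2, 5, 0), (0, 2, 12, 0), (3, 0, 3, 4), (0, 5, 26, 0)], (0, 6, 0)),
  ([(1, 0, 0, 0), (0, 1, 4, 0), (0, 0, 9, 0), (0, 2, 9, 0), (3, 0, 3, 4), (0, 2, 5, 0), (0, 5, 12, 0), (3, 0, 6, 7), (0, 8, 26, 0)], (0, 9, 0)),
  ([(1, 0, 0, 0), (0, 1, 4, 0), (0, 2, 14, 0), (0, 2, 7, 0), (3, 0, 3, 4), (0, 5, 3, 0)], (0, 6, 0)),
  ([(1, 0, 0, 0), (0, 1, 4, 0), (0, 0, 9, 0), (0, 2, 9, 0), (3, 0, 3, 4), (0, 2, 15, 0), (0, 5, 6, 0), (3, 0, 6, 7), (0, 8, 17, 0)], (0, 9, 0)),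
  ([(1, 0, 0, 0), (0, 1, 4, 0), (0, 0, 9, 0), (0, 2, 9, 0), (3, 0, 3, 4), (0, 2, 7, 0), (0, 5, 14, 0), (3, 0, 6, 7), (0, 8, 11, 0)], (0, 9, 0)),
  ([(1, 0, 0, 0), (0, 1, 4, 0), (0, 2, 2, 0), (0, 2, 11, 0), (3, 0, 3, 4), (0, 5, 13, 0)], (0, 6, 0)),
  ([(1, 0, 0, 0), (0, 1, 4, 0), (0, 2, 6, 0), (0, 2, 15, 0), (3, 0, 3, 4), (0, 5, 31, 0)], (0, 6, 0)),
  ([(1, 0, 0, 0), (0, 1, 4, 0), (0, 2, 28, 0), (0, 2, 21, 0), (3, 0, 3, 4), (0, 5, 24, 0)], (0, 6, 0)),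
  ([(1, 0, 0, 0), (0, 1, 4, 0), (0, 0, 9, 0), (0, 2, 9, 0), (3, 0, 3, 4), (0, 2, 10, 0), (0, 5, 3, 0), (3, 0, 6, 7), (0, 8, 8, 0)], (0, 9, 0)),
  ([(1, 0, 0, 0), (0, 1, 4, 0), (0, 2, 3, 0), (0, 2, 10, 0), (3, 0, 3, 4), (0, 5, 6, 0)], (0, 6, 0)),
  ([(1, 0, 0, 0), (0, 1, 4, 0), (0, 0, 9, 0), (0, 2, 9, 0), (3, 0, 3, 4), (0, 5, 11, 0)], (2, 2, 6)),
  ([(1, 0, 0, 0), (0, 1, 4, 0), (0, 2, 15, 0), (0, 2, 6, 0), (3, 0, 3, 4), (0, 5, 17, 0)], (0, 6, 0)),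
  ([(1, 0, 0, 0), (0, 1, 4, 0), (0, 2, 18, 0), (0, 2, 27, 0), (3, 0, 3, 4), (0, 5, 14, 0)], (0, 6, 0)),
  ([(1, 0, 0, 0), (0, 1, 4, 0), (0, 0, 9, 0), (0, 2, 9, 0), (3, 0, 3, 4), (0, 2, 6, 0), (0, 5, 15, 0), (3, 0, 6, 7), (0, 8, 31, 0)], (0, 9, 0)),
  ([(1, 0, 0, 0), (0, 1, 4, 0), (0, 0, 9, 0), (0, 2, 9, 0), (3, 0, 3, 4), (0, 2, 28, 0), (0, 5, 21, 0), (3, 0, 6, 7), (0, 8, 24, 0)], (0, 9, 0)),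
  ([(1, 0, 0, 0), (0, 1, 4, 0), (0, 0, 9, 0), (0, 2, 9, 0), (3, 0, 3, 4), (0, 2, 12, 0), (0, 5, 5, 0), (3, 0, 6, 7), (0, 8, 9, 0)], (0, 9, 0)),
  ([(1, 0, 0, 0), (0, 1, 4, 0), (0, 2, 7, 0), (0, 2, 14, 0), (3, 0, 3, 4), (0, 5, 11, 0)], (0, 6, 0)),
  ([(1, 0, 0, 0), (0, 1, 4, 0), (0, 2, 8, 0), (3, 0, 2, 3), (0, 4, 30, 0)], (0, 5, 0)),
  ([(1, 0, 0, 0), (0, 1, 4, 0), (0, 0, 9, 0), (0, 2, 9, 0), (3, 0, 3, 4), (0, 2, 17, 0), (0, 5, 24, 0), (3, 0, 6, 7), (0, 8, 2, 0)], (0, 9, 0)),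
  ([(1, 0, 0, 0), (0, 1, 4, 0), (0, 0, 9, 0), (0, 2, 9, 0), (3, 0, 3, 4), (0, 5, 8, 0), (3, 0, 2, 6), (0, 7, 30, 0)], (0, 8, 0))]

/-- Refutations, first coordinate 10. -/
def case5_4_10 : List (List (ℕ × ℕ × ℕ × ℕ) × (ℕ × ℕ × ℕ)) := [
  ([(1, 0, 0, 0), (0, 1, 25, 0), (0, 0, 10, 0), (0, 2, 10, 0), (3, 0, 3, 4), (0, 0, 14, 0), (0, 5, 14, 0), (3, 2, 6, 7), (0, 8, 17, 0), (0, 2, 12, 0), (0, 9, 2, 0), (3, 2, 10, 11), (0, 5, 3, 0), (0, 12, 13, 0), (3, 2, 13, 14), (0, 15, 12, 0), (0, 5, 5, 0), (0, 9, 11, 0), (3, 2, 17, 18), (0, 19, 28, 0)], (0, 20, 16)),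
  ([(1, 0, 0, 0), (0, 1, 25, 0), (0, 0, 10, 0), (0, 2, 10, 0), (3, 0, 3, 4), (0, 2, 12, 0), (0, 5, 6, 0), (3, 0, 6, 7), (0, 8, 3, 0)], (0, 9, 0)),
  ([(1, 0, 0, 0), (0, 1, 25, 0), (0, 0, 10, 0), (0, 2, 10, 0), (3, 0, 3, 4), (0, 2, 18, 0), (0, 5, 24, 0), (3, 0, 6, 7), (0, 8, 4, 0)], (0, 9, 0)),
  ([(1, 0, 0, 0), (0, 1, 25, 0), (0, 2, 5, 0), (0, 2, 15, 0), (3, 0, 3, 4), (0, 5, 7, 0)], (0, 6, 0)),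
  ([(1, 0, 0, 0), (0, 1, 25, 0), (0, 0, 10, 0), (0, 2, 10, 0), (3, 0, 3, 4), (0, 2, 5, 0), (0, 5, 15, 0), (3, 0, 6, 7), (0, 8, 7, 0)], (0, 9, 0)),
  ([(1, 0, 0, 0), (0, 1, 25, 0), (0, 0, 10, 0), (0, 2, 10, 0), (3, 0, 3, 4), (0, 2, 3, 0), (0, 5, 9, 0), (3, 0, 6, 7), (0, 8, 2, 0)], (0, 9, 0)),
  ([(1, 0, 0, 0), (0, 1, 25, 0), (0, 2, 9, 0), (0, 2, 3, 0), (3, 0, 3, 4), (0, 5, 23, 0)], (0, 6, 0)),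
  ([(1, 0, 0, 0), (0, 1, 25, 0), (0, 2, 11, 0), (3, 0, 3, 2), (0, 4, 31, 0)], (0, 5, 0)),
  ([(1, 0, 0, 0), (0, 1, 25, 0), (0, 0, 10, 0), (0, 2, 10, 0), (3, 0, 3, 4), (0, 2, 19, 0), (0, 5, 25, 0), (3, 0, 6, 7), (0, 8, 18, 0)], (0, 9, 0)),
  ([(1, 0, 0, 0), (0, 1, 25, 0), (0, 0, 10, 0), (0, 2, 10, 0), (3, 0, 3, 4), (0, 2, 21, 0), (0, 5, 31, 0), (3, 0, 6, 7), (0, 8, 10, 0)], (0, 9, 0)),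
  ([(1, 0, 0, 0), (0, 1, 25, 0), (0, 0, 10, 0), (0, 2, 10, 0), (3, 0, 3, 4), (0, 2, 11, 0), (3, 0, 6, 5), (0, 7, 31, 0)], (0, 8, 0)),
  ([(1, 0, 0, 0), (0, 1, 25, 0), (0, 0, 10, 0), (0, 2, 10, 0), (3, 0, 3, 4), (0, 2, 13, 0), (0, 5, 7, 0), (3, 0, 6, 7), (0, 8, 30, 0)], (0, 9, 0)),
  ([(1, 0, 0, 0), (0, 1, 25, 0), (0, 2, 18, 0), (0, 2, 24, 0), (3, 0, 3, 4), (0, 5, 4, 0)], (0, 6, 0)),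
  ([(1, 0, 0, 0), (0, 1, 25, 0), (0, 2, 8, 0), (0, 2, 2, 0), (3, 0, 3, 4), (0, 5, 5, 0)], (0, 6, 0)),
  ([(1, 0, 0, 0), (0, 1, 25, 0), (0, 0, 10, 0), (0, 2, 10, 0), (3, 0, 3, 4), (0, 2, 4, 0), (0, 5, 14, 0), (3, 0, 6, 7), (0, 8, 28, 0)], (0, 9, 0)),
  ([(1, 0, 0, 0), (0, 1, 25, 0), (0, 0, 10, 0), (0, 2, 10, 0), (3, 0, 3, 4), (0, 2, 2, 0), (0, 5, 8, 0), (3, 0, 6, 7), (0, 8, 15, 0)], (0, 9, 0)),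
  ([(1, 0, 0, 0), (0, 1, 25, 0), (0, 0, 10, 0), (0, 2, 10, 0), (3, 0, 3, 4), (0, 5, 11, 0), (3, 0, 2, 6), (0, 7, 17, 0)], (0, 8, 0)),
  ([(1, 0, 0, 0), (0, 1, 25, 0), (0, 2, 2, 0), (0, 2, 8, 0), (3, 0, 3, 4), (0, 5, 15, 0)], (0, 6, 0)),
  ([(1, 0, 0, 0), (0, 1, 25, 0), (0, 2, 3, 0), (0, 2, 9, 0), (3, 0, 3, 4), (0, 5, 2, 0)], (0, 6, 0)),
  ([(1, 0, 0, 0), (0, 1, 25, 0), (0, 2, 22, 0), (0, 2, 28, 0), (3, 0, 3, 4), (0, 5, 9, 0)], (0, 6, 0)),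
  ([(1, 0, 0, 0), (0, 1, 25, 0), (0, 2, 11, 0), (3, 0, 2, 3), (0, 4, 17, 0)], (0, 5, 0)),
  ([(1, 0, 0, 0), (0, 1, 25, 0), (0, 0, 10, 0), (0, 2, 10, 0), (3, 0, 3, 4), (0, 2, 8, 0), (0, 5, 2, 0), (3, 0, 6, 7), (0, 8, 5, 0)], (0, 9, 0)),
  ([(1, 0, 0, 0), (0, 1, 25, 0), (0, 0, 10, 0), (0, 2, 10, 0), (3, 0, 3, 4), (0, 2, 22, 0), (0, 5, 28, 0), (3, 0, 6, 7), (0, 8, 9, 0)], (0, 9, 0)),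
  ([(1, 0, 0, 0), (0, 1, 25, 0), (0, 2, 13, 0), (0, 2, 7, 0), (3, 0, 3, 4), (0, 5, 30, 0)], (0, 6, 0)),
  ([(1, 0, 0, 0), (0, 1, 25, 0), (0, 2, 21, 0), (0, 2, 31, 0), (3, 0, 3, 4), (0, 5, 10, 0)], (0, 6, 0)),
  ([(1, 0, 0, 0), (0, 1, 25, 0), (0, 2, 6, 0), (0, 2, 12, 0), (3, 0, 3, 4), (0, 5, 11, 0)], (0, 6, 0)),
  ([(1, 0, 0, 0), (0, 1, 25, 0), (0, 0, 10, 0), (0, 2, 10, 0), (3, 0, 3, 4), (0, 5, 14, 0)], (2, 2, 6)),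
  ([(1, 0, 0, 0), (0, 1, 25, 0), (0, 0, 10, 0), (0, 2, 10, 0), (3, 0, 3, 4), (0, 2, 6, 0), (0, 5, 12, 0), (3, 0, 6, 7), (0, 8, 11, 0)], (0, 9, 0)),
  ([(1, 0, 0, 0), (0, 1, 25, 0), (0, 2, 19, 0), (0, 2, 25, 0), (3, 0, 3, 4), (0, 5, 18, 0)], (0, 6, 0)),
  ([(1, 0, 0, 0), (0, 1, 25, 0), (0, 2, 4, 0), (0, 2, 14, 0), (3, 0, 3, 4), (0, 5, 28, 0)], (0, 6, 0)),
  ([(1, 0, 0, 0), (0, 1, 25, 0), (0, 2, 12, 0), (0, 2, 6, 0), (3, 0, 3, 4), (0, 5, 3, 0)], (0, 6, 0)),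
  ([(1, 0, 0, 0), (0, 1, 25, 0), (0, 0, 10, 0), (0, 2, 10, 0), (3, 0, 3, 4), (0, 2, 9, 0), (0, 5, 3, 0), (3, 0, 6, 7), (0, 8, 23, 0)], (0, 9, 0))]

/-- Refutations, first coordinate 11. -/
def case5_4_11 : List (List (ℕ × ℕ × ℕ × ℕ) × (ℕ × ℕ × ℕ)) := [
  ([(1, 0, 0, 0), (0, 1, 16, 0), (0, 0, 11, 0), (0, 2, 11, 0), (3, 0, 3, 4), (0, 0, 15, 0), (0, 5, 15, 0), (3, 2, 6, 7), (0, 8, 24, 0), (0, 0, 23, 0), (0, 9, 15, 0), (3, 2, 10, 11), (0, 12, 28, 0), (0, 2, 21, 0), (0, 9, 26, 0), (3, 2, 14, 15), (0, 2, 31, 0), (0, 13, 16, 0), (3, 2, 17, 18), (0, 5, 8, 0), (0, 16, 7, 0), (3, 2, 20, 21), (0, 22, 27, 0)], (0, 23, 19)),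
  ([(1, 0, 0, 0), (0, 1, 16, 0), (0, 0, 11, 0), (0, 2, 11, 0), (3, 0, 3, 4), (0, 2, 6, 0), (0, 5, 13, 0), (3, 0, 6, 7), (0, 8, 23, 0)], (0, 9, 0)),
  ([(1, 0, 0, 0), (0, 1, 16, 0), (0, 0, 11, 0), (0, 2, 11, 0), (3, 0, 3, 4), (0, 2, 26, 0), (0, 5, 17, 0), (3, 0, 6, 7), (0, 8, 11, 0)], (0, 9, 0)),
  ([(1, 0, 0, 0), (0, 1, 16, 0), (0, 2, 22, 0), (0, 2, 29, 0), (3, 0, 3, 4), (0, 5, 14, 0)], (0, 6, 0)),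
  ([(1, 0, 0, 0), (0, 1, 16, 0), (0, 2, 3, 0), (0, 2, 8, 0), (3, 0, 3, 4), (0, 5, 9, 0)], (0, 6, 0)),
  ([(1, 0, 0, 0), (0, 1, 16, 0), (0, 0, 11, 0), (0, 2, 11, 0), (3, 0, 3, 4), (0, 2, 8, 0), (0, 5, 3, 0), (3, 0, 6, 7), (0, 8, 26, 0)], (0, 9, 0)),
  ([(1, 0, 0, 0), (0, 1, 16, 0), (0, 0, 11, 0), (0, 2, 11, 0), (3, 0, 3, 4), (0, 2, 20, 0), (0, 5, 31, 0), (3, 0, 6, 7), (0, 8, 18, 0)], (0, 9, 0)),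
  ([(1, 0, 0, 0), (0, 1, 16, 0), (0, 2, 9, 0), (0, 2, 2, 0), (3, 0, 3, 4), (0, 5, 30, 0)], (0, 6, 0)),
  ([(1, 0, 0, 0), (0, 1, 16, 0), (0, 0, 11, 0), (0, 2, 11, 0), (3, 0, 3, 4), (0, 2, 22, 0), (0, 5, 29, 0), (3, 0, 6, 7), (0, 8, 14, 0)], (0, 9, 0)),
  ([(1, 0, 0, 0), (0, 1, 16, 0), (0, 2, 20, 0), (0, 2, 31, 0), (3, 0, 3, 4), (0, 5, 18, 0)], (0, 6, 0)),
  ([(1, 0, 0, 0), (0, 1, 16, 0), (0, 0, 11, 0), (0, 2, 11, 0), (3, 0, 3, 4), (0, 2, 7, 0), (0, 5, 12, 0), (3, 0, 6, 7), (0, 8, 24, 0)], (0, 9, 0)),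
  ([(1, 0, 0, 0), (0, 1, 16, 0), (0, 0, 11, 0), (0, 2, 11, 0), (3, 0, 3, 4), (0, 2, 10, 0), (3, 0, 6, 5), (0, 7, 25, 0)], (0, 8, 0)),
  ([(1, 0, 0, 0), (0, 1, 16, 0), (0, 2, 4, 0), (0, 2, 15, 0), (3, 0, 3, 4), (0, 5, 27, 0)], (0, 6, 0)),
  ([(1, 0, 0, 0), (0, 1, 16, 0), (0, 2, 2, 0), (0, 2, 9, 0), (3, 0, 3, 4), (0, 5, 22, 0)], (0, 6, 0)),
  ([(1, 0, 0, 0), (0, 1, 16, 0), (0, 0, 11, 0), (0, 2, 11, 0), (3, 0, 3, 4), (0, 2, 9, 0), (0, 5, 2, 0), (3, 0, 6, 7), (0, 8, 30, 0)], (0, 9, 0)),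
  ([(1, 0, 0, 0), (0, 1, 16, 0), (0, 0, 11, 0), (0, 2, 11, 0), (3, 0, 3, 4), (0, 2, 4, 0), (0, 5, 15, 0), (3, 0, 6, 7), (0, 8, 27, 0)], (0, 9, 0)),
  ([(1, 0, 0, 0), (0, 1, 16, 0), (0, 2, 6, 0), (0, 2, 13, 0), (3, 0, 3, 4), (0, 5, 23, 0)], (0, 6, 0)),
  ([(1, 0, 0, 0), (0, 1, 16, 0), (0, 2, 26, 0), (0, 2, 17, 0), (3, 0, 3, 4), (0, 5, 11, 0)], (0, 6, 0)),
  ([(1, 0, 0, 0), (0, 1, 16, 0), (0, 0, 11, 0), (0, 2, 11, 0), (3, 0, 3, 4), (0, 5, 10, 0), (3, 0, 2, 6), (0, 7, 19, 0)], (0, 8, 0)),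
  ([(1, 0, 0, 0), (0, 1, 16, 0), (0, 2, 8, 0), (0, 2, 3, 0), (3, 0, 3, 4), (0, 5, 26, 0)], (0, 6, 0)),
  ([(1, 0, 0, 0), (0, 1, 16, 0), (0, 2, 18, 0), (0, 2, 25, 0), (3, 0, 3, 4), (0, 5, 13, 0)], (0, 6, 0)),
  ([(1, 0, 0, 0), (0, 1, 16, 0), (0, 2, 10, 0), (3, 0, 3, 2), (0, 4, 25, 0)], (0, 5, 0)),
  ([(1, 0, 0, 0), (0, 1, 16, 0), (0, 2, 10, 0), (3, 0, 2, 3), (0, 4, 19, 0)], (0, 5, 0)),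
  ([(1, 0, 0, 0), (0, 1, 16, 0), (0, 0, 11, 0), (0, 2, 11, 0), (3, 0, 3, 4), (0, 2, 2, 0), (0, 5, 9, 0), (3, 0, 6, 7), (0, 8, 22, 0)], (0, 9, 0)),
  ([(1, 0, 0, 0), (0, 1, 16, 0), (0, 0, 11, 0), (0, 2, 11, 0), (3, 0, 3, 4), (0, 2, 13, 0), (0, 5, 6, 0), (3, 0, 6, 7), (0, 8, 2, 0)], (0, 9, 0)),
  ([(1, 0, 0, 0), (0, 1, 16, 0), (0, 0, 11, 0), (0, 2, 11, 0), (3, 0, 3, 4), (0, 0, 15, 0), (0, 5, 15, 0), (3, 2, 6, 7), (0, 8, 24, 0), (0, 0, 16, 0), (0, 9, 15, 0), (3, 2, 10, 11), (0, 12, 6, 0), (0, 2, 25, 0), (0, 13, 22, 0), (3, 2, 14, 15), (0, 5, 4, 0), (0, 16, 11, 0), (3, 2, 17, 18), (0, 19, 17, 0)], (0, 20, 2)),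
  ([(1, 0, 0, 0), (0, 1, 16, 0), (0, 2, 17, 0), (0, 2, 26, 0), (3, 0, 3, 4), (0, 5, 3, 0)], (0, 6, 0)),
  ([(1, 0, 0, 0), (0, 1, 16, 0), (0, 0, 11, 0), (0, 2, 11, 0), (3, 0, 3, 4), (0, 2, 17, 0), (0, 5, 26, 0), (3, 0, 6, 7), (0, 8, 3, 0)], (0, 9, 0)),
  ([(1, 0, 0, 0), (0, 1, 16, 0), (0, 0, 11, 0), (0, 2, 11, 0), (3, 0, 3, 4), (0, 2, 3, 0), (0, 5, 8, 0), (3, 0, 6, 7), (0, 8, 9, 0)], (0, 9, 0)),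
  ([(1, 0, 0, 0), (0, 1, 16, 0), (0, 2, 7, 0), (0, 2, 12, 0), (3, 0, 3, 4), (0, 5, 24, 0)], (0, 6, 0)),
  ([(1, 0, 0, 0), (0, 1, 16, 0), (0, 0, 11, 0), (0, 2, 11, 0), (3, 0, 3, 4), (0, 2, 18, 0), (0, 5, 25, 0), (3, 0, 6, 7), (0, 8, 13, 0)], (0, 9, 0)),
  ([(1, 0, 0, 0), (0, 1, 16, 0), (0, 2, 13, 0), (0, 2, 6, 0), (3, 0, 3, 4), (0, 5, 2, 0)], (0, 6, 0))]

/-- Refutations, first coordinate 12. -/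
def case5_4_12 : List (List (ℕ × ℕ × ℕ × ℕ) × (ℕ × ℕ × ℕ)) := [
  ([(1, 0, 0, 0), (0, 1, 7, 0), (0, 0, 12, 0), (0, 2, 12, 0), (3, 0, 3, 4), (0, 5, 26, 0)], (2, 2, 6)),
  ([(1, 0, 0, 0), (0, 1, 7, 0), (0, 0, 12, 0), (0, 2, 12, 0), (3, 0, 3, 4), (0, 2, 25, 0), (0, 5, 21, 0), (3, 0, 6, 7), (0, 8, 22, 0)], (0, 9, 0)),
  ([(1, 0, 0, 0), (0, 1, 7, 0), (0, 2, 17, 0), (0, 2, 29, 0), (3, 0, 3, 4), (0, 5, 31, 0)], (0, 6, 0)),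
  ([(1, 0, 0, 0), (0, 1, 7, 0), (0, 0, 12, 0), (0, 2, 12, 0), (3, 0, 3, 4), (0, 2, 7, 0), (0, 5, 11, 0), (3, 0, 6, 7), (0, 8, 9, 0)], (0, 9, 0)),
  ([(1, 0, 0, 0), (0, 1, 7, 0), (0, 0, 12, 0), (0, 2, 12, 0), (3, 0, 3, 4), (0, 2, 27, 0), (0, 5, 23, 0), (3, 0, 6, 7), (0, 8, 28, 0)], (0, 9, 0)),
  ([(1, 0, 0, 0), (0, 1, 7, 0), (0, 0, 12, 0), (0, 2, 12, 0), (3, 0, 3, 4), (0, 2, 14, 0), (0, 5, 2, 0), (3, 0, 6, 7), (0, 8, 23, 0)], (0, 9, 0)),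
  ([(1, 0, 0, 0), (0, 1, 7, 0), (0, 0, 12, 0), (0, 2, 12, 0), (3, 0, 3, 4), (0, 2, 5, 0), (0, 5, 9, 0), (3, 0, 6, 7), (0, 8, 10, 0)], (0, 9, 0)),
  ([(1, 0, 0, 0), (0, 1, 7, 0), (0, 2, 5, 0), (0, 2, 9, 0), (3, 0, 3, 4), (0, 5, 10, 0)], (0, 6, 0)),
  ([(1, 0, 0, 0), (0, 1, 7, 0), (0, 2, 13, 0), (3, 0, 2, 3), (0, 4, 18, 0)], (0, 5, 0)),
  ([(1, 0, 0, 0), (0, 1, 7, 0), (0, 0, 12, 0), (0, 2, 12, 0), (3, 0, 3, 4), (0, 2, 15, 0), (0, 5, 3, 0), (3, 0, 6, 7), (0, 8, 13, 0)], (0, 9, 0)),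
  ([(1, 0, 0, 0), (0, 1, 7, 0), (0, 0, 12, 0), (0, 2, 12, 0), (3, 0, 3, 4), (0, 2, 4, 0), (0, 5, 8, 0), (3, 0, 6, 7), (0, 8, 11, 0)], (0, 9, 0)),
  ([(1, 0, 0, 0), (0, 1, 7, 0), (0, 0, 12, 0), (0, 2, 12, 0), (3, 0, 3, 4), (0, 2, 17, 0), (0, 5, 29, 0), (3, 0, 6, 7), (0, 8, 31, 0)], (0, 9, 0)),
  ([(1, 0, 0, 0), (0, 1, 7, 0), (0, 2, 2, 0), (0, 2, 14, 0), (3, 0, 3, 4), (0, 5, 2, 0)], (0, 6, 0)),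
  ([(1, 0, 0, 0), (0, 1, 7, 0), (0, 2, 6, 0), (0, 2, 10, 0), (3, 0, 3, 4), (0, 5, 7, 0)], (0, 6, 0)),
  ([(1, 0, 0, 0), (0, 1, 7, 0), (0, 2, 15, 0), (0, 2, 3, 0), (3, 0, 3, 4), (0, 5, 13, 0)], (0, 6, 0)),
  ([(1, 0, 0, 0), (0, 1, 7, 0), (0, 0, 12, 0), (0, 2, 12, 0), (3, 0, 3, 4), (0, 2, 6, 0), (0, 5, 10, 0), (3, 0, 6, 7), (0, 8, 7, 0)], (0, 9, 0)),
  ([(1, 0, 0, 0), (0, 1, 7, 0), (0, 2, 27, 0), (0, 2, 23, 0), (3, 0, 3, 4), (0, 5, 28, 0)], (0, 6, 0)),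
  ([(1, 0, 0, 0), (0, 1, 7, 0), (0, 0, 12, 0), (0, 2, 12, 0), (3, 0, 3, 4), (0, 2, 11, 0), (0, 5, 7, 0), (3, 0, 6, 7), (0, 8, 26, 0)], (0, 9, 0)),
  ([(1, 0, 0, 0), (0, 1, 7, 0), (0, 0, 12, 0), (0, 2, 12, 0), (3, 0, 3, 4), (0, 2, 26, 0), (0, 0, 26, 0), (3, 2, 6, 7), (0, 5, 10, 0), (0, 8, 16, 0), (3, 2, 9, 10), (0, 11, 3, 0), (0, 5, 12, 0), (0, 12, 22, 0), (3, 2, 13, 14), (0, 15, 6, 0)], (0, 16, 0)),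
  ([(1, 0, 0, 0), (0, 1, 7, 0), (0, 2, 3, 0), (0, 2, 15, 0), (3, 0, 3, 4), (0, 5, 21, 0)], (0, 6, 0)),
  ([(1, 0, 0, 0), (0, 1, 7, 0), (0, 2, 7, 0), (0, 2, 11, 0), (3, 0, 3, 4), (0, 5, 9, 0)], (0, 6, 0)),
  ([(1, 0, 0, 0), (0, 1, 7, 0), (0, 2, 11, 0), (0, 2, 7, 0), (3, 0, 3, 4), (0, 5, 26, 0)], (0, 6, 0)),
  ([(1, 0, 0, 0), (0, 1, 7, 0), (0, 0, 12, 0), (0, 2, 12, 0), (3, 0, 3, 4), (0, 2, 23, 0), (0, 5, 27, 0), (3, 0, 6, 7), (0, 8, 27, 0)], (0, 9, 0)),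
  ([(1, 0, 0, 0), (0, 1, 7, 0), (0, 0, 12, 0), (0, 2, 12, 0), (3, 0, 3, 4), (0, 2, 2, 0), (0, 5, 14, 0), (3, 0, 6, 7), (0, 8, 2, 0)], (0, 9, 0)),
  ([(1, 0, 0, 0), (0, 1, 7, 0), (0, 0, 12, 0), (0, 2, 12, 0), (3, 0, 3, 4), (0, 2, 8, 0), (0, 5, 4, 0), (3, 0, 6, 7), (0, 8, 3, 0)], (0, 9, 0)),
  ([(1, 0, 0, 0), (0, 1, 7, 0), (0, 2, 23, 0), (0, 2, 27, 0), (3, 0, 3, 4), (0, 5, 27, 0)], (0, 6, 0)),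
  ([(1, 0, 0, 0), (0, 1, 7, 0), (0, 2, 14, 0), (0, 2, 2, 0), (3, 0, 3, 4), (0, 5, 23, 0)], (0, 6, 0)),
  ([(1, 0, 0, 0), (0, 1, 7, 0), (0, 0, 12, 0), (0, 2, 12, 0), (3, 0, 3, 4), (0, 2, 3, 0), (0, 5, 15, 0), (3, 0, 6, 7), (0, 8, 21, 0)], (0, 9, 0)),
  ([(1, 0, 0, 0), (0, 1, 7, 0), (0, 2, 25, 0), (0, 2, 21, 0), (3, 0, 3, 4), (0, 5, 22, 0)], (0, 6, 0)),
  ([(1, 0, 0, 0), (0, 1, 7, 0), (0, 2, 8, 0), (0, 2, 4, 0), (3, 0, 3, 4), (0, 5, 3, 0)], (0, 6, 0)),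
  ([(1, 0, 0, 0), (0, 1, 7, 0), (0, 0, 12, 0), (0, 2, 12, 0), (3, 0, 3, 4), (0, 5, 13, 0), (3, 0, 2, 6), (0, 7, 18, 0)], (0, 8, 0)),
  ([(1, 0, 0, 0), (0, 1, 7, 0), (0, 2, 4, 0), (0, 2, 8, 0), (3, 0, 3, 4), (0, 5, 11, 0)], (0, 6, 0))]

/-- Refutations, first coordinate 13. -/
def case5_4_13 : List (List (ℕ × ℕ × ℕ × ℕ) × (ℕ × ℕ × ℕ)) := [
  ([(1, 0, 0, 0), (0, 1, 15, 0), (0, 0, 13, 0), (0, 2, 13, 0), (3, 0, 3, 4), (0, 0, 27, 0), (0, 5, 27, 0), (3, 2, 6, 7), (0, 8, 6, 0), (0, 5, 6, 0), (0, 9, 29, 0), (3, 2, 10, 11), (0, 12, 15, 0), (0, 5, 13, 0), (0, 13, 22, 0), (3, 2, 14, 15), (0, 16, 8, 0)], (0, 17, 0)),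
  ([(1, 0, 0, 0), (0, 1, 15, 0), (0, 0, 13, 0), (0, 2, 13, 0), (3, 0, 3, 4), (0, 2, 18, 0), (0, 5, 31, 0), (3, 0, 6, 7), (0, 8, 9, 0)], (0, 9, 0)),
  ([(1, 0, 0, 0), (0, 1, 15, 0), (0, 2, 15, 0), (0, 2, 2, 0), (3, 0, 3, 4), (0, 5, 24, 0)], (0, 6, 0)),
  ([(1, 0, 0, 0), (0, 1, 15, 0), (0, 0, 13, 0), (0, 2, 13, 0), (3, 0, 3, 4), (0, 5, 12, 0), (3, 0, 2, 6), (0, 7, 23, 0)], (0, 8, 0)),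
  ([(1, 0, 0, 0), (0, 1, 15, 0), (0, 0, 13, 0), (0, 2, 13, 0), (3, 0, 3, 4), (0, 2, 11, 0), (0, 5, 6, 0), (3, 0, 6, 7), (0, 8, 12, 0)], (0, 9, 0)),
  ([(1, 0, 0, 0), (0, 1, 15, 0), (0, 0, 13, 0), (0, 2, 13, 0), (3, 0, 3, 4), (0, 2, 20, 0), (0, 5, 25, 0), (3, 0, 6, 7), (0, 8, 7, 0)], (0, 9, 0)),
  ([(1, 0, 0, 0), (0, 1, 15, 0), (0, 2, 23, 0), (0, 2, 26, 0), (3, 0, 3, 4), (0, 5, 29, 0)], (0, 6, 0)),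
  ([(1, 0, 0, 0), (0, 1, 15, 0), (0, 2, 5, 0), (0, 2, 8, 0), (3, 0, 3, 4), (0, 5, 5, 0)], (0, 6, 0)),
  ([(1, 0, 0, 0), (0, 1, 15, 0), (0, 0, 13, 0), (0, 2, 13, 0), (3, 0, 3, 4), (0, 2, 21, 0), (0, 5, 24, 0), (3, 0, 6, 7), (0, 8, 3, 0)], (0, 9, 0)),
  ([(1, 0, 0, 0), (0, 1, 15, 0), (0, 0, 13, 0), (0, 2, 13, 0), (3, 0, 3, 4), (0, 2, 10, 0), (0, 5, 7, 0), (3, 0, 6, 7), (0, 8, 21, 0)], (0, 9, 0)),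
  ([(1, 0, 0, 0), (0, 1, 15, 0), (0, 0, 13, 0), (0, 2, 13, 0), (3, 0, 3, 4), (0, 2, 6, 0), (0, 5, 11, 0), (3, 0, 6, 7), (0, 8, 18, 0)], (0, 9, 0)),
  ([(1, 0, 0, 0), (0, 1, 15, 0), (0, 2, 21, 0), (0, 2, 24, 0), (3, 0, 3, 4), (0, 5, 3, 0)], (0, 6, 0)),
  ([(1, 0, 0, 0), (0, 1, 15, 0), (0, 2, 18, 0), (0, 2, 31, 0), (3, 0, 3, 4), (0, 5, 9, 0)], (0, 6, 0)),
  ([(1, 0, 0, 0), (0, 1, 15, 0), (0, 2, 11, 0), (0, 2, 6, 0), (3, 0, 3, 4), (0, 5, 12, 0)], (0, 6, 0)),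
  ([(1, 0, 0, 0), (0, 1, 15, 0), (0, 0, 13, 0), (0, 2, 13, 0), (3, 0, 3, 4), (0, 0, 27, 0), (0, 5, 27, 0), (3, 2, 6, 7), (0, 8, 6, 0), (0, 5, 4, 0), (0, 9, 31, 0), (3, 2, 10, 11), (0, 12, 16, 0), (0, 5, 7, 0), (0, 13, 28, 0), (3, 2, 14, 15), (0, 16, 5, 0), (0, 5, 9, 0), (0, 17, 18, 0), (3, 2, 18, 19), (0, 20, 11, 0), (0, 5, 17, 0), (0, 21, 10, 0), (3, 2, 22, 23), (0, 24, 22, 0)], (0, 25, 9)),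
  ([(1, 0, 0, 0), (0, 1, 15, 0), (0, 2, 2, 0), (0, 2, 15, 0), (3, 0, 3, 4), (0, 5, 4, 0)], (0, 6, 0)),
  ([(1, 0, 0, 0), (0, 1, 15, 0), (0, 0, 13, 0), (0, 2, 13, 0), (3, 0, 3, 4), (0, 2, 2, 0), (0, 5, 15, 0), (3, 0, 6, 7), (0, 8, 4, 0)], (0, 9, 0)),
  ([(1, 0, 0, 0), (0, 1, 15, 0), (0, 2, 4, 0), (0, 2, 9, 0), (3, 0, 3, 4), (0, 5, 17, 0)], (0, 6, 0)),
  ([(1, 0, 0, 0), (0, 1, 15, 0), (0, 2, 10, 0), (0, 2, 7, 0), (3, 0, 3, 4), (0, 5, 21, 0)], (0, 6, 0)),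
  ([(1, 0, 0, 0), (0, 1, 15, 0), (0, 0, 13, 0), (0, 2, 13, 0), (3, 0, 3, 4), (0, 2, 14, 0), (0, 5, 3, 0), (3, 0, 6, 7), (0, 8, 19, 0)], (0, 9, 0)),
  ([(1, 0, 0, 0), (0, 1, 15, 0), (0, 0, 13, 0), (0, 2, 13, 0), (3, 0, 3, 4), (0, 2, 4, 0), (0, 5, 9, 0), (3, 0, 6, 7), (0, 8, 17, 0)], (0, 9, 0)),
  ([(1, 0, 0, 0), (0, 1, 15, 0), (0, 2, 12, 0), (3, 0, 2, 3), (0, 4, 23, 0)], (0, 5, 0)),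
  ([(1, 0, 0, 0), (0, 1, 15, 0), (0, 0, 13, 0), (0, 2, 13, 0), (3, 0, 3, 4), (0, 2, 23, 0), (0, 5, 26, 0), (3, 0, 6, 7), (0, 8, 29, 0)], (0, 9, 0)),
  ([(1, 0, 0, 0), (0, 1, 15, 0), (0, 0, 13, 0), (0, 2, 13, 0), (3, 0, 3, 4), (0, 2, 8, 0), (0, 5, 5, 0), (3, 0, 6, 7), (0, 8, 15, 0)], (0, 9, 0)),
  ([(1, 0, 0, 0), (0, 1, 15, 0), (0, 2, 20, 0), (0, 2, 25, 0), (3, 0, 3, 4), (0, 5, 7, 0)], (0, 6, 0)),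
  ([(1, 0, 0, 0), (0, 1, 15, 0), (0, 0, 13, 0), (0, 2, 13, 0), (3, 0, 3, 4), (0, 2, 5, 0), (0, 5, 8, 0), (3, 0, 6, 7), (0, 8, 5, 0)], (0, 9, 0)),
  ([(1, 0, 0, 0), (0, 1, 15, 0), (0, 2, 3, 0), (0, 2, 14, 0), (3, 0, 3, 4), (0, 5, 25, 0)], (0, 6, 0)),
  ([(1, 0, 0, 0), (0, 1, 15, 0), (0, 2, 6, 0), (0, 2, 11, 0), (3, 0, 3, 4), (0, 5, 18, 0)], (0, 6, 0)),
  ([(1, 0, 0, 0), (0, 1, 15, 0), (0, 2, 8, 0), (0, 2, 5, 0), (3, 0, 3, 4), (0, 5, 15, 0)], (0, 6, 0)),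
  ([(1, 0, 0, 0), (0, 1, 15, 0), (0, 0, 13, 0), (0, 2, 13, 0), (3, 0, 3, 4), (0, 2, 3, 0), (0, 5, 14, 0), (3, 0, 6, 7), (0, 8, 25, 0)], (0, 9, 0)),
  ([(1, 0, 0, 0), (0, 1, 15, 0), (0, 0, 13, 0), (0, 2, 13, 0), (3, 0, 3, 4), (0, 2, 15, 0), (0, 5, 2, 0), (3, 0, 6, 7), (0, 8, 24, 0)], (0, 9, 0)),
  ([(1, 0, 0, 0), (0, 1, 15, 0), (0, 2, 14, 0), (0, 2, 3, 0), (3, 0, 3, 4), (0, 5, 19, 0)], (0, 6, 0))]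

/-- Refutations, first coordinate 14. -/
def case5_4_14 : List (List (ℕ × ℕ × ℕ × ℕ) × (ℕ × ℕ × ℕ)) := [
  ([(1, 0, 0, 0), (0, 1, 6, 0), (0, 0, 14, 0), (0, 2, 14, 0), (3, 0, 3, 4), (0, 0, 30, 0), (0, 5, 30, 0), (3, 2, 6, 7), (0, 8, 12, 0), (0, 2, 26, 0), (0, 9, 4, 0), (3, 2, 10, 11), (0, 2, 30, 0), (0, 0, 30, 0), (3, 2, 13, 14), (0, 5, 15, 0), (0, 15, 17, 0), (3, 2, 16, 17), (0, 18, 15, 0)], (0, 19, 12)),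
  ([(1, 0, 0, 0), (0, 1, 6, 0), (0, 0, 14, 0), (0, 2, 14, 0), (3, 0, 3, 4), (0, 2, 26, 0), (0, 5, 20, 0), (3, 0, 6, 7), (0, 8, 5, 0)], (0, 9, 0)),
  ([(1, 0, 0, 0), (0, 1, 6, 0), (0, 2, 19, 0), (0, 2, 29, 0), (3, 0, 3, 4), (0, 5, 22, 0)], (0, 6, 0)),
  ([(1, 0, 0, 0), (0, 1, 6, 0), (0, 0, 14, 0), (0, 2, 14, 0), (3, 0, 3, 4), (0, 0, 30, 0), (0, 5, 30, 0), (3, 2, 6, 7), (0, 8, 12, 0), (0, 2, 30, 0), (0, 0, 30, 0), (3, 2, 10, 11), (0, 5, 7, 0), (0, 9, 25, 0), (3, 2, 13, 14), (0, 15, 28, 0), (0, 5, 21, 0), (0, 12, 11, 0), (3, 2, 17, 18), (0, 19, 10, 0)], (0, 20, 16)),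
  ([(1, 0, 0, 0), (0, 1, 6, 0), (0, 0, 14, 0), (0, 2, 14, 0), (3, 0, 3, 4), (0, 2, 9, 0), (0, 5, 7, 0), (3, 0, 6, 7), (0, 8, 16, 0)], (0, 9, 0)),
  ([(1, 0, 0, 0), (0, 1, 6, 0), (0, 2, 17, 0), (0, 2, 31, 0), (3, 0, 3, 4), (0, 5, 21, 0)], (0, 6, 0)),
  ([(1, 0, 0, 0), (0, 1, 6, 0), (0, 0, 14, 0), (0, 2, 14, 0), (3, 0, 3, 4), (0, 2, 19, 0), (0, 5, 29, 0), (3, 0, 6, 7), (0, 8, 22, 0)], (0, 9, 0)),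
  ([(1, 0, 0, 0), (0, 1, 6, 0), (0, 0, 14, 0), (0, 2, 14, 0), (3, 0, 3, 4), (0, 2, 7, 0), (0, 5, 9, 0), (3, 0, 6, 7), (0, 8, 7, 0)], (0, 9, 0)),
  ([(1, 0, 0, 0), (0, 1, 6, 0), (0, 0, 14, 0), (0, 2, 14, 0), (3, 0, 3, 4), (0, 2, 18, 0), (0, 5, 28, 0), (3, 0, 6, 7), (0, 8, 29, 0)], (0, 9, 0)),
  ([(1, 0, 0, 0), (0, 1, 6, 0), (0, 2, 5, 0), (0, 2, 11, 0), (3, 0, 3, 4), (0, 5, 4, 0)], (0, 6, 0)),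
  ([(1, 0, 0, 0), (0, 1, 6, 0), (0, 0, 14, 0), (0, 2, 14, 0), (3, 0, 3, 4), (0, 2, 8, 0), (0, 5, 6, 0), (3, 0, 6, 7), (0, 8, 9, 0)], (0, 9, 0)),
  ([(1, 0, 0, 0), (0, 1, 6, 0), (0, 2, 7, 0), (0, 2, 9, 0), (3, 0, 3, 4), (0, 5, 7, 0)], (0, 6, 0)),
  ([(1, 0, 0, 0), (0, 1, 6, 0), (0, 2, 4, 0), (0, 2, 10, 0), (3, 0, 3, 4), (0, 5, 31, 0)], (0, 6, 0)),
  ([(1, 0, 0, 0), (0, 1, 6, 0), (0, 0, 14, 0), (0, 2, 14, 0), (3, 0, 3, 4), (0, 5, 15, 0), (3, 0, 2, 6), (0, 7, 12, 0)], (0, 8, 0)),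
  ([(1, 0, 0, 0), (0, 1, 6, 0), (0, 2, 2, 0), (0, 2, 12, 0), (3, 0, 3, 4), (0, 5, 6, 0)], (0, 6, 0)),
  ([(1, 0, 0, 0), (0, 1, 6, 0), (0, 2, 13, 0), (0, 2, 3, 0), (3, 0, 3, 4), (0, 5, 28, 0)], (0, 6, 0)),
  ([(1, 0, 0, 0), (0, 1, 6, 0), (0, 0, 14, 0), (0, 2, 14, 0), (3, 0, 3, 4), (0, 2, 17, 0), (0, 5, 31, 0), (3, 0, 6, 7), (0, 8, 21, 0)], (0, 9, 0)),
  ([(1, 0, 0, 0), (0, 1, 6, 0), (0, 0, 14, 0), (0, 2, 14, 0), (3, 0, 3, 4), (0, 2, 5, 0), (0, 5, 11, 0), (3, 0, 6, 7), (0, 8, 4, 0)], (0, 9, 0)),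
  ([(1, 0, 0, 0), (0, 1, 6, 0), (0, 0, 14, 0), (0, 2, 14, 0), (3, 0, 3, 4), (0, 2, 11, 0), (0, 5, 5, 0), (3, 0, 6, 7), (0, 8, 24, 0)], (0, 9, 0)),
  ([(1, 0, 0, 0), (0, 1, 6, 0), (0, 2, 26, 0), (0, 2, 20, 0), (3, 0, 3, 4), (0, 5, 5, 0)], (0, 6, 0)),
  ([(1, 0, 0, 0), (0, 1, 6, 0), (0, 2, 11, 0), (0, 2, 5, 0), (3, 0, 3, 4), (0, 5, 24, 0)], (0, 6, 0)),
  ([(1, 0, 0, 0), (0, 1, 6, 0), (0, 0, 14, 0), (0, 2, 14, 0), (3, 0, 3, 4), (0, 2, 2, 0), (0, 5, 12, 0), (3, 0, 6, 7), (0, 8, 6, 0)], (0, 9, 0)),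
  ([(1, 0, 0, 0), (0, 1, 6, 0), (0, 0, 14, 0), (0, 2, 14, 0), (3, 0, 3, 4), (0, 2, 12, 0), (0, 5, 2, 0), (3, 0, 6, 7), (0, 8, 8, 0)], (0, 9, 0)),
  ([(1, 0, 0, 0), (0, 1, 6, 0), (0, 2, 8, 0), (0, 2, 6, 0), (3, 0, 3, 4), (0, 5, 9, 0)], (0, 6, 0)),
  ([(1, 0, 0, 0), (0, 1, 6, 0), (0, 0, 14, 0), (0, 2, 14, 0), (3, 0, 3, 4), (0, 2, 13, 0), (0, 5, 3, 0), (3, 0, 6, 7), (0, 8, 28, 0)], (0, 9, 0)),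
  ([(1, 0, 0, 0), (0, 1, 6, 0), (0, 2, 18, 0), (0, 2, 28, 0), (3, 0, 3, 4), (0, 5, 29, 0)], (0, 6, 0)),
  ([(1, 0, 0, 0), (0, 1, 6, 0), (0, 2, 9, 0), (0, 2, 7, 0), (3, 0, 3, 4), (0, 5, 16, 0)], (0, 6, 0)),
  ([(1, 0, 0, 0), (0, 1, 6, 0), (0, 0, 14, 0), (0, 2, 14, 0), (3, 0, 3, 4), (0, 2, 3, 0), (0, 5, 13, 0), (3, 0, 6, 7), (0, 8, 27, 0)], (0, 9, 0)),
  ([(1, 0, 0, 0), (0, 1, 6, 0), (0, 2, 3, 0), (0, 2, 13, 0), (3, 0, 3, 4), (0, 5, 27, 0)], (0, 6, 0)),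
  ([(1, 0, 0, 0), (0, 1, 6, 0), (0, 2, 15, 0), (3, 0, 2, 3), (0, 4, 12, 0)], (0, 5, 0)),
  ([(1, 0, 0, 0), (0, 1, 6, 0), (0, 2, 12, 0), (0, 2, 2, 0), (3, 0, 3, 4), (0, 5, 8, 0)], (0, 6, 0)),
  ([(1, 0, 0, 0), (0, 1, 6, 0), (0, 0, 14, 0), (0, 2, 14, 0), (3, 0, 3, 4), (0, 2, 4, 0), (0, 5, 10, 0), (3, 0, 6, 7), (0, 8, 31, 0)], (0, 9, 0))]

/-- Refutations, first coordinate 15. -/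
def case5_4_15 : List (List (ℕ × ℕ × ℕ × ℕ) × (ℕ × ℕ × ℕ)) := [
  ([(1, 0, 0, 0), (0, 1, 13, 0), (0, 0, 15, 0), (0, 2, 15, 0), (3, 0, 3, 4), (0, 2, 31, 0), (0, 0, 31, 0), (3, 2, 6, 7), (0, 5, 16, 0), (0, 8, 15, 0), (3, 2, 9, 10), (0, 11, 12, 0), (0, 5, 27, 0), (0, 12, 4, 0), (3, 2, 13, 14), (0, 15, 26, 0)], (0, 16, 2)),
  ([(1, 0, 0, 0), (0, 1, 13, 0), (0, 2, 13, 0), (0, 2, 2, 0), (3, 0, 3, 4), (0, 5, 10, 0)], (0, 6, 0)),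
  ([(1, 0, 0, 0), (0, 1, 13, 0), (0, 0, 15, 0), (0, 2, 15, 0), (3, 0, 3, 4), (0, 2, 12, 0), (0, 5, 3, 0), (3, 0, 6, 7), (0, 8, 5, 0)], (0, 9, 0)),
  ([(1, 0, 0, 0), (0, 1, 13, 0), (0, 2, 12, 0), (0, 2, 3, 0), (3, 0, 3, 4), (0, 5, 5, 0)], (0, 6, 0)),
  ([(1, 0, 0, 0), (0, 1, 13, 0), (0, 0, 15, 0), (0, 2, 15, 0), (3, 0, 3, 4), (0, 2, 3, 0), (0, 5, 12, 0), (3, 0, 6, 7), (0, 8, 15, 0)], (0, 9, 0)),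
  ([(1, 0, 0, 0), (0, 1, 13, 0), (0, 0, 15, 0), (0, 2, 15, 0), (3, 0, 3, 4), (0, 2, 24, 0), (0, 5, 23, 0), (3, 0, 6, 7), (0, 8, 21, 0)], (0, 9, 0)),
  ([(1, 0, 0, 0), (0, 1, 13, 0), (0, 0, 15, 0), (0, 2, 15, 0), (3, 0, 3, 4), (0, 5, 31, 0)], (2, 2, 6)),
  ([(1, 0, 0, 0), (0, 1, 13, 0), (0, 2, 18, 0), (0, 2, 29, 0), (3, 0, 3, 4), (0, 5, 26, 0)], (0, 6, 0)),
  ([(1, 0, 0, 0), (0, 1, 13, 0), (0, 2, 10, 0), (0, 2, 5, 0), (3, 0, 3, 4), (0, 5, 3, 0)], (0, 6, 0)),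
  ([(1, 0, 0, 0), (0, 1, 13, 0), (0, 0, 15, 0), (0, 2, 15, 0), (3, 0, 3, 4), (0, 5, 14, 0), (3, 0, 2, 6), (0, 7, 8, 0)], (0, 8, 0)),
  ([(1, 0, 0, 0), (0, 1, 13, 0), (0, 2, 24, 0), (0, 2, 23, 0), (3, 0, 3, 4), (0, 5, 21, 0)], (0, 6, 0)),
  ([(1, 0, 0, 0), (0, 1, 13, 0), (0, 0, 15, 0), (0, 2, 15, 0), (3, 0, 3, 4), (0, 2, 2, 0), (0, 5, 13, 0), (3, 0, 6, 7), (0, 8, 20, 0)], (0, 9, 0)),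
  ([(1, 0, 0, 0), (0, 1, 13, 0), (0, 2, 3, 0), (0, 2, 12, 0), (3, 0, 3, 4), (0, 5, 15, 0)], (0, 6, 0)),
  ([(1, 0, 0, 0), (0, 1, 13, 0), (0, 0, 15, 0), (0, 2, 15, 0), (3, 0, 3, 4), (0, 2, 13, 0), (0, 5, 2, 0), (3, 0, 6, 7), (0, 8, 10, 0)], (0, 9, 0)),
  ([(1, 0, 0, 0), (0, 1, 13, 0), (0, 0, 15, 0), (0, 2, 15, 0), (3, 0, 3, 4), (0, 2, 21, 0), (0, 5, 26, 0), (3, 0, 6, 7), (0, 8, 7, 0)], (0, 9, 0)),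
  ([(1, 0, 0, 0), (0, 1, 13, 0), (0, 2, 8, 0), (0, 2, 7, 0), (3, 0, 3, 4), (0, 5, 18, 0)], (0, 6, 0)),
  ([(1, 0, 0, 0), (0, 1, 13, 0), (0, 2, 5, 0), (0, 2, 10, 0), (3, 0, 3, 4), (0, 5, 11, 0)], (0, 6, 0)),
  ([(1, 0, 0, 0), (0, 1, 13, 0), (0, 0, 15, 0), (0, 2, 15, 0), (3, 0, 3, 4), (0, 2, 10, 0), (0, 5, 5, 0), (3, 0, 6, 7), (0, 8, 3, 0)], (0, 9, 0)),
  ([(1, 0, 0, 0), (0, 1, 13, 0), (0, 0, 15, 0), (0, 2, 15, 0), (3, 0, 3, 4), (0, 2, 18, 0), (0, 5, 29, 0), (3, 0, 6, 7), (0, 8, 26, 0)], (0, 9, 0)),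
  ([(1, 0, 0, 0), (0, 1, 13, 0), (0, 0, 15, 0), (0, 2, 15, 0), (3, 0, 3, 4), (0, 2, 9, 0), (0, 5, 6, 0), (3, 0, 6, 7), (0, 8, 27, 0)], (0, 9, 0)),
  ([(1, 0, 0, 0), (0, 1, 13, 0), (0, 2, 2, 0), (0, 2, 13, 0), (3, 0, 3, 4), (0, 5, 20, 0)], (0, 6, 0)),
  ([(1, 0, 0, 0), (0, 1, 13, 0), (0, 0, 15, 0), (0, 2, 15, 0), (3, 0, 3, 4), (0, 2, 6, 0), (0, 5, 9, 0), (3, 0, 6, 7), (0, 8, 28, 0)], (0, 9, 0)),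
  ([(1, 0, 0, 0), (0, 1, 13, 0), (0, 2, 21, 0), (0, 2, 26, 0), (3, 0, 3, 4), (0, 5, 7, 0)], (0, 6, 0)),
  ([(1, 0, 0, 0), (0, 1, 13, 0), (0, 0, 15, 0), (0, 2, 15, 0), (3, 0, 3, 4), (0, 2, 5, 0), (0, 5, 10, 0), (3, 0, 6, 7), (0, 8, 11, 0)], (0, 9, 0)),
  ([(1, 0, 0, 0), (0, 1, 13, 0), (0, 0, 15, 0), (0, 2, 15, 0), (3, 0, 3, 4), (0, 2, 4, 0), (0, 5, 11, 0), (3, 0, 6, 7), (0, 8, 25, 0)], (0, 9, 0)),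
  ([(1, 0, 0, 0), (0, 1, 13, 0), (0, 2, 14, 0), (3, 0, 2, 3), (0, 4, 8, 0)], (0, 5, 0)),
  ([(1, 0, 0, 0), (0, 1, 13, 0), (0, 0, 15, 0), (0, 2, 15, 0), (3, 0, 3, 4), (0, 2, 7, 0), (0, 5, 8, 0), (3, 0, 6, 7), (0, 8, 12, 0)], (0, 9, 0)),
  ([(1, 0, 0, 0), (0, 1, 13, 0), (0, 2, 4, 0), (0, 2, 11, 0), (3, 0, 3, 4), (0, 5, 25, 0)], (0, 6, 0)),
  ([(1, 0, 0, 0), (0, 1, 13, 0), (0, 0, 15, 0), (0, 2, 15, 0), (3, 0, 3, 4), (0, 2, 8, 0), (0, 5, 7, 0), (3, 0, 6, 7), (0, 8, 18, 0)], (0, 9, 0)),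
  ([(1, 0, 0, 0), (0, 1, 13, 0), (0, 2, 9, 0), (0, 2, 6, 0), (3, 0, 3, 4), (0, 5, 27, 0)], (0, 6, 0)),
  ([(1, 0, 0, 0), (0, 1, 13, 0), (0, 2, 6, 0), (0, 2, 9, 0), (3, 0, 3, 4), (0, 5, 28, 0)], (0, 6, 0)),
  ([(1, 0, 0, 0), (0, 1, 13, 0), (0, 2, 7, 0), (0, 2, 8, 0), (3, 0, 3, 4), (0, 5, 12, 0)], (0, 6, 0))]

/-- Refutations, first coordinate 16. -/
def case5_4_16 : List (List (ℕ × ℕ × ℕ × ℕ) × (ℕ × ℕ × ℕ)) := [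
  ([(1, 0, 0, 0), (0, 1, 11, 0), (0, 0, 16, 0), (0, 2, 16, 0), (3, 0, 3, 4), (0, 5, 13, 0)], (2, 2, 6)),
  ([(1, 0, 0, 0), (0, 1, 11, 0), (0, 2, 30, 0), (0, 2, 14, 0), (3, 0, 3, 4), (0, 5, 6, 0)], (0, 6, 0)),
  ([(1, 0, 0, 0), (0, 1, 11, 0), (0, 0, 16, 0), (0, 2, 16, 0), (3, 0, 3, 4), (0, 2, 9, 0), (0, 5, 25, 0), (3, 0, 6, 7), (0, 8, 17, 0)], (0, 9, 0)),
  ([(1, 0, 0, 0), (0, 1, 11, 0), (0, 0, 16, 0), (0, 2, 16, 0), (3, 0, 3, 4), (0, 2, 6, 0), (0, 5, 22, 0), (3, 0, 6, 7), (0, 8, 24, 0)], (0, 9, 0)),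
  ([(1, 0, 0, 0), (0, 1, 11, 0), (0, 2, 15, 0), (0, 2, 31, 0), (3, 0, 3, 4), (0, 5, 12, 0)], (0, 6, 0)),
  ([(1, 0, 0, 0), (0, 1, 11, 0), (0, 2, 2, 0), (0, 2, 18, 0), (3, 0, 3, 4), (0, 5, 5, 0)], (0, 6, 0)),
  ([(1, 0, 0, 0), (0, 1, 11, 0), (0, 0, 16, 0), (0, 2, 16, 0), (3, 0, 3, 4), (0, 2, 2, 0), (0, 5, 18, 0), (3, 0, 6, 7), (0, 8, 5, 0)], (0, 9, 0)),
  ([(1, 0, 0, 0), (0, 1, 11, 0), (0, 2, 17, 0), (3, 0, 2, 3), (0, 4, 28, 0)], (0, 5, 0)),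
  ([(1, 0, 0, 0), (0, 1, 11, 0), (0, 0, 16, 0), (0, 2, 16, 0), (3, 0, 3, 4), (0, 2, 25, 0), (0, 5, 9, 0), (3, 0, 6, 7), (0, 8, 31, 0)], (0, 9, 0)),
  ([(1, 0, 0, 0), (0, 1, 11, 0), (0, 2, 7, 0), (0, 2, 23, 0), (3, 0, 3, 4), (0, 5, 26, 0)], (0, 6, 0)),
  ([(1, 0, 0, 0), (0, 1, 11, 0), (0, 0, 16, 0), (0, 2, 16, 0), (3, 0, 3, 4), (0, 5, 13, 0)], (2, 2, 6)),
  ([(1, 0, 0, 0), (0, 1, 11, 0), (0, 0, 16, 0), (0, 2, 16, 0), (3, 0, 3, 4), (0, 2, 15, 0), (0, 5, 31, 0), (3, 0, 6, 7), (0, 8, 12, 0)], (0, 9, 0)),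
  ([(1, 0, 0, 0), (0, 1, 11, 0), (0, 0, 16, 0), (0, 2, 16, 0), (3, 0, 3, 4), (0, 2, 18, 0), (0, 5, 2, 0), (3, 0, 6, 7), (0, 8, 15, 0)], (0, 9, 0)),
  ([(1, 0, 0, 0), (0, 1, 11, 0), (0, 2, 25, 0), (0, 2, 9, 0), (3, 0, 3, 4), (0, 5, 31, 0)], (0, 6, 0)),
  ([(1, 0, 0, 0), (0, 1, 11, 0), (0, 0, 16, 0), (0, 2, 16, 0), (3, 0, 3, 4), (0, 2, 11, 0), (0, 5, 27, 0), (3, 0, 6, 7), (0, 8, 23, 0)], (0, 9, 0)),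
  ([(1, 0, 0, 0), (0, 1, 11, 0), (0, 0, 16, 0), (0, 2, 16, 0), (3, 0, 3, 4), (0, 2, 4, 0), (0, 5, 20, 0), (3, 0, 6, 7), (0, 8, 21, 0)], (0, 9, 0)),
  ([(1, 0, 0, 0), (0, 1, 11, 0), (0, 2, 9, 0), (0, 2, 25, 0), (3, 0, 3, 4), (0, 5, 17, 0)], (0, 6, 0)),
  ([(1, 0, 0, 0), (0, 1, 11, 0), (0, 0, 16, 0), (0, 2, 16, 0), (3, 0, 3, 4), (0, 2, 30, 0), (0, 5, 14, 0), (3, 0, 6, 7), (0, 8, 6, 0)], (0, 9, 0)),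
  ([(1, 0, 0, 0), (0, 1, 11, 0), (0, 2, 5, 0), (0, 2, 21, 0), (3, 0, 3, 4), (0, 5, 14, 0)], (0, 6, 0)),
  ([(1, 0, 0, 0), (0, 1, 11, 0), (0, 0, 16, 0), (0, 2, 16, 0), (3, 0, 3, 4), (0, 2, 7, 0), (0, 5, 23, 0), (3, 0, 6, 7), (0, 8, 26, 0)], (0, 9, 0)),
  ([(1, 0, 0, 0), (0, 1, 11, 0), (0, 2, 18, 0), (0, 2, 2, 0), (3, 0, 3, 4), (0, 5, 15, 0)], (0, 6, 0)),
  ([(1, 0, 0, 0), (0, 1, 11, 0), (0, 2, 19, 0), (0, 2, 3, 0), (3, 0, 3, 4), (0, 5, 11, 0)], (0, 6, 0)),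
  ([(1, 0, 0, 0), (0, 1, 11, 0), (0, 0, 16, 0), (0, 2, 16, 0), (3, 0, 3, 4), (0, 2, 3, 0), (0, 5, 19, 0), (3, 0, 6, 7), (0, 8, 3, 0)], (0, 9, 0)),
  ([(1, 0, 0, 0), (0, 1, 11, 0), (0, 2, 6, 0), (0, 2, 22, 0), (3, 0, 3, 4), (0, 5, 24, 0)], (0, 6, 0)),
  ([(1, 0, 0, 0), (0, 1, 11, 0), (0, 2, 3, 0), (0, 2, 19, 0), (3, 0, 3, 4), (0, 5, 3, 0)], (0, 6, 0)),
  ([(1, 0, 0, 0), (0, 1, 11, 0), (0, 0, 16, 0), (0, 2, 16, 0), (3, 0, 3, 4), (0, 2, 23, 0), (0, 5, 7, 0), (3, 0, 6, 7), (0, 8, 9, 0)], (0, 9, 0)),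
  ([(1, 0, 0, 0), (0, 1, 11, 0), (0, 0, 16, 0), (0, 2, 16, 0), (3, 0, 3, 4), (0, 5, 17, 0), (3, 0, 2, 6), (0, 7, 28, 0)], (0, 8, 0)),
  ([(1, 0, 0, 0), (0, 1, 11, 0), (0, 2, 11, 0), (0, 2, 27, 0), (3, 0, 3, 4), (0, 5, 23, 0)], (0, 6, 0)),
  ([(1, 0, 0, 0), (0, 1, 11, 0), (0, 0, 16, 0), (0, 2, 16, 0), (3, 0, 3, 4), (0, 2, 19, 0), (0, 5, 3, 0), (3, 0, 6, 7), (0, 8, 11, 0)], (0, 9, 0)),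
  ([(1, 0, 0, 0), (0, 1, 11, 0), (0, 2, 23, 0), (0, 2, 7, 0), (3, 0, 3, 4), (0, 5, 9, 0)], (0, 6, 0)),
  ([(1, 0, 0, 0), (0, 1, 11, 0), (0, 2, 4, 0), (0, 2, 20, 0), (3, 0, 3, 4), (0, 5, 21, 0)], (0, 6, 0)),
  ([(1, 0, 0, 0), (0, 1, 11, 0), (0, 0, 16, 0), (0, 2, 16, 0), (3, 0, 3, 4), (0, 2, 5, 0), (0, 5, 21, 0), (3, 0, 6, 7), (0, 8, 14, 0)], (0, 9, 0))]

/-- Refutations, first coordinate 17. -/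
def case5_4_17 : List (List (ℕ × ℕ × ℕ × ℕ) × (ℕ × ℕ × ℕ)) := [
  ([(1, 0, 0, 0), (0, 1, 24, 0), (0, 0, 17, 0), (0, 2, 17, 0), (3, 0, 3, 4), (0, 0, 12, 0), (0, 5, 12, 0), (3, 2, 6, 7), (0, 8, 10, 0), (0, 0, 26, 0), (0, 9, 12, 0), (3, 2, 10, 11), (0, 12, 28, 0), (0, 0, 28, 0), (0, 13, 12, 0), (3, 2, 14, 15), (0, 16, 5, 0), (0, 2, 6, 0), (0, 17, 10, 0), (3, 2, 18, 19), (0, 2, 25, 0), (0, 20, 21, 0), (3, 2, 21, 22), (0, 5, 9, 0), (0, 23, 5, 0), (3, 2, 24, 25), (0, 26, 13, 0)], (0, 27, 5)),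
  ([(1, 0, 0, 0), (0, 1, 24, 0), (0, 2, 15, 0), (0, 2, 30, 0), (3, 0, 3, 4), (0, 5, 11, 0)], (0, 6, 0)),
  ([(1, 0, 0, 0), (0, 1, 24, 0), (0, 0, 17, 0), (0, 2, 17, 0), (3, 0, 3, 4), (0, 2, 13, 0), (0, 5, 28, 0), (3, 0, 6, 7), (0, 8, 21, 0)], (0, 9, 0)),
  ([(1, 0, 0, 0), (0, 1, 24, 0), (0, 0, 17, 0), (0, 2, 17, 0), (3, 0, 3, 4), (0, 2, 10, 0), (0, 5, 27, 0), (3, 0, 6, 7), (0, 8, 28, 0)], (0, 9, 0)),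
  ([(1, 0, 0, 0), (0, 1, 24, 0), (0, 2, 13, 0), (0, 2, 28, 0), (3, 0, 3, 4), (0, 5, 21, 0)], (0, 6, 0)),
  ([(1, 0, 0, 0), (0, 1, 24, 0), (0, 0, 17, 0), (0, 2, 17, 0), (3, 0, 3, 4), (0, 2, 9, 0), (0, 5, 24, 0), (3, 0, 6, 7), (0, 8, 12, 0)], (0, 9, 0)),
  ([(1, 0, 0, 0), (0, 1, 24, 0), (0, 0, 17, 0), (0, 2, 17, 0), (3, 0, 3, 4), (0, 2, 18, 0), (0, 5, 3, 0), (3, 0, 6, 7), (0, 8, 6, 0)], (0, 9, 0)),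
  ([(1, 0, 0, 0), (0, 1, 24, 0), (0, 2, 9, 0), (0, 2, 24, 0), (3, 0, 3, 4), (0, 5, 12, 0)], (0, 6, 0)),
  ([(1, 0, 0, 0), (0, 1, 24, 0), (0, 0, 17, 0), (0, 2, 17, 0), (3, 0, 3, 4), (0, 2, 2, 0), (0, 5, 19, 0), (3, 0, 6, 7), (0, 8, 9, 0)], (0, 9, 0)),
  ([(1, 0, 0, 0), (0, 1, 24, 0), (0, 0, 17, 0), (0, 2, 17, 0), (3, 0, 3, 4), (0, 2, 5, 0), (0, 5, 20, 0), (3, 0, 6, 7), (0, 8, 15, 0)], (0, 9, 0)),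
  ([(1, 0, 0, 0), (0, 1, 24, 0), (0, 2, 11, 0), (0, 2, 26, 0), (3, 0, 3, 4), (0, 5, 16, 0)], (0, 6, 0)),
  ([(1, 0, 0, 0), (0, 1, 24, 0), (0, 2, 23, 0), (0, 2, 6, 0), (3, 0, 3, 4), (0, 5, 10, 0)], (0, 6, 0)),
  ([(1, 0, 0, 0), (0, 1, 24, 0), (0, 2, 10, 0), (0, 2, 27, 0), (3, 0, 3, 4), (0, 5, 28, 0)], (0, 6, 0)),
  ([(1, 0, 0, 0), (0, 1, 24, 0), (0, 2, 7, 0), (0, 2, 22, 0), (3, 0, 3, 4), (0, 5, 14, 0)], (0, 6, 0)),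
  ([(1, 0, 0, 0), (0, 1, 24, 0), (0, 0, 17, 0), (0, 2, 17, 0), (3, 0, 3, 4), (0, 5, 16, 0), (3, 0, 2, 6), (0, 7, 31, 0)], (0, 8, 0)),
  ([(1, 0, 0, 0), (0, 1, 24, 0), (0, 2, 2, 0), (0, 2, 19, 0), (3, 0, 3, 4), (0, 5, 9, 0)], (0, 6, 0)),
  ([(1, 0, 0, 0), (0, 1, 24, 0), (0, 0, 17, 0), (0, 2, 17, 0), (3, 0, 3, 4), (0, 2, 23, 0), (0, 5, 6, 0), (3, 0, 6, 7), (0, 8, 10, 0)], (0, 9, 0)),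
  ([(1, 0, 0, 0), (0, 1, 24, 0), (0, 0, 17, 0), (0, 2, 17, 0), (3, 0, 3, 4), (0, 2, 16, 0), (3, 0, 6, 5), (0, 7, 17, 0)], (0, 8, 0)),
  ([(1, 0, 0, 0), (0, 1, 24, 0), (0, 0, 17, 0), (0, 2, 17, 0), (3, 0, 3, 4), (0, 2, 11, 0), (0, 5, 26, 0), (3, 0, 6, 7), (0, 8, 16, 0)], (0, 9, 0)),
  ([(1, 0, 0, 0), (0, 1, 24, 0), (0, 2, 16, 0), (3, 0, 2, 3), (0, 4, 31, 0)], (0, 5, 0)),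
  ([(1, 0, 0, 0), (0, 1, 24, 0), (0, 0, 17, 0), (0, 2, 17, 0), (3, 0, 3, 4), (0, 2, 8, 0), (0, 5, 25, 0), (3, 0, 6, 7), (0, 8, 4, 0)], (0, 9, 0)),
  ([(1, 0, 0, 0), (0, 1, 24, 0), (0, 0, 17, 0), (0, 2, 17, 0), (3, 0, 3, 4), (0, 2, 15, 0), (0, 5, 30, 0), (3, 0, 6, 7), (0, 8, 11, 0)], (0, 9, 0)),
  ([(1, 0, 0, 0), (0, 1, 24, 0), (0, 0, 17, 0), (0, 2, 17, 0), (3, 0, 3, 4), (0, 2, 20, 0), (0, 5, 5, 0), (3, 0, 6, 7), (0, 8, 5, 0)], (0, 9, 0)),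
  ([(1, 0, 0, 0), (0, 1, 24, 0), (0, 2, 8, 0), (0, 2, 25, 0), (3, 0, 3, 4), (0, 5, 4, 0)], (0, 6, 0)),
  ([(1, 0, 0, 0), (0, 1, 24, 0), (0, 2, 3, 0), (0, 2, 18, 0), (3, 0, 3, 4), (0, 5, 8, 0)], (0, 6, 0)),
  ([(1, 0, 0, 0), (0, 1, 24, 0), (0, 0, 17, 0), (0, 2, 17, 0), (3, 0, 3, 4), (0, 2, 3, 0), (0, 5, 18, 0), (3, 0, 6, 7), (0, 8, 8, 0)], (0, 9, 0)),
  ([(1, 0, 0, 0), (0, 1, 24, 0), (0, 2, 18, 0), (0, 2, 3, 0), (3, 0, 3, 4), (0, 5, 6, 0)], (0, 6, 0)),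
  ([(1, 0, 0, 0), (0, 1, 24, 0), (0, 2, 5, 0), (0, 2, 20, 0), (3, 0, 3, 4), (0, 5, 15, 0)], (0, 6, 0)),
  ([(1, 0, 0, 0), (0, 1, 24, 0), (0, 2, 16, 0), (3, 0, 3, 2), (0, 4, 17, 0)], (0, 5, 0)),
  ([(1, 0, 0, 0), (0, 1, 24, 0), (0, 2, 20, 0), (0, 2, 5, 0), (3, 0, 3, 4), (0, 5, 5, 0)], (0, 6, 0)),
  ([(1, 0, 0, 0), (0, 1, 24, 0), (0, 0, 17, 0), (0, 2, 17, 0), (3, 0, 3, 4), (0, 2, 7, 0), (0, 5, 22, 0), (3, 0, 6, 7), (0, 8, 14, 0)], (0, 9, 0)),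
  ([(1, 0, 0, 0), (0, 1, 24, 0), (0, 0, 17, 0), (0, 2, 17, 0), (3, 0, 3, 4), (0, 5, 12, 0)], (2, 2, 6))]

/-- Refutations, first coordinate 18. -/
def case5_4_18 : List (List (ℕ × ℕ × ℕ × ℕ) × (ℕ × ℕ × ℕ)) := [
  ([(1, 0, 0, 0), (0, 1, 2, 0), (0, 0, 18, 0), (0, 2, 18, 0), (3, 0, 3, 4), (0, 0, 9, 0), (0, 5, 9, 0), (3, 2, 6, 7), (0, 8, 28, 0), (0, 2, 9, 0), (0, 0, 9, 0), (3, 2, 10, 11), (0, 2, 21, 0), (0, 12, 28, 0), (3, 2, 13, 14), (0, 5, 3, 0), (0, 15, 10, 0), (3, 2, 16, 17), (0, 18, 13, 0)], (0, 19, 9)),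
  ([(1, 0, 0, 0), (0, 1, 2, 0), (0, 2, 2, 0), (0, 2, 16, 0), (3, 0, 3, 4), (0, 5, 30, 0)], (0, 6, 0)),
  ([(1, 0, 0, 0), (0, 1, 2, 0), (0, 0, 18, 0), (0, 2, 18, 0), (3, 0, 3, 4), (0, 2, 2, 0), (0, 5, 16, 0), (3, 0, 6, 7), (0, 8, 30, 0)], (0, 9, 0)),
  ([(1, 0, 0, 0), (0, 1, 2, 0), (0, 0, 18, 0), (0, 2, 18, 0), (3, 0, 3, 4), (0, 2, 6, 0), (0, 5, 20, 0), (3, 0, 6, 7), (0, 8, 6, 0)], (0, 9, 0)),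
  ([(1, 0, 0, 0), (0, 1, 2, 0), (0, 2, 13, 0), (0, 2, 31, 0), (3, 0, 3, 4), (0, 5, 20, 0)], (0, 6, 0)),
  ([(1, 0, 0, 0), (0, 1, 2, 0), (0, 2, 27, 0), (0, 2, 9, 0), (3, 0, 3, 4), (0, 5, 16, 0)], (0, 6, 0)),
  ([(1, 0, 0, 0), (0, 1, 2, 0), (0, 0, 18, 0), (0, 2, 18, 0), (3, 0, 3, 4), (0, 2, 8, 0), (0, 5, 26, 0), (3, 0, 6, 7), (0, 8, 19, 0)], (0, 9, 0)),
  ([(1, 0, 0, 0), (0, 1, 2, 0), (0, 0, 18, 0), (0, 2, 18, 0), (3, 0, 3, 4), (0, 2, 12, 0), (0, 5, 30, 0), (3, 0, 6, 7), (0, 8, 31, 0)], (0, 9, 0)),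
  ([(1, 0, 0, 0), (0, 1, 2, 0), (0, 2, 29, 0), (0, 2, 15, 0), (3, 0, 3, 4), (0, 5, 24, 0)], (0, 6, 0)),
  ([(1, 0, 0, 0), (0, 1, 2, 0), (0, 0, 18, 0), (0, 2, 18, 0), (3, 0, 3, 4), (0, 2, 27, 0), (0, 5, 9, 0), (3, 0, 6, 7), (0, 8, 16, 0)], (0, 9, 0)),
  ([(1, 0, 0, 0), (0, 1, 2, 0), (0, 2, 10, 0), (0, 2, 24, 0), (3, 0, 3, 4), (0, 5, 26, 0)], (0, 6, 0)),
  ([(1, 0, 0, 0), (0, 1, 2, 0), (0, 2, 4, 0), (0, 2, 22, 0), (3, 0, 3, 4), (0, 5, 13, 0)], (0, 6, 0)),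
  ([(1, 0, 0, 0), (0, 1, 2, 0), (0, 2, 20, 0), (0, 2, 6, 0), (3, 0, 3, 4), (0, 5, 8, 0)], (0, 6, 0)),
  ([(1, 0, 0, 0), (0, 1, 2, 0), (0, 2, 6, 0), (0, 2, 20, 0), (3, 0, 3, 4), (0, 5, 6, 0)], (0, 6, 0)),
  ([(1, 0, 0, 0), (0, 1, 2, 0), (0, 0, 18, 0), (0, 2, 18, 0), (3, 0, 3, 4), (0, 2, 5, 0), (0, 5, 23, 0), (3, 0, 6, 7), (0, 8, 27, 0)], (0, 9, 0)),
  ([(1, 0, 0, 0), (0, 1, 2, 0), (0, 0, 18, 0), (0, 2, 18, 0), (3, 0, 3, 4), (0, 5, 19, 0), (3, 0, 2, 6), (0, 7, 14, 0)], (0, 8, 0)),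
  ([(1, 0, 0, 0), (0, 1, 2, 0), (0, 0, 18, 0), (0, 2, 18, 0), (3, 0, 3, 4), (0, 2, 3, 0), (0, 5, 17, 0), (3, 0, 6, 7), (0, 8, 12, 0)], (0, 9, 0)),
  ([(1, 0, 0, 0), (0, 1, 2, 0), (0, 2, 3, 0), (0, 2, 17, 0), (3, 0, 3, 4), (0, 5, 12, 0)], (0, 6, 0)),
  ([(1, 0, 0, 0), (0, 1, 2, 0), (0, 2, 14, 0), (0, 2, 28, 0), (3, 0, 3, 4), (0, 5, 11, 0)], (0, 6, 0)),
  ([(1, 0, 0, 0), (0, 1, 2, 0), (0, 2, 8, 0), (0, 2, 26, 0), (3, 0, 3, 4), (0, 5, 19, 0)], (0, 6, 0)),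
  ([(1, 0, 0, 0), (0, 1, 2, 0), (0, 2, 19, 0), (3, 0, 2, 3), (0, 4, 14, 0)], (0, 5, 0)),
  ([(1, 0, 0, 0), (0, 1, 2, 0), (0, 0, 18, 0), (0, 2, 18, 0), (3, 0, 3, 4), (0, 2, 13, 0), (0, 5, 31, 0), (3, 0, 6, 7), (0, 8, 20, 0)], (0, 9, 0)),
  ([(1, 0, 0, 0), (0, 1, 2, 0), (0, 2, 16, 0), (0, 2, 2, 0), (3, 0, 3, 4), (0, 5, 22, 0)], (0, 6, 0)),
  ([(1, 0, 0, 0), (0, 1, 2, 0), (0, 0, 18, 0), (0, 2, 18, 0), (3, 0, 3, 4), (0, 2, 29, 0), (0, 5, 15, 0), (3, 0, 6, 7), (0, 8, 24, 0)], (0, 9, 0)),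
  ([(1, 0, 0, 0), (0, 1, 2, 0), (0, 0, 18, 0), (0, 2, 18, 0), (3, 0, 3, 4), (0, 2, 14, 0), (0, 5, 28, 0), (3, 0, 6, 7), (0, 8, 11, 0)], (0, 9, 0)),
  ([(1, 0, 0, 0), (0, 1, 2, 0), (0, 0, 18, 0), (0, 2, 18, 0), (3, 0, 3, 4), (0, 2, 10, 0), (0, 5, 24, 0), (3, 0, 6, 7), (0, 8, 26, 0)], (0, 9, 0)),
  ([(1, 0, 0, 0), (0, 1, 2, 0), (0, 2, 5, 0), (0, 2, 23, 0), (3, 0, 3, 4), (0, 5, 27, 0)], (0, 6, 0)),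
  ([(1, 0, 0, 0), (0, 1, 2, 0), (0, 2, 12, 0), (0, 2, 30, 0), (3, 0, 3, 4), (0, 5, 31, 0)], (0, 6, 0)),
  ([(1, 0, 0, 0), (0, 1, 2, 0), (0, 0, 18, 0), (0, 2, 18, 0), (3, 0, 3, 4), (0, 2, 4, 0), (0, 5, 22, 0), (3, 0, 6, 7), (0, 8, 13, 0)], (0, 9, 0)),
  ([(1, 0, 0, 0), (0, 1, 2, 0), (0, 0, 18, 0), (0, 2, 18, 0), (3, 0, 3, 4), (0, 5, 9, 0)], (2, 2, 6)),
  ([(1, 0, 0, 0), (0, 1, 2, 0), (0, 0, 18, 0), (0, 2, 18, 0), (3, 0, 3, 4), (0, 2, 20, 0), (0, 5, 6, 0), (3, 0, 6, 7), (0, 8, 8, 0)], (0, 9, 0)),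
  ([(1, 0, 0, 0), (0, 1, 2, 0), (0, 0, 18, 0), (0, 2, 18, 0), (3, 0, 3, 4), (0, 2, 16, 0), (0, 5, 2, 0), (3, 0, 6, 7), (0, 8, 22, 0)], (0, 9, 0))]

/-- Refutations, first coordinate 19. -/
def case5_4_19 : List (List (ℕ × ℕ × ℕ × ℕ) × (ℕ × ℕ × ℕ)) := [
  ([(1, 0, 0, 0), (0, 1, 29, 0), (0, 0, 19, 0), (0, 2, 19, 0), (3, 0, 3, 4), (0, 0, 8, 0), (0, 5, 8, 0), (3, 2, 6, 7), (0, 8, 3, 0), (0, 2, 5, 0), (0, 9, 13, 0), (3, 2, 10, 11), (0, 2, 18, 0), (0, 12, 26, 0), (3, 2, 13, 14), (0, 2, 25, 0), (0, 15, 17, 0), (3, 2, 16, 17), (0, 5, 7, 0), (0, 18, 15, 0), (3, 2, 19, 20), (0, 21, 16, 0)], (0, 22, 15)),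
  ([(1, 0, 0, 0), (0, 1, 29, 0), (0, 0, 19, 0), (0, 2, 19, 0), (3, 0, 3, 4), (0, 2, 5, 0), (0, 5, 22, 0), (3, 0, 6, 7), (0, 8, 12, 0)], (0, 9, 0)),
  ([(1, 0, 0, 0), (0, 1, 29, 0), (0, 0, 19, 0), (0, 2, 19, 0), (3, 0, 3, 4), (0, 5, 18, 0), (3, 0, 2, 6), (0, 7, 3, 0)], (0, 8, 0)),
  ([(1, 0, 0, 0), (0, 1, 29, 0), (0, 2, 13, 0), (0, 2, 30, 0), (3, 0, 3, 4), (0, 5, 9, 0)], (0, 6, 0)),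
  ([(1, 0, 0, 0), (0, 1, 29, 0), (0, 0, 19, 0), (0, 2, 19, 0), (3, 0, 3, 4), (0, 2, 17, 0), (0, 5, 2, 0), (3, 0, 6, 7), (0, 8, 4, 0)], (0, 9, 0)),
  ([(1, 0, 0, 0), (0, 1, 29, 0), (0, 0, 19, 0), (0, 2, 19, 0), (3, 0, 3, 4), (0, 2, 7, 0), (0, 5, 20, 0), (3, 0, 6, 7), (0, 8, 17, 0)], (0, 9, 0)),
  ([(1, 0, 0, 0), (0, 1, 29, 0), (0, 0, 19, 0), (0, 2, 19, 0), (3, 0, 3, 4), (0, 2, 3, 0), (0, 5, 16, 0), (3, 0, 6, 7), (0, 8, 14, 0)], (0, 9, 0)),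
  ([(1, 0, 0, 0), (0, 1, 29, 0), (0, 2, 14, 0), (0, 2, 29, 0), (3, 0, 3, 4), (0, 5, 15, 0)], (0, 6, 0)),
  ([(1, 0, 0, 0), (0, 1, 29, 0), (0, 2, 3, 0), (0, 2, 16, 0), (3, 0, 3, 4), (0, 5, 14, 0)], (0, 6, 0)),
  ([(1, 0, 0, 0), (0, 1, 29, 0), (0, 0, 19, 0), (0, 2, 19, 0), (3, 0, 3, 4), (0, 2, 13, 0), (0, 5, 30, 0), (3, 0, 6, 7), (0, 8, 9, 0)], (0, 9, 0)),
  ([(1, 0, 0, 0), (0, 1, 29, 0), (0, 2, 5, 0), (0, 2, 22, 0), (3, 0, 3, 4), (0, 5, 12, 0)], (0, 6, 0)),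
  ([(1, 0, 0, 0), (0, 1, 29, 0), (0, 2, 6, 0), (0, 2, 21, 0), (3, 0, 3, 4), (0, 5, 30, 0)], (0, 6, 0)),
  ([(1, 0, 0, 0), (0, 1, 29, 0), (0, 0, 19, 0), (0, 2, 19, 0), (3, 0, 3, 4), (0, 2, 25, 0), (0, 5, 10, 0), (3, 0, 6, 7), (0, 8, 8, 0)], (0, 9, 0)),
  ([(1, 0, 0, 0), (0, 1, 29, 0), (0, 2, 7, 0), (0, 2, 20, 0), (3, 0, 3, 4), (0, 5, 17, 0)], (0, 6, 0)),
  ([(1, 0, 0, 0), (0, 1, 29, 0), (0, 0, 19, 0), (0, 2, 19, 0), (3, 0, 3, 4), (0, 2, 11, 0), (0, 5, 24, 0), (3, 0, 6, 7), (0, 8, 25, 0)], (0, 9, 0)),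
  ([(1, 0, 0, 0), (0, 1, 29, 0), (0, 2, 12, 0), (0, 2, 31, 0), (3, 0, 3, 4), (0, 5, 13, 0)], (0, 6, 0)),
  ([(1, 0, 0, 0), (0, 1, 29, 0), (0, 2, 10, 0), (0, 2, 25, 0), (3, 0, 3, 4), (0, 5, 6, 0)], (0, 6, 0)),
  ([(1, 0, 0, 0), (0, 1, 29, 0), (0, 0, 19, 0), (0, 2, 19, 0), (3, 0, 3, 4), (0, 5, 8, 0)], (2, 2, 6)),
  ([(1, 0, 0, 0), (0, 1, 29, 0), (0, 2, 2, 0), (0, 2, 17, 0), (3, 0, 3, 4), (0, 5, 24, 0)], (0, 6, 0)),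
  ([(1, 0, 0, 0), (0, 1, 29, 0), (0, 2, 16, 0), (0, 2, 3, 0), (3, 0, 3, 4), (0, 5, 29, 0)], (0, 6, 0)),
  ([(1, 0, 0, 0), (0, 1, 29, 0), (0, 2, 11, 0), (0, 2, 24, 0), (3, 0, 3, 4), (0, 5, 25, 0)], (0, 6, 0)),
  ([(1, 0, 0, 0), (0, 1, 29, 0), (0, 0, 19, 0), (0, 2, 19, 0), (3, 0, 3, 4), (0, 2, 2, 0), (0, 5, 17, 0), (3, 0, 6, 7), (0, 8, 24, 0)], (0, 9, 0)),
  ([(1, 0, 0, 0), (0, 1, 29, 0), (0, 0, 19, 0), (0, 2, 19, 0), (3, 0, 3, 4), (0, 2, 6, 0), (0, 5, 21, 0), (3, 0, 6, 7), (0, 8, 30, 0)], (0, 9, 0)),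
  ([(1, 0, 0, 0), (0, 1, 29, 0), (0, 0, 19, 0), (0, 2, 19, 0), (3, 0, 3, 4), (0, 2, 16, 0), (0, 5, 3, 0), (3, 0, 6, 7), (0, 8, 29, 0)], (0, 9, 0)),
  ([(1, 0, 0, 0), (0, 1, 29, 0), (0, 2, 17, 0), (0, 2, 2, 0), (3, 0, 3, 4), (0, 5, 4, 0)], (0, 6, 0)),
  ([(1, 0, 0, 0), (0, 1, 29, 0), (0, 2, 18, 0), (3, 0, 2, 3), (0, 4, 3, 0)], (0, 5, 0)),
  ([(1, 0, 0, 0), (0, 1, 29, 0), (0, 0, 19, 0), (0, 2, 19, 0), (3, 0, 3, 4), (0, 2, 12, 0), (0, 5, 31, 0), (3, 0, 6, 7), (0, 8, 13, 0)], (0, 9, 0)),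
  ([(1, 0, 0, 0), (0, 1, 29, 0), (0, 2, 25, 0), (0, 2, 10, 0), (3, 0, 3, 4), (0, 5, 8, 0)], (0, 6, 0)),
  ([(1, 0, 0, 0), (0, 1, 29, 0), (0, 2, 24, 0), (0, 2, 11, 0), (3, 0, 3, 4), (0, 5, 19, 0)], (0, 6, 0)),
  ([(1, 0, 0, 0), (0, 1, 29, 0), (0, 0, 19, 0), (0, 2, 19, 0), (3, 0, 3, 4), (0, 2, 10, 0), (0, 5, 25, 0), (3, 0, 6, 7), (0, 8, 6, 0)], (0, 9, 0)),
  ([(1, 0, 0, 0), (0, 1, 29, 0), (0, 0, 19, 0), (0, 2, 19, 0), (3, 0, 3, 4), (0, 2, 14, 0), (0, 5, 29, 0), (3, 0, 6, 7), (0, 8, 15, 0)], (0, 9, 0)),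
  ([(1, 0, 0, 0), (0, 1, 29, 0), (0, 0, 19, 0), (0, 2, 19, 0), (3, 0, 3, 4), (0, 2, 24, 0), (0, 5, 11, 0), (3, 0, 6, 7), (0, 8, 19, 0)], (0, 9, 0))]

/-- Refutations, first coordinate 20. -/
def case5_4_20 : List (List (ℕ × ℕ × ℕ × ℕ) × (ℕ × ℕ × ℕ)) := [
  ([(1, 0, 0, 0), (0, 1, 30, 0), (0, 0, 20, 0), (0, 2, 20, 0), (3, 0, 3, 4), (0, 0, 29, 0), (0, 5, 29, 0), (3, 2, 6, 7), (0, 8, 27, 0), (0, 0, 31, 0), (0, 9, 29, 0), (3, 2, 10, 11), (0, 12, 6, 0), (0, 2, 29, 0), (0, 0, 29, 0), (3, 2, 14, 15)], (0, 16, 13)),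
  ([(1, 0, 0, 0), (0, 1, 30, 0), (0, 0, 20, 0), (0, 2, 20, 0), (3, 0, 3, 4), (0, 2, 7, 0), (0, 5, 19, 0), (3, 0, 6, 7), (0, 8, 19, 0)], (0, 9, 0)),
  ([(1, 0, 0, 0), (0, 1, 30, 0), (0, 0, 20, 0), (0, 2, 20, 0), (3, 0, 3, 4), (0, 2, 18, 0), (0, 5, 6, 0), (3, 0, 6, 7), (0, 8, 23, 0)], (0, 9, 0)),
  ([(1, 0, 0, 0), (0, 1, 30, 0), (0, 0, 20, 0), (0, 2, 20, 0), (3, 0, 3, 4), (0, 5, 21, 0), (3, 0, 2, 6), (0, 7, 4, 0)], (0, 8, 0)),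
  ([(1, 0, 0, 0), (0, 1, 30, 0), (0, 0, 20, 0), (0, 2, 20, 0), (3, 0, 3, 4), (0, 2, 12, 0), (0, 5, 24, 0), (3, 0, 6, 7), (0, 8, 11, 0)], (0, 9, 0)),
  ([(1, 0, 0, 0), (0, 1, 30, 0), (0, 2, 18, 0), (0, 2, 6, 0), (3, 0, 3, 4), (0, 5, 23, 0)], (0, 6, 0)),
  ([(1, 0, 0, 0), (0, 1, 30, 0), (0, 0, 20, 0), (0, 2, 20, 0), (3, 0, 3, 4), (0, 2, 10, 0), (0, 5, 30, 0), (3, 0, 6, 7), (0, 8, 7, 0)], (0, 9, 0)),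
  ([(1, 0, 0, 0), (0, 1, 30, 0), (0, 2, 12, 0), (0, 2, 24, 0), (3, 0, 3, 4), (0, 5, 11, 0)], (0, 6, 0)),
  ([(1, 0, 0, 0), (0, 1, 30, 0), (0, 2, 9, 0), (0, 2, 29, 0), (3, 0, 3, 4), (0, 5, 9, 0)], (0, 6, 0)),
  ([(1, 0, 0, 0), (0, 1, 30, 0), (0, 2, 7, 0), (0, 2, 19, 0), (3, 0, 3, 4), (0, 5, 19, 0)], (0, 6, 0)),
  ([(1, 0, 0, 0), (0, 1, 30, 0), (0, 2, 21, 0), (3, 0, 2, 3), (0, 4, 4, 0)], (0, 5, 0)),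
  ([(1, 0, 0, 0), (0, 1, 30, 0), (0, 2, 4, 0), (0, 2, 16, 0), (3, 0, 3, 4), (0, 5, 15, 0)], (0, 6, 0)),
  ([(1, 0, 0, 0), (0, 1, 30, 0), (0, 0, 20, 0), (0, 2, 20, 0), (3, 0, 3, 4), (0, 2, 3, 0), (0, 5, 23, 0), (3, 0, 6, 7), (0, 8, 18, 0)], (0, 9, 0)),
  ([(1, 0, 0, 0), (0, 1, 30, 0), (0, 0, 20, 0), (0, 2, 20, 0), (3, 0, 3, 4), (0, 2, 16, 0), (0, 5, 4, 0), (3, 0, 6, 7), (0, 8, 5, 0)], (0, 9, 0)),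
  ([(1, 0, 0, 0), (0, 1, 30, 0), (0, 0, 20, 0), (0, 2, 20, 0), (3, 0, 3, 4), (0, 2, 5, 0), (0, 5, 17, 0), (3, 0, 6, 7), (0, 8, 21, 0)], (0, 9, 0)),
  ([(1, 0, 0, 0), (0, 1, 30, 0), (0, 2, 19, 0), (0, 2, 7, 0), (3, 0, 3, 4), (0, 5, 25, 0)], (0, 6, 0)),
  ([(1, 0, 0, 0), (0, 1, 30, 0), (0, 2, 10, 0), (0, 2, 30, 0), (3, 0, 3, 4), (0, 5, 7, 0)], (0, 6, 0)),
  ([(1, 0, 0, 0), (0, 1, 30, 0), (0, 2, 24, 0), (0, 2, 12, 0), (3, 0, 3, 4), (0, 5, 3, 0)], (0, 6, 0)),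
  ([(1, 0, 0, 0), (0, 1, 30, 0), (0, 2, 3, 0), (0, 2, 23, 0), (3, 0, 3, 4), (0, 5, 18, 0)], (0, 6, 0)),
  ([(1, 0, 0, 0), (0, 1, 30, 0), (0, 0, 20, 0), (0, 2, 20, 0), (3, 0, 3, 4), (0, 2, 24, 0), (0, 5, 12, 0), (3, 0, 6, 7), (0, 8, 3, 0)], (0, 9, 0)),
  ([(1, 0, 0, 0), (0, 1, 30, 0), (0, 2, 15, 0), (0, 2, 27, 0), (3, 0, 3, 4), (0, 5, 10, 0)], (0, 6, 0)),
  ([(1, 0, 0, 0), (0, 1, 30, 0), (0, 0, 20, 0), (0, 2, 20, 0), (3, 0, 3, 4), (0, 2, 6, 0), (0, 5, 18, 0), (3, 0, 6, 7), (0, 8, 2, 0)], (0, 9, 0)),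
  ([(1, 0, 0, 0), (0, 1, 30, 0), (0, 0, 20, 0), (0, 2, 20, 0), (3, 0, 3, 4), (0, 2, 19, 0), (0, 5, 7, 0), (3, 0, 6, 7), (0, 8, 25, 0)], (0, 9, 0)),
  ([(1, 0, 0, 0), (0, 1, 30, 0), (0, 0, 20, 0), (0, 2, 20, 0), (3, 0, 3, 4), (0, 0, 29, 0), (0, 5, 29, 0), (3, 2, 6, 7), (0, 8, 27, 0), (0, 2, 29, 0), (0, 0, 29, 0), (3, 2, 10, 11)], (0, 12, 9)),
  ([(1, 0, 0, 0), (0, 1, 30, 0), (0, 0, 20, 0), (0, 2, 20, 0), (3, 0, 3, 4), (0, 2, 2, 0), (0, 5, 22, 0), (3, 0, 6, 7), (0, 8, 17, 0)], (0, 9, 0)),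
  ([(1, 0, 0, 0), (0, 1, 30, 0), (0, 2, 16, 0), (0, 2, 4, 0), (3, 0, 3, 4), (0, 5, 5, 0)], (0, 6, 0)),
  ([(1, 0, 0, 0), (0, 1, 30, 0), (0, 0, 20, 0), (0, 2, 20, 0), (3, 0, 3, 4), (0, 2, 4, 0), (0, 5, 16, 0), (3, 0, 6, 7), (0, 8, 15, 0)], (0, 9, 0)),
  ([(1, 0, 0, 0), (0, 1, 30, 0), (0, 2, 6, 0), (0, 2, 18, 0), (3, 0, 3, 4), (0, 5, 2, 0)], (0, 6, 0)),
  ([(1, 0, 0, 0), (0, 1, 30, 0), (0, 2, 5, 0), (0, 2, 17, 0), (3, 0, 3, 4), (0, 5, 21, 0)], (0, 6, 0)),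
  ([(1, 0, 0, 0), (0, 1, 30, 0), (0, 0, 20, 0), (0, 2, 20, 0), (3, 0, 3, 4), (0, 2, 9, 0), (0, 5, 29, 0), (3, 0, 6, 7), (0, 8, 9, 0)], (0, 9, 0)),
  ([(1, 0, 0, 0), (0, 1, 30, 0), (0, 2, 2, 0), (0, 2, 22, 0), (3, 0, 3, 4), (0, 5, 17, 0)], (0, 6, 0)),
  ([(1, 0, 0, 0), (0, 1, 30, 0), (0, 0, 20, 0), (0, 2, 20, 0), (3, 0, 3, 4), (0, 2, 15, 0), (0, 5, 27, 0), (3, 0, 6, 7), (0, 8, 10, 0)], (0, 9, 0))]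

/-- Refutations, first coordinate 21. -/
def case5_4_21 : List (List (ℕ × ℕ × ℕ × ℕ) × (ℕ × ℕ × ℕ)) := [
  ([(1, 0, 0, 0), (0, 1, 26, 0), (0, 0, 21, 0), (0, 2, 21, 0), (3, 0, 3, 4), (0, 5, 28, 0)], (2, 2, 6)),
  ([(1, 0, 0, 0), (0, 1, 26, 0), (0, 0, 21, 0), (0, 2, 21, 0), (3, 0, 3, 4), (0, 2, 22, 0), (0, 5, 3, 0), (3, 0, 6, 7), (0, 8, 27, 0)], (0, 9, 0)),
  ([(1, 0, 0, 0), (0, 1, 26, 0), (0, 2, 6, 0), (0, 2, 19, 0), (3, 0, 3, 4), (0, 5, 5, 0)], (0, 6, 0)),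
  ([(1, 0, 0, 0), (0, 1, 26, 0), (0, 2, 16, 0), (0, 2, 5, 0), (3, 0, 3, 4), (0, 5, 11, 0)], (0, 6, 0)),
  ([(1, 0, 0, 0), (0, 1, 26, 0), (0, 0, 21, 0), (0, 2, 21, 0), (3, 0, 3, 4), (0, 5, 28, 0)], (2, 2, 6)),
  ([(1, 0, 0, 0), (0, 1, 26, 0), (0, 0, 21, 0), (0, 2, 21, 0), (3, 0, 3, 4), (0, 2, 3, 0), (0, 5, 22, 0), (3, 0, 6, 7), (0, 8, 28, 0)], (0, 9, 0)),
  ([(1, 0, 0, 0), (0, 1, 26, 0), (0, 0, 21, 0), (0, 2, 21, 0), (3, 0, 3, 4), (0, 2, 12, 0), (0, 5, 25, 0), (3, 0, 6, 7), (0, 8, 21, 0)], (0, 9, 0)),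
  ([(1, 0, 0, 0), (0, 1, 26, 0), (0, 0, 21, 0), (0, 2, 21, 0), (3, 0, 3, 4), (0, 2, 15, 0), (0, 5, 26, 0), (3, 0, 6, 7), (0, 8, 14, 0)], (0, 9, 0)),
  ([(1, 0, 0, 0), (0, 1, 26, 0), (0, 0, 21, 0), (0, 2, 21, 0), (3, 0, 3, 4), (0, 2, 11, 0), (0, 5, 30, 0), (3, 0, 6, 7), (0, 8, 22, 0)], (0, 9, 0)),
  ([(1, 0, 0, 0), (0, 1, 26, 0), (0, 0, 21, 0), (0, 2, 21, 0), (3, 0, 3, 4), (0, 2, 8, 0), (0, 5, 29, 0), (3, 0, 6, 7), (0, 8, 2, 0)], (0, 9, 0)),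
  ([(1, 0, 0, 0), (0, 1, 26, 0), (0, 2, 4, 0), (0, 2, 17, 0), (3, 0, 3, 4), (0, 5, 18, 0)], (0, 6, 0)),
  ([(1, 0, 0, 0), (0, 1, 26, 0), (0, 0, 21, 0), (0, 2, 21, 0), (3, 0, 3, 4), (0, 2, 4, 0), (0, 5, 17, 0), (3, 0, 6, 7), (0, 8, 18, 0)], (0, 9, 0)),
  ([(1, 0, 0, 0), (0, 1, 26, 0), (0, 2, 12, 0), (0, 2, 25, 0), (3, 0, 3, 4), (0, 5, 21, 0)], (0, 6, 0)),
  ([(1, 0, 0, 0), (0, 1, 26, 0), (0, 2, 18, 0), (0, 2, 7, 0), (3, 0, 3, 4), (0, 5, 8, 0)], (0, 6, 0)),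
  ([(1, 0, 0, 0), (0, 1, 26, 0), (0, 0, 21, 0), (0, 2, 21, 0), (3, 0, 3, 4), (0, 2, 18, 0), (0, 5, 7, 0), (3, 0, 6, 7), (0, 8, 8, 0)], (0, 9, 0)),
  ([(1, 0, 0, 0), (0, 1, 26, 0), (0, 2, 8, 0), (0, 2, 29, 0), (3, 0, 3, 4), (0, 5, 2, 0)], (0, 6, 0)),
  ([(1, 0, 0, 0), (0, 1, 26, 0), (0, 0, 21, 0), (0, 2, 21, 0), (3, 0, 3, 4), (0, 2, 2, 0), (0, 5, 23, 0), (3, 0, 6, 7), (0, 8, 25, 0)], (0, 9, 0)),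
  ([(1, 0, 0, 0), (0, 1, 26, 0), (0, 0, 21, 0), (0, 2, 21, 0), (3, 0, 3, 4), (0, 5, 20, 0), (3, 0, 2, 6), (0, 7, 20, 0)], (0, 8, 0)),
  ([(1, 0, 0, 0), (0, 1, 26, 0), (0, 2, 2, 0), (0, 2, 23, 0), (3, 0, 3, 4), (0, 5, 25, 0)], (0, 6, 0)),
  ([(1, 0, 0, 0), (0, 1, 26, 0), (0, 2, 5, 0), (0, 2, 16, 0), (3, 0, 3, 4), (0, 5, 3, 0)], (0, 6, 0)),
  ([(1, 0, 0, 0), (0, 1, 26, 0), (0, 2, 3, 0), (0, 2, 22, 0), (3, 0, 3, 4), (0, 5, 28, 0)], (0, 6, 0)),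
  ([(1, 0, 0, 0), (0, 1, 26, 0), (0, 2, 10, 0), (0, 2, 31, 0), (3, 0, 3, 4), (0, 5, 24, 0)], (0, 6, 0)),
  ([(1, 0, 0, 0), (0, 1, 26, 0), (0, 2, 22, 0), (0, 2, 3, 0), (3, 0, 3, 4), (0, 5, 27, 0)], (0, 6, 0)),
  ([(1, 0, 0, 0), (0, 1, 26, 0), (0, 2, 15, 0), (0, 2, 26, 0), (3, 0, 3, 4), (0, 5, 14, 0)], (0, 6, 0)),
  ([(1, 0, 0, 0), (0, 1, 26, 0), (0, 2, 20, 0), (3, 0, 2, 3), (0, 4, 20, 0)], (0, 5, 0)),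
  ([(1, 0, 0, 0), (0, 1, 26, 0), (0, 2, 9, 0), (0, 2, 28, 0), (3, 0, 3, 4), (0, 5, 26, 0)], (0, 6, 0)),
  ([(1, 0, 0, 0), (0, 1, 26, 0), (0, 0, 21, 0), (0, 2, 21, 0), (3, 0, 3, 4), (0, 2, 16, 0), (0, 5, 5, 0), (3, 0, 6, 7), (0, 8, 11, 0)], (0, 9, 0)),
  ([(1, 0, 0, 0), (0, 1, 26, 0), (0, 2, 11, 0), (0, 2, 30, 0), (3, 0, 3, 4), (0, 5, 22, 0)], (0, 6, 0)),
  ([(1, 0, 0, 0), (0, 1, 26, 0), (0, 0, 21, 0), (0, 2, 21, 0), (3, 0, 3, 4), (0, 2, 9, 0), (0, 5, 28, 0), (3, 0, 6, 7), (0, 8, 26, 0)], (0, 9, 0)),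
  ([(1, 0, 0, 0), (0, 1, 26, 0), (0, 0, 21, 0), (0, 2, 21, 0), (3, 0, 3, 4), (0, 2, 10, 0), (0, 5, 31, 0), (3, 0, 6, 7), (0, 8, 24, 0)], (0, 9, 0)),
  ([(1, 0, 0, 0), (0, 1, 26, 0), (0, 0, 21, 0), (0, 2, 21, 0), (3, 0, 3, 4), (0, 2, 5, 0), (0, 5, 16, 0), (3, 0, 6, 7), (0, 8, 3, 0)], (0, 9, 0)),
  ([(1, 0, 0, 0), (0, 1, 26, 0), (0, 0, 21, 0), (0, 2, 21, 0), (3, 0, 3, 4), (0, 2, 6, 0), (0, 5, 19, 0), (3, 0, 6, 7), (0, 8, 5, 0)], (0, 9, 0))]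

/-- Refutations, first coordinate 22. -/
def case5_4_22 : List (List (ℕ × ℕ × ℕ × ℕ) × (ℕ × ℕ × ℕ)) := [
  ([(1, 0, 0, 0), (0, 1, 8, 0), (0, 0, 22, 0), (0, 2, 22, 0), (3, 0, 3, 4), (0, 0, 25, 0), (0, 5, 25, 0), (3, 2, 6, 7), (0, 8, 4, 0), (0, 2, 25, 0), (0, 0, 25, 0), (3, 2, 10, 11), (0, 2, 30, 0), (0, 12, 7, 0), (3, 2, 13, 14)], (0, 15, 9)),
  ([(1, 0, 0, 0), (0, 1, 8, 0), (0, 2, 14, 0), (0, 2, 24, 0), (3, 0, 3, 4), (0, 5, 24, 0)], (0, 6, 0)),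
  ([(1, 0, 0, 0), (0, 1, 8, 0), (0, 2, 26, 0), (0, 2, 12, 0), (3, 0, 3, 4), (0, 5, 2, 0)], (0, 6, 0)),
  ([(1, 0, 0, 0), (0, 1, 8, 0), (0, 0, 22, 0), (0, 2, 22, 0), (3, 0, 3, 4), (0, 2, 17, 0), (0, 5, 7, 0), (3, 0, 6, 7), (0, 8, 11, 0)], (0, 9, 0)),
  ([(1, 0, 0, 0), (0, 1, 8, 0), (0, 0, 22, 0), (0, 2, 22, 0), (3, 0, 3, 4), (0, 2, 7, 0), (0, 5, 17, 0), (3, 0, 6, 7), (0, 8, 3, 0)], (0, 9, 0)),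
  ([(1, 0, 0, 0), (0, 1, 8, 0), (0, 0, 22, 0), (0, 2, 22, 0), (3, 0, 3, 4), (0, 2, 13, 0), (0, 5, 27, 0), (3, 0, 6, 7), (0, 8, 18, 0)], (0, 9, 0)),
  ([(1, 0, 0, 0), (0, 1, 8, 0), (0, 2, 6, 0), (0, 2, 16, 0), (3, 0, 3, 4), (0, 5, 9, 0)], (0, 6, 0)),
  ([(1, 0, 0, 0), (0, 1, 8, 0), (0, 0, 22, 0), (0, 2, 22, 0), (3, 0, 3, 4), (0, 0, 25, 0), (0, 5, 25, 0), (3, 2, 6, 7), (0, 8, 4, 0), (0, 2, 25, 0), (0, 0, 25, 0), (3, 2, 10, 11)], (0, 12, 9)),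
  ([(1, 0, 0, 0), (0, 1, 8, 0), (0, 2, 16, 0), (0, 2, 6, 0), (3, 0, 3, 4), (0, 5, 26, 0)], (0, 6, 0)),
  ([(1, 0, 0, 0), (0, 1, 8, 0), (0, 0, 22, 0), (0, 2, 22, 0), (3, 0, 3, 4), (0, 2, 18, 0), (0, 5, 4, 0), (3, 0, 6, 7), (0, 8, 30, 0)], (0, 9, 0)),
  ([(1, 0, 0, 0), (0, 1, 8, 0), (0, 2, 8, 0), (0, 2, 30, 0), (3, 0, 3, 4), (0, 5, 27, 0)], (0, 6, 0)),
  ([(1, 0, 0, 0), (0, 1, 8, 0), (0, 2, 17, 0), (0, 2, 7, 0), (3, 0, 3, 4), (0, 5, 11, 0)], (0, 6, 0)),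
  ([(1, 0, 0, 0), (0, 1, 8, 0), (0, 0, 22, 0), (0, 2, 22, 0), (3, 0, 3, 4), (0, 2, 9, 0), (0, 5, 31, 0), (3, 0, 6, 7), (0, 8, 14, 0)], (0, 9, 0)),
  ([(1, 0, 0, 0), (0, 1, 8, 0), (0, 0, 22, 0), (0, 2, 22, 0), (3, 0, 3, 4), (0, 2, 3, 0), (0, 5, 21, 0), (3, 0, 6, 7), (0, 8, 31, 0)], (0, 9, 0)),
  ([(1, 0, 0, 0), (0, 1, 8, 0), (0, 0, 22, 0), (0, 2, 22, 0), (3, 0, 3, 4), (0, 2, 4, 0), (0, 5, 18, 0), (3, 0, 6, 7), (0, 8, 22, 0)], (0, 9, 0)),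
  ([(1, 0, 0, 0), (0, 1, 8, 0), (0, 0, 22, 0), (0, 2, 22, 0), (3, 0, 3, 4), (0, 2, 14, 0), (0, 5, 24, 0), (3, 0, 6, 7), (0, 8, 24, 0)], (0, 9, 0)),
  ([(1, 0, 0, 0), (0, 1, 8, 0), (0, 2, 9, 0), (0, 2, 31, 0), (3, 0, 3, 4), (0, 5, 14, 0)], (0, 6, 0)),
  ([(1, 0, 0, 0), (0, 1, 8, 0), (0, 0, 22, 0), (0, 2, 22, 0), (3, 0, 3, 4), (0, 5, 23, 0), (3, 0, 2, 6), (0, 7, 13, 0)], (0, 8, 0)),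
  ([(1, 0, 0, 0), (0, 1, 8, 0), (0, 0, 22, 0), (0, 2, 22, 0), (3, 0, 3, 4), (0, 2, 6, 0), (0, 5, 16, 0), (3, 0, 6, 7), (0, 8, 9, 0)], (0, 9, 0)),
  ([(1, 0, 0, 0), (0, 1, 8, 0), (0, 2, 5, 0), (0, 2, 19, 0), (3, 0, 3, 4), (0, 5, 8, 0)], (0, 6, 0)),
  ([(1, 0, 0, 0), (0, 1, 8, 0), (0, 0, 22, 0), (0, 2, 22, 0), (3, 0, 3, 4), (0, 2, 26, 0), (0, 5, 12, 0), (3, 0, 6, 7), (0, 8, 2, 0)], (0, 9, 0)),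
  ([(1, 0, 0, 0), (0, 1, 8, 0), (0, 0, 22, 0), (0, 2, 22, 0), (3, 0, 3, 4), (0, 2, 16, 0), (0, 5, 6, 0), (3, 0, 6, 7), (0, 8, 26, 0)], (0, 9, 0)),
  ([(1, 0, 0, 0), (0, 1, 8, 0), (0, 2, 18, 0), (0, 2, 4, 0), (3, 0, 3, 4), (0, 5, 30, 0)], (0, 6, 0)),
  ([(1, 0, 0, 0), (0, 1, 8, 0), (0, 2, 7, 0), (0, 2, 17, 0), (3, 0, 3, 4), (0, 5, 3, 0)], (0, 6, 0)),
  ([(1, 0, 0, 0), (0, 1, 8, 0), (0, 0, 22, 0), (0, 2, 22, 0), (3, 0, 3, 4), (0, 2, 5, 0), (0, 5, 19, 0), (3, 0, 6, 7), (0, 8, 8, 0)], (0, 9, 0)),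
  ([(1, 0, 0, 0), (0, 1, 8, 0), (0, 2, 4, 0), (0, 2, 18, 0), (3, 0, 3, 4), (0, 5, 22, 0)], (0, 6, 0)),
  ([(1, 0, 0, 0), (0, 1, 8, 0), (0, 0, 22, 0), (0, 2, 22, 0), (3, 0, 3, 4), (0, 2, 8, 0), (0, 5, 30, 0), (3, 0, 6, 7), (0, 8, 27, 0)], (0, 9, 0)),
  ([(1, 0, 0, 0), (0, 1, 8, 0), (0, 0, 22, 0), (0, 2, 22, 0), (3, 0, 3, 4), (0, 2, 2, 0), (0, 5, 20, 0), (3, 0, 6, 7), (0, 8, 19, 0)], (0, 9, 0)),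
  ([(1, 0, 0, 0), (0, 1, 8, 0), (0, 2, 3, 0), (0, 2, 21, 0), (3, 0, 3, 4), (0, 5, 31, 0)], (0, 6, 0)),
  ([(1, 0, 0, 0), (0, 1, 8, 0), (0, 2, 2, 0), (0, 2, 20, 0), (3, 0, 3, 4), (0, 5, 19, 0)], (0, 6, 0)),
  ([(1, 0, 0, 0), (0, 1, 8, 0), (0, 2, 23, 0), (3, 0, 2, 3), (0, 4, 13, 0)], (0, 5, 0)),
  ([(1, 0, 0, 0), (0, 1, 8, 0), (0, 2, 13, 0), (0, 2, 27, 0), (3, 0, 3, 4), (0, 5, 18, 0)], (0, 6, 0))]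

/-- Refutations, first coordinate 23. -/
def case5_4_23 : List (List (ℕ × ℕ × ℕ × ℕ) × (ℕ × ℕ × ℕ)) := [
  ([(1, 0, 0, 0), (0, 1, 5, 0), (0, 0, 23, 0), (0, 2, 23, 0), (3, 0, 3, 4), (0, 5, 24, 0)], (2, 2, 6)),
  ([(1, 0, 0, 0), (0, 1, 5, 0), (0, 2, 4, 0), (0, 2, 19, 0), (3, 0, 3, 4), (0, 5, 26, 0)], (0, 6, 0)),
  ([(1, 0, 0, 0), (0, 1, 5, 0), (0, 2, 11, 0), (0, 2, 28, 0), (3, 0, 3, 4), (0, 5, 14, 0)], (0, 6, 0)),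
  ([(1, 0, 0, 0), (0, 1, 5, 0), (0, 2, 3, 0), (0, 2, 20, 0), (3, 0, 3, 4), (0, 5, 23, 0)], (0, 6, 0)),
  ([(1, 0, 0, 0), (0, 1, 5, 0), (0, 0, 23, 0), (0, 2, 23, 0), (3, 0, 3, 4), (0, 2, 10, 0), (0, 5, 29, 0), (3, 0, 6, 7), (0, 8, 18, 0)], (0, 9, 0)),
  ([(1, 0, 0, 0), (0, 1, 5, 0), (0, 2, 5, 0), (0, 2, 18, 0), (3, 0, 3, 4), (0, 5, 25, 0)], (0, 6, 0)),
  ([(1, 0, 0, 0), (0, 1, 5, 0), (0, 0, 23, 0), (0, 2, 23, 0), (3, 0, 3, 4), (0, 2, 4, 0), (0, 5, 19, 0), (3, 0, 6, 7), (0, 8, 26, 0)], (0, 9, 0)),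
  ([(1, 0, 0, 0), (0, 1, 5, 0), (0, 2, 18, 0), (0, 2, 5, 0), (3, 0, 3, 4), (0, 5, 19, 0)], (0, 6, 0)),
  ([(1, 0, 0, 0), (0, 1, 5, 0), (0, 2, 2, 0), (0, 2, 21, 0), (3, 0, 3, 4), (0, 5, 27, 0)], (0, 6, 0)),
  ([(1, 0, 0, 0), (0, 1, 5, 0), (0, 2, 20, 0), (0, 2, 3, 0), (3, 0, 3, 4), (0, 5, 2, 0)], (0, 6, 0)),
  ([(1, 0, 0, 0), (0, 1, 5, 0), (0, 0, 23, 0), (0, 2, 23, 0), (3, 0, 3, 4), (0, 2, 2, 0), (0, 5, 21, 0), (3, 0, 6, 7), (0, 8, 27, 0)], (0, 9, 0)),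
  ([(1, 0, 0, 0), (0, 1, 5, 0), (0, 2, 16, 0), (0, 2, 7, 0), (3, 0, 3, 4), (0, 5, 20, 0)], (0, 6, 0)),
  ([(1, 0, 0, 0), (0, 1, 5, 0), (0, 2, 7, 0), (0, 2, 16, 0), (3, 0, 3, 4), (0, 5, 10, 0)], (0, 6, 0)),
  ([(1, 0, 0, 0), (0, 1, 5, 0), (0, 0, 23, 0), (0, 2, 23, 0), (3, 0, 3, 4), (0, 5, 24, 0)], (2, 2, 6)),
  ([(1, 0, 0, 0), (0, 1, 5, 0), (0, 2, 10, 0), (0, 2, 29, 0), (3, 0, 3, 4), (0, 5, 18, 0)], (0, 6, 0)),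
  ([(1, 0, 0, 0), (0, 1, 5, 0), (0, 0, 23, 0), (0, 2, 23, 0), (3, 0, 3, 4), (0, 2, 14, 0), (0, 5, 25, 0), (3, 0, 6, 7), (0, 8, 16, 0)], (0, 9, 0)),
  ([(1, 0, 0, 0), (0, 1, 5, 0), (0, 0, 23, 0), (0, 2, 23, 0), (3, 0, 3, 4), (0, 2, 20, 0), (0, 5, 3, 0), (3, 0, 6, 7), (0, 8, 2, 0)], (0, 9, 0)),
  ([(1, 0, 0, 0), (0, 1, 5, 0), (0, 0, 23, 0), (0, 2, 23, 0), (3, 0, 3, 4), (0, 2, 5, 0), (0, 5, 18, 0), (3, 0, 6, 7), (0, 8, 25, 0)], (0, 9, 0)),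
  ([(1, 0, 0, 0), (0, 1, 5, 0), (0, 2, 14, 0), (0, 2, 25, 0), (3, 0, 3, 4), (0, 5, 16, 0)], (0, 6, 0)),
  ([(1, 0, 0, 0), (0, 1, 5, 0), (0, 0, 23, 0), (0, 2, 23, 0), (3, 0, 3, 4), (0, 2, 11, 0), (0, 5, 28, 0), (3, 0, 6, 7), (0, 8, 14, 0)], (0, 9, 0)),
  ([(1, 0, 0, 0), (0, 1, 5, 0), (0, 0, 23, 0), (0, 2, 23, 0), (3, 0, 3, 4), (0, 2, 9, 0), (0, 5, 30, 0), (3, 0, 6, 7), (0, 8, 13, 0)], (0, 9, 0)),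
  ([(1, 0, 0, 0), (0, 1, 5, 0), (0, 2, 22, 0), (3, 0, 2, 3), (0, 4, 22, 0)], (0, 5, 0)),
  ([(1, 0, 0, 0), (0, 1, 5, 0), (0, 0, 23, 0), (0, 2, 23, 0), (3, 0, 3, 4), (0, 2, 7, 0), (0, 5, 16, 0), (3, 0, 6, 7), (0, 8, 10, 0)], (0, 9, 0)),
  ([(1, 0, 0, 0), (0, 1, 5, 0), (0, 0, 23, 0), (0, 2, 23, 0), (3, 0, 3, 4), (0, 2, 22, 0), (3, 0, 6, 5), (0, 7, 30, 0)], (0, 8, 0)),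
  ([(1, 0, 0, 0), (0, 1, 5, 0), (0, 2, 9, 0), (0, 2, 30, 0), (3, 0, 3, 4), (0, 5, 13, 0)], (0, 6, 0)),
  ([(1, 0, 0, 0), (0, 1, 5, 0), (0, 2, 22, 0), (3, 0, 3, 2), (0, 4, 30, 0)], (0, 5, 0)),
  ([(1, 0, 0, 0), (0, 1, 5, 0), (0, 0, 23, 0), (0, 2, 23, 0), (3, 0, 3, 4), (0, 5, 22, 0), (3, 0, 2, 6), (0, 7, 22, 0)], (0, 8, 0)),
  ([(1, 0, 0, 0), (0, 1, 5, 0), (0, 0, 23, 0), (0, 2, 23, 0), (3, 0, 3, 4), (0, 2, 16, 0), (0, 5, 7, 0), (3, 0, 6, 7), (0, 8, 20, 0)], (0, 9, 0)),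
  ([(1, 0, 0, 0), (0, 1, 5, 0), (0, 0, 23, 0), (0, 2, 23, 0), (3, 0, 3, 4), (0, 2, 18, 0), (0, 5, 5, 0), (3, 0, 6, 7), (0, 8, 19, 0)], (0, 9, 0)),
  ([(1, 0, 0, 0), (0, 1, 5, 0), (0, 0, 23, 0), (0, 2, 23, 0), (3, 0, 3, 4), (0, 2, 3, 0), (0, 5, 20, 0), (3, 0, 6, 7), (0, 8, 23, 0)], (0, 9, 0)),
  ([(1, 0, 0, 0), (0, 1, 5, 0), (0, 2, 13, 0), (0, 2, 26, 0), (3, 0, 3, 4), (0, 5, 11, 0)], (0, 6, 0)),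
  ([(1, 0, 0, 0), (0, 1, 5, 0), (0, 0, 23, 0), (0, 2, 23, 0), (3, 0, 3, 4), (0, 2, 13, 0), (0, 5, 26, 0), (3, 0, 6, 7), (0, 8, 11, 0)], (0, 9, 0))]

/-- Refutations, first coordinate 24. -/
def case5_4_24 : List (List (ℕ × ℕ × ℕ × ℕ) × (ℕ × ℕ × ℕ)) := [
  ([(1, 0, 0, 0), (0, 1, 17, 0), (0, 0, 24, 0), (0, 2, 24, 0), (3, 0, 3, 4), (0, 5, 7, 0)], (2, 2, 6)),
  ([(1, 0, 0, 0), (0, 1, 17, 0), (0, 2, 16, 0), (0, 2, 8, 0), (3, 0, 3, 4), (0, 5, 3, 0)], (0, 6, 0)),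
  ([(1, 0, 0, 0), (0, 1, 17, 0), (0, 2, 8, 0), (0, 2, 16, 0), (3, 0, 3, 4), (0, 5, 11, 0)], (0, 6, 0)),
  ([(1, 0, 0, 0), (0, 1, 17, 0), (0, 0, 24, 0), (0, 2, 24, 0), (3, 0, 3, 4), (0, 5, 25, 0), (3, 0, 2, 6), (0, 7, 25, 0)], (0, 8, 0)),
  ([(1, 0, 0, 0), (0, 1, 17, 0), (0, 0, 24, 0), (0, 2, 24, 0), (3, 0, 3, 4), (0, 2, 6, 0), (0, 5, 30, 0), (3, 0, 6, 7), (0, 8, 21, 0)], (0, 9, 0)),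
  ([(1, 0, 0, 0), (0, 1, 17, 0), (0, 2, 5, 0), (0, 2, 29, 0), (3, 0, 3, 4), (0, 5, 24, 0)], (0, 6, 0)),
  ([(1, 0, 0, 0), (0, 1, 17, 0), (0, 0, 24, 0), (0, 2, 24, 0), (3, 0, 3, 4), (0, 2, 19, 0), (0, 5, 11, 0), (3, 0, 6, 7), (0, 8, 28, 0)], (0, 9, 0)),
  ([(1, 0, 0, 0), (0, 1, 17, 0), (0, 2, 11, 0), (0, 2, 19, 0), (3, 0, 3, 4), (0, 5, 27, 0)], (0, 6, 0)),
  ([(1, 0, 0, 0), (0, 1, 17, 0), (0, 2, 6, 0), (0, 2, 30, 0), (3, 0, 3, 4), (0, 5, 21, 0)], (0, 6, 0)),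
  ([(1, 0, 0, 0), (0, 1, 17, 0), (0, 0, 24, 0), (0, 2, 24, 0), (3, 0, 3, 4), (0, 2, 3, 0), (0, 5, 27, 0), (3, 0, 6, 7), (0, 8, 5, 0)], (0, 9, 0)),
  ([(1, 0, 0, 0), (0, 1, 17, 0), (0, 2, 4, 0), (0, 2, 28, 0), (3, 0, 3, 4), (0, 5, 2, 0)], (0, 6, 0)),
  ([(1, 0, 0, 0), (0, 1, 17, 0), (0, 0, 24, 0), (0, 2, 24, 0), (3, 0, 3, 4), (0, 2, 22, 0), (0, 5, 14, 0), (3, 0, 6, 7), (0, 8, 26, 0)], (0, 9, 0)),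
  ([(1, 0, 0, 0), (0, 1, 17, 0), (0, 2, 2, 0), (0, 2, 26, 0), (3, 0, 3, 4), (0, 5, 18, 0)], (0, 6, 0)),
  ([(1, 0, 0, 0), (0, 1, 17, 0), (0, 2, 22, 0), (0, 2, 14, 0), (3, 0, 3, 4), (0, 5, 26, 0)], (0, 6, 0)),
  ([(1, 0, 0, 0), (0, 1, 17, 0), (0, 0, 24, 0), (0, 2, 24, 0), (3, 0, 3, 4), (0, 2, 4, 0), (0, 5, 28, 0), (3, 0, 6, 7), (0, 8, 2, 0)], (0, 9, 0)),
  ([(1, 0, 0, 0), (0, 1, 17, 0), (0, 0, 24, 0), (0, 2, 24, 0), (3, 0, 3, 4), (0, 2, 8, 0), (0, 5, 16, 0), (3, 0, 6, 7), (0, 8, 11, 0)], (0, 9, 0)),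
  ([(1, 0, 0, 0), (0, 1, 17, 0), (0, 0, 24, 0), (0, 2, 24, 0), (3, 0, 3, 4), (0, 2, 14, 0), (0, 5, 22, 0), (3, 0, 6, 7), (0, 8, 9, 0)], (0, 9, 0)),
  ([(1, 0, 0, 0), (0, 1, 17, 0), (0, 0, 24, 0), (0, 2, 24, 0), (3, 0, 3, 4), (0, 2, 2, 0), (0, 5, 26, 0), (3, 0, 6, 7), (0, 8, 18, 0)], (0, 9, 0)),
  ([(1, 0, 0, 0), (0, 1, 17, 0), (0, 2, 23, 0), (0, 2, 15, 0), (3, 0, 3, 4), (0, 5, 22, 0)], (0, 6, 0)),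
  ([(1, 0, 0, 0), (0, 1, 17, 0), (0, 0, 24, 0), (0, 2, 24, 0), (3, 0, 3, 4), (0, 2, 23, 0), (0, 5, 15, 0), (3, 0, 6, 7), (0, 8, 22, 0)], (0, 9, 0)),
  ([(1, 0, 0, 0), (0, 1, 17, 0), (0, 0, 24, 0), (0, 2, 24, 0), (3, 0, 3, 4), (0, 2, 16, 0), (0, 5, 8, 0), (3, 0, 6, 7), (0, 8, 3, 0)], (0, 9, 0)),
  ([(1, 0, 0, 0), (0, 1, 17, 0), (0, 2, 9, 0), (0, 2, 17, 0), (3, 0, 3, 4), (0, 5, 8, 0)], (0, 6, 0)),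
  ([(1, 0, 0, 0), (0, 1, 17, 0), (0, 0, 24, 0), (0, 2, 24, 0), (3, 0, 3, 4), (0, 2, 5, 0), (0, 5, 29, 0), (3, 0, 6, 7), (0, 8, 24, 0)], (0, 9, 0)),
  ([(1, 0, 0, 0), (0, 1, 17, 0), (0, 0, 24, 0), (0, 2, 24, 0), (3, 0, 3, 4), (0, 2, 9, 0), (0, 5, 17, 0), (3, 0, 6, 7), (0, 8, 8, 0)], (0, 9, 0)),
  ([(1, 0, 0, 0), (0, 1, 17, 0), (0, 2, 19, 0), (0, 2, 11, 0), (3, 0, 3, 4), (0, 5, 28, 0)], (0, 6, 0)),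
  ([(1, 0, 0, 0), (0, 1, 17, 0), (0, 2, 12, 0), (0, 2, 20, 0), (3, 0, 3, 4), (0, 5, 7, 0)], (0, 6, 0)),
  ([(1, 0, 0, 0), (0, 1, 17, 0), (0, 0, 24, 0), (0, 2, 24, 0), (3, 0, 3, 4), (0, 2, 12, 0), (0, 5, 20, 0), (3, 0, 6, 7), (0, 8, 7, 0)], (0, 9, 0)),
  ([(1, 0, 0, 0), (0, 1, 17, 0), (0, 0, 24, 0), (0, 2, 24, 0), (3, 0, 3, 4), (0, 5, 7, 0)], (2, 2, 6)),
  ([(1, 0, 0, 0), (0, 1, 17, 0), (0, 2, 25, 0), (3, 0, 2, 3), (0, 4, 25, 0)], (0, 5, 0)),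
  ([(1, 0, 0, 0), (0, 1, 17, 0), (0, 0, 24, 0), (0, 2, 24, 0), (3, 0, 3, 4), (0, 2, 11, 0), (0, 5, 19, 0), (3, 0, 6, 7), (0, 8, 27, 0)], (0, 9, 0)),
  ([(1, 0, 0, 0), (0, 1, 17, 0), (0, 2, 14, 0), (0, 2, 22, 0), (3, 0, 3, 4), (0, 5, 9, 0)], (0, 6, 0)),
  ([(1, 0, 0, 0), (0, 1, 17, 0), (0, 2, 3, 0), (0, 2, 27, 0), (3, 0, 3, 4), (0, 5, 5, 0)], (0, 6, 0))]

/-- Refutations, first coordinate 25. -/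
def case5_4_25 : List (List (ℕ × ℕ × ℕ × ℕ) × (ℕ × ℕ × ℕ)) := [
  ([(1, 0, 0, 0), (0, 1, 10, 0), (0, 0, 25, 0), (0, 2, 25, 0), (3, 0, 3, 4), (0, 0, 6, 0), (0, 5, 6, 0), (3, 2, 6, 7), (0, 8, 16, 0), (0, 0, 11, 0), (0, 9, 6, 0), (3, 2, 10, 11), (0, 12, 22, 0), (0, 0, 25, 0), (0, 13, 6, 0), (3, 2, 14, 15)], (0, 16, 0)),
  ([(1, 0, 0, 0), (0, 1, 10, 0), (0, 0, 25, 0), (0, 2, 25, 0), (3, 0, 3, 4), (0, 2, 23, 0), (0, 5, 14, 0), (3, 0, 6, 7), (0, 8, 14, 0)], (0, 9, 0)),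
  ([(1, 0, 0, 0), (0, 1, 10, 0), (0, 0, 25, 0), (0, 2, 25, 0), (3, 0, 3, 4), (0, 2, 4, 0), (0, 5, 29, 0), (3, 0, 6, 7), (0, 8, 8, 0)], (0, 9, 0)),
  ([(1, 0, 0, 0), (0, 1, 10, 0), (0, 0, 25, 0), (0, 2, 25, 0), (3, 0, 3, 4), (0, 2, 10, 0), (0, 5, 19, 0), (3, 0, 6, 7), (0, 8, 2, 0)], (0, 9, 0)),
  ([(1, 0, 0, 0), (0, 1, 10, 0), (0, 0, 25, 0), (0, 2, 25, 0), (3, 0, 3, 4), (0, 2, 2, 0), (0, 5, 27, 0), (3, 0, 6, 7), (0, 8, 26, 0)], (0, 9, 0)),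
  ([(1, 0, 0, 0), (0, 1, 10, 0), (0, 0, 25, 0), (0, 2, 25, 0), (3, 0, 3, 4), (0, 2, 12, 0), (0, 5, 21, 0), (3, 0, 6, 7), (0, 8, 15, 0)], (0, 9, 0)),
  ([(1, 0, 0, 0), (0, 1, 10, 0), (0, 2, 16, 0), (0, 2, 9, 0), (3, 0, 3, 4), (0, 5, 25, 0)], (0, 6, 0)),
  ([(1, 0, 0, 0), (0, 1, 10, 0), (0, 0, 25, 0), (0, 2, 25, 0), (3, 0, 3, 4), (0, 2, 17, 0), (0, 5, 8, 0), (3, 0, 6, 7), (0, 8, 10, 0)], (0, 9, 0)),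
  ([(1, 0, 0, 0), (0, 1, 10, 0), (0, 2, 17, 0), (0, 2, 8, 0), (3, 0, 3, 4), (0, 5, 10, 0)], (0, 6, 0)),
  ([(1, 0, 0, 0), (0, 1, 10, 0), (0, 2, 14, 0), (0, 2, 23, 0), (3, 0, 3, 4), (0, 5, 29, 0)], (0, 6, 0)),
  ([(1, 0, 0, 0), (0, 1, 10, 0), (0, 0, 25, 0), (0, 2, 25, 0), (3, 0, 3, 4), (0, 2, 7, 0), (0, 5, 30, 0), (3, 0, 6, 7), (0, 8, 16, 0)], (0, 9, 0)),
  ([(1, 0, 0, 0), (0, 1, 10, 0), (0, 0, 25, 0), (0, 2, 25, 0), (3, 0, 3, 4), (0, 2, 9, 0), (0, 5, 16, 0), (3, 0, 6, 7), (0, 8, 19, 0)], (0, 9, 0)),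
  ([(1, 0, 0, 0), (0, 1, 10, 0), (0, 0, 25, 0), (0, 2, 25, 0), (3, 0, 3, 4), (0, 5, 24, 0), (3, 0, 2, 6), (0, 7, 27, 0)], (0, 8, 0)),
  ([(1, 0, 0, 0), (0, 1, 10, 0), (0, 2, 11, 0), (0, 2, 18, 0), (3, 0, 3, 4), (0, 5, 30, 0)], (0, 6, 0)),
  ([(1, 0, 0, 0), (0, 1, 10, 0), (0, 2, 10, 0), (0, 2, 19, 0), (3, 0, 3, 4), (0, 5, 2, 0)], (0, 6, 0)),
  ([(1, 0, 0, 0), (0, 1, 10, 0), (0, 2, 12, 0), (0, 2, 21, 0), (3, 0, 3, 4), (0, 5, 15, 0)], (0, 6, 0)),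
  ([(1, 0, 0, 0), (0, 1, 10, 0), (0, 0, 25, 0), (0, 2, 25, 0), (3, 0, 3, 4), (0, 2, 21, 0), (0, 5, 12, 0), (3, 0, 6, 7), (0, 8, 5, 0)], (0, 9, 0)),
  ([(1, 0, 0, 0), (0, 1, 10, 0), (0, 2, 8, 0), (0, 2, 17, 0), (3, 0, 3, 4), (0, 5, 20, 0)], (0, 6, 0)),
  ([(1, 0, 0, 0), (0, 1, 10, 0), (0, 0, 25, 0), (0, 2, 25, 0), (3, 0, 3, 4), (0, 2, 8, 0), (0, 5, 17, 0), (3, 0, 6, 7), (0, 8, 20, 0)], (0, 9, 0)),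
  ([(1, 0, 0, 0), (0, 1, 10, 0), (0, 2, 24, 0), (3, 0, 2, 3), (0, 4, 27, 0)], (0, 5, 0)),
  ([(1, 0, 0, 0), (0, 1, 10, 0), (0, 0, 25, 0), (0, 2, 25, 0), (3, 0, 3, 4), (0, 2, 14, 0), (0, 5, 23, 0), (3, 0, 6, 7), (0, 8, 29, 0)], (0, 9, 0)),
  ([(1, 0, 0, 0), (0, 1, 10, 0), (0, 0, 25, 0), (0, 2, 25, 0), (3, 0, 3, 4), (0, 0, 6, 0), (0, 5, 6, 0), (3, 2, 6, 7), (0, 8, 16, 0), (0, 0, 25, 0), (0, 9, 6, 0), (3, 2, 10, 11)], (0, 12, 0)),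
  ([(1, 0, 0, 0), (0, 1, 10, 0), (0, 2, 4, 0), (0, 2, 29, 0), (3, 0, 3, 4), (0, 5, 8, 0)], (0, 6, 0)),
  ([(1, 0, 0, 0), (0, 1, 10, 0), (0, 2, 5, 0), (0, 2, 28, 0), (3, 0, 3, 4), (0, 5, 18, 0)], (0, 6, 0)),
  ([(1, 0, 0, 0), (0, 1, 10, 0), (0, 2, 21, 0), (0, 2, 12, 0), (3, 0, 3, 4), (0, 5, 5, 0)], (0, 6, 0)),
  ([(1, 0, 0, 0), (0, 1, 10, 0), (0, 2, 9, 0), (0, 2, 16, 0), (3, 0, 3, 4), (0, 5, 19, 0)], (0, 6, 0)),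
  ([(1, 0, 0, 0), (0, 1, 10, 0), (0, 0, 25, 0), (0, 2, 25, 0), (3, 0, 3, 4), (0, 2, 11, 0), (0, 5, 18, 0), (3, 0, 6, 7), (0, 8, 30, 0)], (0, 9, 0)),
  ([(1, 0, 0, 0), (0, 1, 10, 0), (0, 0, 25, 0), (0, 2, 25, 0), (3, 0, 3, 4), (0, 2, 5, 0), (0, 5, 28, 0), (3, 0, 6, 7), (0, 8, 18, 0)], (0, 9, 0)),
  ([(1, 0, 0, 0), (0, 1, 10, 0), (0, 2, 7, 0), (0, 2, 30, 0), (3, 0, 3, 4), (0, 5, 16, 0)], (0, 6, 0)),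
  ([(1, 0, 0, 0), (0, 1, 10, 0), (0, 2, 2, 0), (0, 2, 27, 0), (3, 0, 3, 4), (0, 5, 26, 0)], (0, 6, 0)),
  ([(1, 0, 0, 0), (0, 1, 10, 0), (0, 0, 25, 0), (0, 2, 25, 0), (3, 0, 3, 4), (0, 2, 16, 0), (0, 5, 9, 0), (3, 0, 6, 7), (0, 8, 25, 0)], (0, 9, 0)),
  ([(1, 0, 0, 0), (0, 1, 10, 0), (0, 2, 23, 0), (0, 2, 14, 0), (3, 0, 3, 4), (0, 5, 14, 0)], (0, 6, 0))]

/-- Refutations, first coordinate 26. -/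
def case5_4_26 : List (List (ℕ × ℕ × ℕ × ℕ) × (ℕ × ℕ × ℕ)) := [
  ([(1, 0, 0, 0), (0, 1, 21, 0), (0, 0, 26, 0), (0, 2, 26, 0), (3, 0, 3, 4), (0, 5, 3, 0)], (2, 2, 6)),
  ([(1, 0, 0, 0), (0, 1, 21, 0), (0, 0, 26, 0), (0, 2, 26, 0), (3, 0, 3, 4), (0, 2, 6, 0), (0, 5, 28, 0), (3, 0, 6, 7), (0, 8, 25, 0)], (0, 9, 0)),
  ([(1, 0, 0, 0), (0, 1, 21, 0), (0, 0, 26, 0), (0, 2, 26, 0), (3, 0, 3, 4), (0, 2, 5, 0), (0, 5, 31, 0), (3, 0, 6, 7), (0, 8, 28, 0)], (0, 9, 0)),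
  ([(1, 0, 0, 0), (0, 1, 21, 0), (0, 0, 26, 0), (0, 2, 26, 0), (3, 0, 3, 4), (0, 2, 25, 0), (0, 5, 3, 0), (3, 0, 6, 7), (0, 8, 10, 0)], (0, 9, 0)),
  ([(1, 0, 0, 0), (0, 1, 21, 0), (0, 0, 26, 0), (0, 2, 26, 0), (3, 0, 3, 4), (0, 2, 9, 0), (0, 5, 19, 0), (3, 0, 6, 7), (0, 8, 6, 0)], (0, 9, 0)),
  ([(1, 0, 0, 0), (0, 1, 21, 0), (0, 2, 11, 0), (0, 2, 17, 0), (3, 0, 3, 4), (0, 5, 29, 0)], (0, 6, 0)),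
  ([(1, 0, 0, 0), (0, 1, 21, 0), (0, 0, 26, 0), (0, 2, 26, 0), (3, 0, 3, 4), (0, 2, 22, 0), (0, 5, 12, 0), (3, 0, 6, 7), (0, 8, 12, 0)], (0, 9, 0)),
  ([(1, 0, 0, 0), (0, 1, 21, 0), (0, 0, 26, 0), (0, 2, 26, 0), (3, 0, 3, 4), (0, 2, 10, 0), (0, 5, 16, 0), (3, 0, 6, 7), (0, 8, 5, 0)], (0, 9, 0)),
  ([(1, 0, 0, 0), (0, 1, 21, 0), (0, 2, 5, 0), (0, 2, 31, 0), (3, 0, 3, 4), (0, 5, 28, 0)], (0, 6, 0)),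
  ([(1, 0, 0, 0), (0, 1, 21, 0), (0, 0, 26, 0), (0, 2, 26, 0), (3, 0, 3, 4), (0, 5, 3, 0)], (2, 2, 6)),
  ([(1, 0, 0, 0), (0, 1, 21, 0), (0, 2, 27, 0), (3, 0, 2, 3), (0, 4, 9, 0)], (0, 5, 0)),
  ([(1, 0, 0, 0), (0, 1, 21, 0), (0, 2, 8, 0), (0, 2, 18, 0), (3, 0, 3, 4), (0, 5, 17, 0)], (0, 6, 0)),
  ([(1, 0, 0, 0), (0, 1, 21, 0), (0, 0, 26, 0), (0, 2, 26, 0), (3, 0, 3, 4), (0, 2, 15, 0), (0, 5, 21, 0), (3, 0, 6, 7), (0, 8, 3, 0)], (0, 9, 0)),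
  ([(1, 0, 0, 0), (0, 1, 21, 0), (0, 2, 2, 0), (0, 2, 24, 0), (3, 0, 3, 4), (0, 5, 23, 0)], (0, 6, 0)),
  ([(1, 0, 0, 0), (0, 1, 21, 0), (0, 0, 26, 0), (0, 2, 26, 0), (3, 0, 3, 4), (0, 2, 16, 0), (0, 5, 10, 0), (3, 0, 6, 7), (0, 8, 15, 0)], (0, 9, 0)),
  ([(1, 0, 0, 0), (0, 1, 21, 0), (0, 2, 9, 0), (0, 2, 19, 0), (3, 0, 3, 4), (0, 5, 6, 0)], (0, 6, 0)),
  ([(1, 0, 0, 0), (0, 1, 21, 0), (0, 0, 26, 0), (0, 2, 26, 0), (3, 0, 3, 4), (0, 2, 2, 0), (0, 5, 24, 0), (3, 0, 6, 7), (0, 8, 23, 0)], (0, 9, 0)),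
  ([(1, 0, 0, 0), (0, 1, 21, 0), (0, 2, 25, 0), (0, 2, 3, 0), (3, 0, 3, 4), (0, 5, 10, 0)], (0, 6, 0)),
  ([(1, 0, 0, 0), (0, 1, 21, 0), (0, 2, 16, 0), (0, 2, 10, 0), (3, 0, 3, 4), (0, 5, 15, 0)], (0, 6, 0)),
  ([(1, 0, 0, 0), (0, 1, 21, 0), (0, 0, 26, 0), (0, 2, 26, 0), (3, 0, 3, 4), (0, 5, 27, 0), (3, 0, 2, 6), (0, 7, 9, 0)], (0, 8, 0)),
  ([(1, 0, 0, 0), (0, 1, 21, 0), (0, 2, 13, 0), (0, 2, 23, 0), (3, 0, 3, 4), (0, 5, 7, 0)], (0, 6, 0)),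
  ([(1, 0, 0, 0), (0, 1, 21, 0), (0, 0, 26, 0), (0, 2, 26, 0), (3, 0, 3, 4), (0, 2, 13, 0), (0, 5, 23, 0), (3, 0, 6, 7), (0, 8, 7, 0)], (0, 9, 0)),
  ([(1, 0, 0, 0), (0, 1, 21, 0), (0, 2, 10, 0), (0, 2, 16, 0), (3, 0, 3, 4), (0, 5, 5, 0)], (0, 6, 0)),
  ([(1, 0, 0, 0), (0, 1, 21, 0), (0, 2, 6, 0), (0, 2, 28, 0), (3, 0, 3, 4), (0, 5, 25, 0)], (0, 6, 0)),
  ([(1, 0, 0, 0), (0, 1, 21, 0), (0, 0, 26, 0), (0, 2, 26, 0), (3, 0, 3, 4), (0, 2, 4, 0), (0, 5, 30, 0), (3, 0, 6, 7), (0, 8, 4, 0)], (0, 9, 0)),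
  ([(1, 0, 0, 0), (0, 1, 21, 0), (0, 2, 22, 0), (0, 2, 12, 0), (3, 0, 3, 4), (0, 5, 12, 0)], (0, 6, 0)),
  ([(1, 0, 0, 0), (0, 1, 21, 0), (0, 2, 4, 0), (0, 2, 30, 0), (3, 0, 3, 4), (0, 5, 4, 0)], (0, 6, 0)),
  ([(1, 0, 0, 0), (0, 1, 21, 0), (0, 0, 26, 0), (0, 2, 26, 0), (3, 0, 3, 4), (0, 2, 7, 0), (0, 5, 29, 0), (3, 0, 6, 7), (0, 8, 30, 0)], (0, 9, 0)),
  ([(1, 0, 0, 0), (0, 1, 21, 0), (0, 2, 15, 0), (0, 2, 21, 0), (3, 0, 3, 4), (0, 5, 3, 0)], (0, 6, 0)),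
  ([(1, 0, 0, 0), (0, 1, 21, 0), (0, 0, 26, 0), (0, 2, 26, 0), (3, 0, 3, 4), (0, 2, 11, 0), (0, 5, 17, 0), (3, 0, 6, 7), (0, 8, 29, 0)], (0, 9, 0)),
  ([(1, 0, 0, 0), (0, 1, 21, 0), (0, 0, 26, 0), (0, 2, 26, 0), (3, 0, 3, 4), (0, 2, 8, 0), (0, 5, 18, 0), (3, 0, 6, 7), (0, 8, 17, 0)], (0, 9, 0)),
  ([(1, 0, 0, 0), (0, 1, 21, 0), (0, 2, 7, 0), (0, 2, 29, 0), (3, 0, 3, 4), (0, 5, 30, 0)], (0, 6, 0))]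

/-- Refutations, first coordinate 27. -/
def case5_4_27 : List (List (ℕ × ℕ × ℕ × ℕ) × (ℕ × ℕ × ℕ)) := [
  ([(1, 0, 0, 0), (0, 1, 31, 0), (0, 0, 27, 0), (0, 2, 27, 0), (3, 0, 3, 4), (0, 0, 2, 0), (0, 5, 2, 0), (3, 2, 6, 7), (0, 8, 20, 0), (0, 0, 3, 0), (0, 9, 2, 0), (3, 2, 10, 11), (0, 12, 22, 0), (0, 0, 20, 0), (0, 13, 2, 0), (3, 2, 14, 15), (0, 16, 31, 0), (0, 0, 21, 0), (0, 17, 2, 0), (3, 2, 18, 19), (0, 20, 17, 0)], (0, 21, 13)),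
  ([(1, 0, 0, 0), (0, 1, 31, 0), (0, 2, 8, 0), (0, 2, 19, 0), (3, 0, 3, 4), (0, 5, 29, 0)], (0, 6, 0)),
  ([(1, 0, 0, 0), (0, 1, 31, 0), (0, 2, 20, 0), (0, 2, 15, 0), (3, 0, 3, 4), (0, 5, 9, 0)], (0, 6, 0)),
  ([(1, 0, 0, 0), (0, 1, 31, 0), (0, 2, 5, 0), (0, 2, 30, 0), (3, 0, 3, 4), (0, 5, 6, 0)], (0, 6, 0)),
  ([(1, 0, 0, 0), (0, 1, 31, 0), (0, 0, 27, 0), (0, 2, 27, 0), (3, 0, 3, 4), (0, 2, 19, 0), (0, 5, 8, 0), (3, 0, 6, 7), (0, 8, 14, 0)], (0, 9, 0)),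
  ([(1, 0, 0, 0), (0, 1, 31, 0), (0, 0, 27, 0), (0, 2, 27, 0), (3, 0, 3, 4), (0, 5, 26, 0), (3, 0, 2, 6), (0, 7, 24, 0)], (0, 8, 0)),
  ([(1, 0, 0, 0), (0, 1, 31, 0), (0, 0, 27, 0), (0, 2, 27, 0), (3, 0, 3, 4), (0, 2, 17, 0), (0, 5, 10, 0), (3, 0, 6, 7), (0, 8, 17, 0)], (0, 9, 0)),
  ([(1, 0, 0, 0), (0, 1, 31, 0), (0, 0, 27, 0), (0, 2, 27, 0), (3, 0, 3, 4), (0, 2, 3, 0), (0, 5, 24, 0), (3, 0, 6, 7), (0, 8, 30, 0)], (0, 9, 0)),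
  ([(1, 0, 0, 0), (0, 1, 31, 0), (0, 2, 13, 0), (0, 2, 22, 0), (3, 0, 3, 4), (0, 5, 23, 0)], (0, 6, 0)),
  ([(1, 0, 0, 0), (0, 1, 31, 0), (0, 0, 27, 0), (0, 2, 27, 0), (3, 0, 3, 4), (0, 2, 12, 0), (0, 5, 23, 0), (3, 0, 6, 7), (0, 8, 19, 0)], (0, 9, 0)),
  ([(1, 0, 0, 0), (0, 1, 31, 0), (0, 2, 6, 0), (0, 2, 29, 0), (3, 0, 3, 4), (0, 5, 13, 0)], (0, 6, 0)),
  ([(1, 0, 0, 0), (0, 1, 31, 0), (0, 2, 12, 0), (0, 2, 23, 0), (3, 0, 3, 4), (0, 5, 19, 0)], (0, 6, 0)),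
  ([(1, 0, 0, 0), (0, 1, 31, 0), (0, 2, 16, 0), (0, 2, 11, 0), (3, 0, 3, 4), (0, 5, 12, 0)], (0, 6, 0)),
  ([(1, 0, 0, 0), (0, 1, 31, 0), (0, 0, 27, 0), (0, 2, 27, 0), (3, 0, 3, 4), (0, 2, 4, 0), (0, 5, 31, 0), (3, 0, 6, 7), (0, 8, 16, 0)], (0, 9, 0)),
  ([(1, 0, 0, 0), (0, 1, 31, 0), (0, 0, 27, 0), (0, 2, 27, 0), (3, 0, 3, 4), (0, 2, 20, 0), (0, 5, 15, 0), (3, 0, 6, 7), (0, 8, 9, 0)], (0, 9, 0)),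
  ([(1, 0, 0, 0), (0, 1, 31, 0), (0, 0, 27, 0), (0, 2, 27, 0), (3, 0, 3, 4), (0, 2, 6, 0), (0, 5, 29, 0), (3, 0, 6, 7), (0, 8, 13, 0)], (0, 9, 0)),
  ([(1, 0, 0, 0), (0, 1, 31, 0), (0, 0, 27, 0), (0, 2, 27, 0), (3, 0, 3, 4), (0, 2, 15, 0), (0, 5, 20, 0), (3, 0, 6, 7), (0, 8, 26, 0)], (0, 9, 0)),
  ([(1, 0, 0, 0), (0, 1, 31, 0), (0, 2, 3, 0), (0, 2, 24, 0), (3, 0, 3, 4), (0, 5, 30, 0)], (0, 6, 0)),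
  ([(1, 0, 0, 0), (0, 1, 31, 0), (0, 0, 27, 0), (0, 2, 27, 0), (3, 0, 3, 4), (0, 2, 13, 0), (0, 5, 22, 0), (3, 0, 6, 7), (0, 8, 23, 0)], (0, 9, 0)),
  ([(1, 0, 0, 0), (0, 1, 31, 0), (0, 2, 19, 0), (0, 2, 8, 0), (3, 0, 3, 4), (0, 5, 14, 0)], (0, 6, 0)),
  ([(1, 0, 0, 0), (0, 1, 31, 0), (0, 0, 27, 0), (0, 2, 27, 0), (3, 0, 3, 4), (0, 2, 7, 0), (0, 5, 28, 0), (3, 0, 6, 7), (0, 8, 15, 0)], (0, 9, 0)),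
  ([(1, 0, 0, 0), (0, 1, 31, 0), (0, 2, 17, 0), (0, 2, 10, 0), (3, 0, 3, 4), (0, 5, 17, 0)], (0, 6, 0)),
  ([(1, 0, 0, 0), (0, 1, 31, 0), (0, 0, 27, 0), (0, 2, 27, 0), (3, 0, 3, 4), (0, 2, 5, 0), (0, 5, 30, 0), (3, 0, 6, 7), (0, 8, 6, 0)], (0, 9, 0)),
  ([(1, 0, 0, 0), (0, 1, 31, 0), (0, 2, 10, 0), (0, 2, 17, 0), (3, 0, 3, 4), (0, 5, 31, 0)], (0, 6, 0)),
  ([(1, 0, 0, 0), (0, 1, 31, 0), (0, 0, 27, 0), (0, 2, 27, 0), (3, 0, 3, 4), (0, 2, 10, 0), (0, 5, 17, 0), (3, 0, 6, 7), (0, 8, 31, 0)], (0, 9, 0)),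
  ([(1, 0, 0, 0), (0, 1, 31, 0), (0, 2, 7, 0), (0, 2, 28, 0), (3, 0, 3, 4), (0, 5, 15, 0)], (0, 6, 0)),
  ([(1, 0, 0, 0), (0, 1, 31, 0), (0, 0, 27, 0), (0, 2, 27, 0), (3, 0, 3, 4), (0, 2, 8, 0), (0, 5, 19, 0), (3, 0, 6, 7), (0, 8, 29, 0)], (0, 9, 0)),
  ([(1, 0, 0, 0), (0, 1, 31, 0), (0, 2, 15, 0), (0, 2, 20, 0), (3, 0, 3, 4), (0, 5, 26, 0)], (0, 6, 0)),
  ([(1, 0, 0, 0), (0, 1, 31, 0), (0, 2, 26, 0), (3, 0, 2, 3), (0, 4, 24, 0)], (0, 5, 0)),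
  ([(1, 0, 0, 0), (0, 1, 31, 0), (0, 0, 27, 0), (0, 2, 27, 0), (3, 0, 3, 4), (0, 2, 16, 0), (0, 5, 11, 0), (3, 0, 6, 7), (0, 8, 12, 0)], (0, 9, 0)),
  ([(1, 0, 0, 0), (0, 1, 31, 0), (0, 0, 27, 0), (0, 2, 27, 0), (3, 0, 3, 4), (0, 0, 2, 0), (0, 5, 2, 0), (3, 2, 6, 7), (0, 8, 20, 0), (0, 0, 28, 0), (0, 9, 2, 0), (3, 2, 10, 11), (0, 12, 4, 0), (0, 2, 28, 0), (0, 9, 30, 0), (3, 2, 14, 15)], (0, 16, 13)),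
  ([(1, 0, 0, 0), (0, 1, 31, 0), (0, 2, 4, 0), (0, 2, 31, 0), (3, 0, 3, 4), (0, 5, 16, 0)], (0, 6, 0))]

/-- Refutations, first coordinate 28. -/
def case5_4_28 : List (List (ℕ × ℕ × ℕ × ℕ) × (ℕ × ℕ × ℕ)) := [
  ([(1, 0, 0, 0), (0, 1, 3, 0), (0, 0, 28, 0), (0, 2, 28, 0), (3, 0, 3, 4), (0, 5, 23, 0)], (2, 2, 6)),
  ([(1, 0, 0, 0), (0, 1, 3, 0), (0, 2, 2, 0), (0, 2, 30, 0), (3, 0, 3, 4), (0, 5, 12, 0)], (0, 6, 0)),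
  ([(1, 0, 0, 0), (0, 1, 3, 0), (0, 0, 28, 0), (0, 2, 28, 0), (3, 0, 3, 4), (0, 2, 8, 0), (0, 5, 20, 0), (3, 0, 6, 7), (0, 8, 31, 0)], (0, 9, 0)),
  ([(1, 0, 0, 0), (0, 1, 3, 0), (0, 2, 3, 0), (0, 2, 31, 0), (3, 0, 3, 4), (0, 5, 22, 0)], (0, 6, 0)),
  ([(1, 0, 0, 0), (0, 1, 3, 0), (0, 0, 28, 0), (0, 2, 28, 0), (3, 0, 3, 4), (0, 2, 6, 0), (0, 5, 26, 0), (3, 0, 6, 7), (0, 8, 27, 0)], (0, 9, 0)),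
  ([(1, 0, 0, 0), (0, 1, 3, 0), (0, 0, 28, 0), (0, 2, 28, 0), (3, 0, 3, 4), (0, 2, 3, 0), (0, 5, 31, 0), (3, 0, 6, 7), (0, 8, 22, 0)], (0, 9, 0)),
  ([(1, 0, 0, 0), (0, 1, 3, 0), (0, 2, 11, 0), (0, 2, 23, 0), (3, 0, 3, 4), (0, 5, 3, 0)], (0, 6, 0)),
  ([(1, 0, 0, 0), (0, 1, 3, 0), (0, 2, 29, 0), (3, 0, 2, 3), (0, 4, 29, 0)], (0, 5, 0)),
  ([(1, 0, 0, 0), (0, 1, 3, 0), (0, 2, 17, 0), (0, 2, 13, 0), (3, 0, 3, 4), (0, 5, 5, 0)], (0, 6, 0)),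
  ([(1, 0, 0, 0), (0, 1, 3, 0), (0, 2, 4, 0), (0, 2, 24, 0), (3, 0, 3, 4), (0, 5, 6, 0)], (0, 6, 0)),
  ([(1, 0, 0, 0), (0, 1, 3, 0), (0, 2, 8, 0), (0, 2, 20, 0), (3, 0, 3, 4), (0, 5, 31, 0)], (0, 6, 0)),
  ([(1, 0, 0, 0), (0, 1, 3, 0), (0, 0, 28, 0), (0, 2, 28, 0), (3, 0, 3, 4), (0, 2, 10, 0), (0, 5, 22, 0), (3, 0, 6, 7), (0, 8, 4, 0)], (0, 9, 0)),
  ([(1, 0, 0, 0), (0, 1, 3, 0), (0, 0, 28, 0), (0, 2, 28, 0), (3, 0, 3, 4), (0, 5, 29, 0), (3, 0, 2, 6), (0, 7, 29, 0)], (0, 8, 0)),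
  ([(1, 0, 0, 0), (0, 1, 3, 0), (0, 0, 28, 0), (0, 2, 28, 0), (3, 0, 3, 4), (0, 2, 4, 0), (0, 5, 24, 0), (3, 0, 6, 7), (0, 8, 6, 0)], (0, 9, 0)),
  ([(1, 0, 0, 0), (0, 1, 3, 0), (0, 2, 16, 0), (0, 2, 12, 0), (3, 0, 3, 4), (0, 5, 9, 0)], (0, 6, 0)),
  ([(1, 0, 0, 0), (0, 1, 3, 0), (0, 0, 28, 0), (0, 2, 28, 0), (3, 0, 3, 4), (0, 2, 16, 0), (0, 5, 12, 0), (3, 0, 6, 7), (0, 8, 9, 0)], (0, 9, 0)),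
  ([(1, 0, 0, 0), (0, 1, 3, 0), (0, 0, 28, 0), (0, 2, 28, 0), (3, 0, 3, 4), (0, 5, 23, 0)], (2, 2, 6)),
  ([(1, 0, 0, 0), (0, 1, 3, 0), (0, 0, 28, 0), (0, 2, 28, 0), (3, 0, 3, 4), (0, 2, 5, 0), (0, 5, 25, 0), (3, 0, 6, 7), (0, 8, 23, 0)], (0, 9, 0)),
  ([(1, 0, 0, 0), (0, 1, 3, 0), (0, 2, 6, 0), (0, 2, 26, 0), (3, 0, 3, 4), (0, 5, 27, 0)], (0, 6, 0)),
  ([(1, 0, 0, 0), (0, 1, 3, 0), (0, 0, 28, 0), (0, 2, 28, 0), (3, 0, 3, 4), (0, 2, 17, 0), (0, 5, 13, 0), (3, 0, 6, 7), (0, 8, 5, 0)], (0, 9, 0)),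
  ([(1, 0, 0, 0), (0, 1, 3, 0), (0, 2, 19, 0), (0, 2, 15, 0), (3, 0, 3, 4), (0, 5, 19, 0)], (0, 6, 0)),
  ([(1, 0, 0, 0), (0, 1, 3, 0), (0, 2, 7, 0), (0, 2, 27, 0), (3, 0, 3, 4), (0, 5, 21, 0)], (0, 6, 0)),
  ([(1, 0, 0, 0), (0, 1, 3, 0), (0, 0, 28, 0), (0, 2, 28, 0), (3, 0, 3, 4), (0, 2, 14, 0), (0, 5, 18, 0), (3, 0, 6, 7), (0, 8, 7, 0)], (0, 9, 0)),
  ([(1, 0, 0, 0), (0, 1, 3, 0), (0, 0, 28, 0), (0, 2, 28, 0), (3, 0, 3, 4), (0, 2, 11, 0), (0, 5, 23, 0), (3, 0, 6, 7), (0, 8, 3, 0)], (0, 9, 0)),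
  ([(1, 0, 0, 0), (0, 1, 3, 0), (0, 0, 28, 0), (0, 2, 28, 0), (3, 0, 3, 4), (0, 2, 7, 0), (0, 5, 27, 0), (3, 0, 6, 7), (0, 8, 21, 0)], (0, 9, 0)),
  ([(1, 0, 0, 0), (0, 1, 3, 0), (0, 0, 28, 0), (0, 2, 28, 0), (3, 0, 3, 4), (0, 2, 2, 0), (0, 5, 30, 0), (3, 0, 6, 7), (0, 8, 12, 0)], (0, 9, 0)),
  ([(1, 0, 0, 0), (0, 1, 3, 0), (0, 0, 28, 0), (0, 2, 28, 0), (3, 0, 3, 4), (0, 2, 19, 0), (0, 5, 15, 0), (3, 0, 6, 7), (0, 8, 19, 0)], (0, 9, 0)),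
  ([(1, 0, 0, 0), (0, 1, 3, 0), (0, 2, 9, 0), (0, 2, 21, 0), (3, 0, 3, 4), (0, 5, 10, 0)], (0, 6, 0)),
  ([(1, 0, 0, 0), (0, 1, 3, 0), (0, 2, 14, 0), (0, 2, 18, 0), (3, 0, 3, 4), (0, 5, 7, 0)], (0, 6, 0)),
  ([(1, 0, 0, 0), (0, 1, 3, 0), (0, 2, 5, 0), (0, 2, 25, 0), (3, 0, 3, 4), (0, 5, 23, 0)], (0, 6, 0)),
  ([(1, 0, 0, 0), (0, 1, 3, 0), (0, 0, 28, 0), (0, 2, 28, 0), (3, 0, 3, 4), (0, 2, 9, 0), (0, 5, 21, 0), (3, 0, 6, 7), (0, 8, 10, 0)], (0, 9, 0)),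
  ([(1, 0, 0, 0), (0, 1, 3, 0), (0, 2, 10, 0), (0, 2, 22, 0), (3, 0, 3, 4), (0, 5, 4, 0)], (0, 6, 0))]

/-- Refutations, first coordinate 29. -/
def case5_4_29 : List (List (ℕ × ℕ × ℕ × ℕ) × (ℕ × ℕ × ℕ)) := [
  ([(1, 0, 0, 0), (0, 1, 19, 0), (0, 0, 29, 0), (0, 2, 29, 0), (3, 0, 3, 4), (0, 2, 22, 0), (0, 0, 22, 0), (3, 2, 6, 7), (0, 5, 8, 0), (0, 8, 30, 0), (3, 2, 9, 10), (0, 11, 14, 0)], (0, 12, 2)),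
  ([(1, 0, 0, 0), (0, 1, 19, 0), (0, 2, 10, 0), (0, 2, 23, 0), (3, 0, 3, 4), (0, 5, 23, 0)], (0, 6, 0)),
  ([(1, 0, 0, 0), (0, 1, 19, 0), (0, 2, 20, 0), (0, 2, 9, 0), (3, 0, 3, 4), (0, 5, 4, 0)], (0, 6, 0)),
  ([(1, 0, 0, 0), (0, 1, 19, 0), (0, 0, 29, 0), (0, 2, 29, 0), (3, 0, 3, 4), (0, 2, 16, 0), (0, 5, 13, 0), (3, 0, 6, 7), (0, 8, 31, 0)], (0, 9, 0)),
  ([(1, 0, 0, 0), (0, 1, 19, 0), (0, 0, 29, 0), (0, 2, 29, 0), (3, 0, 3, 4), (0, 2, 9, 0), (0, 5, 20, 0), (3, 0, 6, 7), (0, 8, 24, 0)], (0, 9, 0)),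
  ([(1, 0, 0, 0), (0, 1, 19, 0), (0, 0, 29, 0), (0, 2, 29, 0), (3, 0, 3, 4), (0, 5, 28, 0), (3, 0, 2, 6), (0, 7, 16, 0)], (0, 8, 0)),
  ([(1, 0, 0, 0), (0, 1, 19, 0), (0, 0, 29, 0), (0, 2, 29, 0), (3, 0, 3, 4), (0, 2, 12, 0), (0, 5, 17, 0), (3, 0, 6, 7), (0, 8, 27, 0)], (0, 9, 0)),
  ([(1, 0, 0, 0), (0, 1, 19, 0), (0, 0, 29, 0), (0, 2, 29, 0), (3, 0, 3, 4), (0, 2, 4, 0), (0, 5, 25, 0), (3, 0, 6, 7), (0, 8, 12, 0)], (0, 9, 0)),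
  ([(1, 0, 0, 0), (0, 1, 19, 0), (0, 0, 29, 0), (0, 2, 29, 0), (3, 0, 3, 4), (0, 2, 7, 0), (0, 5, 26, 0), (3, 0, 6, 7), (0, 8, 5, 0)], (0, 9, 0)),
  ([(1, 0, 0, 0), (0, 1, 19, 0), (0, 2, 5, 0), (0, 2, 24, 0), (3, 0, 3, 4), (0, 5, 9, 0)], (0, 6, 0)),
  ([(1, 0, 0, 0), (0, 1, 19, 0), (0, 0, 29, 0), (0, 2, 29, 0), (3, 0, 3, 4), (0, 2, 2, 0), (0, 5, 31, 0), (3, 0, 6, 7), (0, 8, 29, 0)], (0, 9, 0)),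
  ([(1, 0, 0, 0), (0, 1, 19, 0), (0, 0, 29, 0), (0, 2, 29, 0), (3, 0, 3, 4), (0, 2, 10, 0), (0, 5, 23, 0), (3, 0, 6, 7), (0, 8, 23, 0)], (0, 9, 0)),
  ([(1, 0, 0, 0), (0, 1, 19, 0), (0, 2, 7, 0), (0, 2, 26, 0), (3, 0, 3, 4), (0, 5, 5, 0)], (0, 6, 0)),
  ([(1, 0, 0, 0), (0, 1, 19, 0), (0, 2, 14, 0), (0, 2, 19, 0), (3, 0, 3, 4), (0, 5, 21, 0)], (0, 6, 0)),
  ([(1, 0, 0, 0), (0, 1, 19, 0), (0, 2, 28, 0), (3, 0, 2, 3), (0, 4, 16, 0)], (0, 5, 0)),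
  ([(1, 0, 0, 0), (0, 1, 19, 0), (0, 2, 16, 0), (0, 2, 13, 0), (3, 0, 3, 4), (0, 5, 31, 0)], (0, 6, 0)),
  ([(1, 0, 0, 0), (0, 1, 19, 0), (0, 2, 6, 0), (0, 2, 27, 0), (3, 0, 3, 4), (0, 5, 22, 0)], (0, 6, 0)),
  ([(1, 0, 0, 0), (0, 1, 19, 0), (0, 2, 9, 0), (0, 2, 20, 0), (3, 0, 3, 4), (0, 5, 24, 0)], (0, 6, 0)),
  ([(1, 0, 0, 0), (0, 1, 19, 0), (0, 2, 28, 0), (3, 0, 3, 2), (0, 4, 7, 0)], (0, 5, 0)),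
  ([(1, 0, 0, 0), (0, 1, 19, 0), (0, 2, 4, 0), (0, 2, 25, 0), (3, 0, 3, 4), (0, 5, 12, 0)], (0, 6, 0)),
  ([(1, 0, 0, 0), (0, 1, 19, 0), (0, 0, 29, 0), (0, 2, 29, 0), (3, 0, 3, 4), (0, 2, 14, 0), (0, 5, 19, 0), (3, 0, 6, 7), (0, 8, 21, 0)], (0, 9, 0)),
  ([(1, 0, 0, 0), (0, 1, 19, 0), (0, 0, 29, 0), (0, 2, 29, 0), (3, 0, 3, 4), (0, 2, 6, 0), (0, 5, 27, 0), (3, 0, 6, 7), (0, 8, 22, 0)], (0, 9, 0)),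
  ([(1, 0, 0, 0), (0, 1, 19, 0), (0, 2, 2, 0), (0, 2, 31, 0), (3, 0, 3, 4), (0, 5, 29, 0)], (0, 6, 0)),
  ([(1, 0, 0, 0), (0, 1, 19, 0), (0, 0, 29, 0), (0, 2, 29, 0), (3, 0, 3, 4), (0, 2, 3, 0), (0, 5, 30, 0), (3, 0, 6, 7), (0, 8, 19, 0)], (0, 9, 0)),
  ([(1, 0, 0, 0), (0, 1, 19, 0), (0, 0, 29, 0), (0, 2, 29, 0), (3, 0, 3, 4), (0, 0, 22, 0), (0, 5, 22, 0), (3, 2, 6, 7), (0, 8, 2, 0), (0, 0, 29, 0), (0, 9, 22, 0), (3, 2, 10, 11)], (0, 12, 0)),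
  ([(1, 0, 0, 0), (0, 1, 19, 0), (0, 0, 29, 0), (0, 2, 29, 0), (3, 0, 3, 4), (0, 2, 8, 0), (0, 5, 21, 0), (3, 0, 6, 7), (0, 8, 6, 0)], (0, 9, 0)),
  ([(1, 0, 0, 0), (0, 1, 19, 0), (0, 0, 29, 0), (0, 2, 29, 0), (3, 0, 3, 4), (0, 2, 5, 0), (0, 5, 24, 0), (3, 0, 6, 7), (0, 8, 9, 0)], (0, 9, 0)),
  ([(1, 0, 0, 0), (0, 1, 19, 0), (0, 2, 12, 0), (0, 2, 17, 0), (3, 0, 3, 4), (0, 5, 27, 0)], (0, 6, 0)),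
  ([(1, 0, 0, 0), (0, 1, 19, 0), (0, 0, 29, 0), (0, 2, 29, 0), (3, 0, 3, 4), (0, 2, 20, 0), (0, 5, 9, 0), (3, 0, 6, 7), (0, 8, 4, 0)], (0, 9, 0)),
  ([(1, 0, 0, 0), (0, 1, 19, 0), (0, 0, 29, 0), (0, 2, 29, 0), (3, 0, 3, 4), (0, 2, 28, 0), (3, 0, 6, 5), (0, 7, 7, 0)], (0, 8, 0)),
  ([(1, 0, 0, 0), (0, 1, 19, 0), (0, 2, 3, 0), (0, 2, 30, 0), (3, 0, 3, 4), (0, 5, 19, 0)], (0, 6, 0)),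
  ([(1, 0, 0, 0), (0, 1, 19, 0), (0, 2, 8, 0), (0, 2, 21, 0), (3, 0, 3, 4), (0, 5, 6, 0)], (0, 6, 0))]

/-- Refutations, first coordinate 30. -/
def case5_4_30 : List (List (ℕ × ℕ × ℕ × ℕ) × (ℕ × ℕ × ℕ)) := [
  ([(1, 0, 0, 0), (0, 1, 20, 0), (0, 0, 30, 0), (0, 2, 30, 0), (3, 0, 3, 4), (0, 0, 19, 0), (0, 5, 19, 0), (3, 2, 6, 7), (0, 8, 26, 0), (0, 2, 3, 0), (0, 9, 16, 0), (3, 2, 10, 11), (0, 2, 25, 0), (0, 12, 10, 0), (3, 2, 13, 14), (0, 5, 3, 0), (0, 15, 16, 0), (3, 2, 16, 17), (0, 18, 16, 0), (0, 5, 12, 0), (0, 9, 31, 0), (3, 2, 20, 21), (0, 22, 24, 0)], (0, 23, 19)),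
  ([(1, 0, 0, 0), (0, 1, 20, 0), (0, 0, 30, 0), (0, 2, 30, 0), (3, 0, 3, 4), (0, 2, 3, 0), (0, 5, 29, 0), (3, 0, 6, 7), (0, 8, 17, 0)], (0, 9, 0)),
  ([(1, 0, 0, 0), (0, 1, 20, 0), (0, 0, 30, 0), (0, 2, 30, 0), (3, 0, 3, 4), (0, 2, 5, 0), (0, 5, 27, 0), (3, 0, 6, 7), (0, 8, 2, 0)], (0, 9, 0)),
  ([(1, 0, 0, 0), (0, 1, 20, 0), (0, 2, 11, 0), (0, 2, 21, 0), (3, 0, 3, 4), (0, 5, 13, 0)], (0, 6, 0)),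
  ([(1, 0, 0, 0), (0, 1, 20, 0), (0, 2, 8, 0), (0, 2, 22, 0), (3, 0, 3, 4), (0, 5, 25, 0)], (0, 6, 0)),
  ([(1, 0, 0, 0), (0, 1, 20, 0), (0, 0, 30, 0), (0, 2, 30, 0), (3, 0, 3, 4), (0, 5, 19, 0)], (2, 2, 6)),
  ([(1, 0, 0, 0), (0, 1, 20, 0), (0, 0, 30, 0), (0, 2, 30, 0), (3, 0, 3, 4), (0, 2, 6, 0), (0, 5, 24, 0), (3, 0, 6, 7), (0, 8, 15, 0)], (0, 9, 0)),
  ([(1, 0, 0, 0), (0, 1, 20, 0), (0, 2, 2, 0), (0, 2, 28, 0), (3, 0, 3, 4), (0, 5, 8, 0)], (0, 6, 0)),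
  ([(1, 0, 0, 0), (0, 1, 20, 0), (0, 2, 3, 0), (0, 2, 29, 0), (3, 0, 3, 4), (0, 5, 17, 0)], (0, 6, 0)),
  ([(1, 0, 0, 0), (0, 1, 20, 0), (0, 0, 30, 0), (0, 2, 30, 0), (3, 0, 3, 4), (0, 2, 15, 0), (0, 5, 17, 0), (3, 0, 6, 7), (0, 8, 7, 0)], (0, 9, 0)),
  ([(1, 0, 0, 0), (0, 1, 20, 0), (0, 2, 6, 0), (0, 2, 24, 0), (3, 0, 3, 4), (0, 5, 15, 0)], (0, 6, 0)),
  ([(1, 0, 0, 0), (0, 1, 20, 0), (0, 2, 17, 0), (0, 2, 15, 0), (3, 0, 3, 4), (0, 5, 16, 0)], (0, 6, 0)),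
  ([(1, 0, 0, 0), (0, 1, 20, 0), (0, 0, 30, 0), (0, 2, 30, 0), (3, 0, 3, 4), (0, 2, 17, 0), (0, 5, 15, 0), (3, 0, 6, 7), (0, 8, 16, 0)], (0, 9, 0)),
  ([(1, 0, 0, 0), (0, 1, 20, 0), (0, 0, 30, 0), (0, 2, 30, 0), (3, 0, 3, 4), (0, 2, 12, 0), (0, 5, 18, 0), (3, 0, 6, 7), (0, 8, 28, 0)], (0, 9, 0)),
  ([(1, 0, 0, 0), (0, 1, 20, 0), (0, 2, 7, 0), (0, 2, 25, 0), (3, 0, 3, 4), (0, 5, 29, 0)], (0, 6, 0)),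
  ([(1, 0, 0, 0), (0, 1, 20, 0), (0, 2, 21, 0), (0, 2, 11, 0), (3, 0, 3, 4), (0, 5, 21, 0)], (0, 6, 0)),
  ([(1, 0, 0, 0), (0, 1, 20, 0), (0, 0, 30, 0), (0, 2, 30, 0), (3, 0, 3, 4), (0, 2, 11, 0), (0, 5, 21, 0), (3, 0, 6, 7), (0, 8, 13, 0)], (0, 9, 0)),
  ([(1, 0, 0, 0), (0, 1, 20, 0), (0, 2, 12, 0), (0, 2, 18, 0), (3, 0, 3, 4), (0, 5, 28, 0)], (0, 6, 0)),
  ([(1, 0, 0, 0), (0, 1, 20, 0), (0, 0, 30, 0), (0, 2, 30, 0), (3, 0, 3, 4), (0, 2, 16, 0), (0, 5, 14, 0), (3, 0, 6, 7), (0, 8, 18, 0)], (0, 9, 0)),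
  ([(1, 0, 0, 0), (0, 1, 20, 0), (0, 0, 30, 0), (0, 2, 30, 0), (3, 0, 3, 4), (0, 2, 13, 0), (0, 5, 19, 0), (3, 0, 6, 7), (0, 8, 24, 0)], (0, 9, 0)),
  ([(1, 0, 0, 0), (0, 1, 20, 0), (0, 0, 30, 0), (0, 2, 30, 0), (3, 0, 3, 4), (0, 2, 8, 0), (0, 5, 22, 0), (3, 0, 6, 7), (0, 8, 25, 0)], (0, 9, 0)),
  ([(1, 0, 0, 0), (0, 1, 20, 0), (0, 0, 30, 0), (0, 2, 30, 0), (3, 0, 3, 4), (0, 2, 21, 0), (0, 5, 11, 0), (3, 0, 6, 7), (0, 8, 21, 0)], (0, 9, 0)),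
  ([(1, 0, 0, 0), (0, 1, 20, 0), (0, 2, 31, 0), (3, 0, 2, 3), (0, 4, 26, 0)], (0, 5, 0)),
  ([(1, 0, 0, 0), (0, 1, 20, 0), (0, 2, 5, 0), (0, 2, 27, 0), (3, 0, 3, 4), (0, 5, 2, 0)], (0, 6, 0)),
  ([(1, 0, 0, 0), (0, 1, 20, 0), (0, 0, 30, 0), (0, 2, 30, 0), (3, 0, 3, 4), (0, 2, 7, 0), (0, 5, 25, 0), (3, 0, 6, 7), (0, 8, 29, 0)], (0, 9, 0)),
  ([(1, 0, 0, 0), (0, 1, 20, 0), (0, 2, 13, 0), (0, 2, 19, 0), (3, 0, 3, 4), (0, 5, 24, 0)], (0, 6, 0)),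
  ([(1, 0, 0, 0), (0, 1, 20, 0), (0, 2, 16, 0), (0, 2, 14, 0), (3, 0, 3, 4), (0, 5, 18, 0)], (0, 6, 0)),
  ([(1, 0, 0, 0), (0, 1, 20, 0), (0, 0, 30, 0), (0, 2, 30, 0), (3, 0, 3, 4), (0, 5, 31, 0), (3, 0, 2, 6), (0, 7, 26, 0)], (0, 8, 0)),
  ([(1, 0, 0, 0), (0, 1, 20, 0), (0, 0, 30, 0), (0, 2, 30, 0), (3, 0, 3, 4), (0, 2, 4, 0), (0, 5, 26, 0), (3, 0, 6, 7), (0, 8, 20, 0)], (0, 9, 0)),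
  ([(1, 0, 0, 0), (0, 1, 20, 0), (0, 2, 15, 0), (0, 2, 17, 0), (3, 0, 3, 4), (0, 5, 7, 0)], (0, 6, 0)),
  ([(1, 0, 0, 0), (0, 1, 20, 0), (0, 2, 4, 0), (0, 2, 26, 0), (3, 0, 3, 4), (0, 5, 20, 0)], (0, 6, 0)),
  ([(1, 0, 0, 0), (0, 1, 20, 0), (0, 0, 30, 0), (0, 2, 30, 0), (3, 0, 3, 4), (0, 2, 2, 0), (0, 5, 28, 0), (3, 0, 6, 7), (0, 8, 8, 0)], (0, 9, 0))]

/-- Refutations, first coordinate 31. -/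
def case5_4_31 : List (List (ℕ × ℕ × ℕ × ℕ) × (ℕ × ℕ × ℕ)) := [
  ([(1, 0, 0, 0), (0, 1, 27, 0), (0, 0, 31, 0), (0, 2, 31, 0), (3, 0, 3, 4), (0, 5, 18, 0)], (2, 2, 6)),
  ([(1, 0, 0, 0), (0, 1, 27, 0), (0, 2, 27, 0), (0, 2, 4, 0), (3, 0, 3, 4), (0, 5, 14, 0)], (0, 6, 0)),
  ([(1, 0, 0, 0), (0, 1, 27, 0), (0, 2, 16, 0), (0, 2, 15, 0), (3, 0, 3, 4), (0, 5, 6, 0)], (0, 6, 0)),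
  ([(1, 0, 0, 0), (0, 1, 27, 0), (0, 2, 13, 0), (0, 2, 18, 0), (3, 0, 3, 4), (0, 5, 4, 0)], (0, 6, 0)),
  ([(1, 0, 0, 0), (0, 1, 27, 0), (0, 2, 24, 0), (0, 2, 7, 0), (3, 0, 3, 4), (0, 5, 27, 0)], (0, 6, 0)),
  ([(1, 0, 0, 0), (0, 1, 27, 0), (0, 0, 31, 0), (0, 2, 31, 0), (3, 0, 3, 4), (0, 2, 24, 0), (0, 5, 7, 0), (3, 0, 6, 7), (0, 8, 27, 0)], (0, 9, 0)),
  ([(1, 0, 0, 0), (0, 1, 27, 0), (0, 2, 30, 0), (3, 0, 2, 3), (0, 4, 10, 0)], (0, 5, 0)),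
  ([(1, 0, 0, 0), (0, 1, 27, 0), (0, 0, 31, 0), (0, 2, 31, 0), (3, 0, 3, 4), (0, 2, 16, 0), (0, 5, 15, 0), (3, 0, 6, 7), (0, 8, 6, 0)], (0, 9, 0)),
  ([(1, 0, 0, 0), (0, 1, 27, 0), (0, 2, 8, 0), (0, 2, 23, 0), (3, 0, 3, 4), (0, 5, 12, 0)], (0, 6, 0)),
  ([(1, 0, 0, 0), (0, 1, 27, 0), (0, 2, 2, 0), (0, 2, 29, 0), (3, 0, 3, 4), (0, 5, 16, 0)], (0, 6, 0)),
  ([(1, 0, 0, 0), (0, 1, 27, 0), (0, 0, 31, 0), (0, 2, 31, 0), (3, 0, 3, 4), (0, 2, 3, 0), (0, 5, 28, 0), (3, 0, 6, 7), (0, 8, 13, 0)], (0, 9, 0)),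
  ([(1, 0, 0, 0), (0, 1, 27, 0), (0, 0, 31, 0), (0, 2, 31, 0), (3, 0, 3, 4), (0, 5, 30, 0), (3, 0, 2, 6), (0, 7, 10, 0)], (0, 8, 0)),
  ([(1, 0, 0, 0), (0, 1, 27, 0), (0, 2, 3, 0), (0, 2, 28, 0), (3, 0, 3, 4), (0, 5, 13, 0)], (0, 6, 0)),
  ([(1, 0, 0, 0), (0, 1, 27, 0), (0, 0, 31, 0), (0, 2, 31, 0), (3, 0, 3, 4), (0, 2, 12, 0), (0, 5, 19, 0), (3, 0, 6, 7), (0, 8, 22, 0)], (0, 9, 0)),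
  ([(1, 0, 0, 0), (0, 1, 27, 0), (0, 0, 31, 0), (0, 2, 31, 0), (3, 0, 3, 4), (0, 2, 6, 0), (0, 5, 25, 0), (3, 0, 6, 7), (0, 8, 19, 0)], (0, 9, 0)),
  ([(1, 0, 0, 0), (0, 1, 27, 0), (0, 0, 31, 0), (0, 2, 31, 0), (3, 0, 3, 4), (0, 2, 4, 0), (0, 5, 27, 0), (3, 0, 6, 7), (0, 8, 29, 0)], (0, 9, 0)),
  ([(1, 0, 0, 0), (0, 1, 27, 0), (0, 0, 31, 0), (0, 2, 31, 0), (3, 0, 3, 4), (0, 2, 5, 0), (0, 5, 26, 0), (3, 0, 6, 7), (0, 8, 31, 0)], (0, 9, 0)),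
  ([(1, 0, 0, 0), (0, 1, 27, 0), (0, 2, 6, 0), (0, 2, 25, 0), (3, 0, 3, 4), (0, 5, 19, 0)], (0, 6, 0)),
  ([(1, 0, 0, 0), (0, 1, 27, 0), (0, 0, 31, 0), (0, 2, 31, 0), (3, 0, 3, 4), (0, 2, 13, 0), (0, 5, 18, 0), (3, 0, 6, 7), (0, 8, 4, 0)], (0, 9, 0)),
  ([(1, 0, 0, 0), (0, 1, 27, 0), (0, 0, 31, 0), (0, 2, 31, 0), (3, 0, 3, 4), (0, 2, 15, 0), (0, 5, 16, 0), (3, 0, 6, 7), (0, 8, 8, 0)], (0, 9, 0)),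
  ([(1, 0, 0, 0), (0, 1, 27, 0), (0, 0, 31, 0), (0, 2, 31, 0), (3, 0, 3, 4), (0, 0, 18, 0), (0, 5, 18, 0), (3, 2, 6, 7), (0, 8, 21, 0), (0, 0, 27, 0), (0, 9, 18, 0), (3, 2, 10, 11), (0, 12, 29, 0), (0, 2, 20, 0), (0, 13, 6, 0), (3, 2, 14, 15), (0, 5, 13, 0), (0, 16, 31, 0), (3, 2, 17, 18), (0, 19, 26, 0)], (0, 20, 2)),
  ([(1, 0, 0, 0), (0, 1, 27, 0), (0, 0, 31, 0), (0, 2, 31, 0), (3, 0, 3, 4), (0, 2, 2, 0), (0, 5, 29, 0), (3, 0, 6, 7), (0, 8, 16, 0)], (0, 9, 0)),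
  ([(1, 0, 0, 0), (0, 1, 27, 0), (0, 0, 31, 0), (0, 2, 31, 0), (3, 0, 3, 4), (0, 2, 8, 0), (0, 5, 23, 0), (3, 0, 6, 7), (0, 8, 12, 0)], (0, 9, 0)),
  ([(1, 0, 0, 0), (0, 1, 27, 0), (0, 0, 31, 0), (0, 2, 31, 0), (3, 0, 3, 4), (0, 2, 10, 0), (0, 5, 21, 0), (3, 0, 6, 7), (0, 8, 9, 0)], (0, 9, 0)),
  ([(1, 0, 0, 0), (0, 1, 27, 0), (0, 2, 12, 0), (0, 2, 19, 0), (3, 0, 3, 4), (0, 5, 22, 0)], (0, 6, 0)),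
  ([(1, 0, 0, 0), (0, 1, 27, 0), (0, 0, 31, 0), (0, 2, 31, 0), (3, 0, 3, 4), (0, 2, 19, 0), (0, 5, 12, 0), (3, 0, 6, 7), (0, 8, 30, 0)], (0, 9, 0)),
  ([(1, 0, 0, 0), (0, 1, 27, 0), (0, 2, 5, 0), (0, 2, 26, 0), (3, 0, 3, 4), (0, 5, 31, 0)], (0, 6, 0)),
  ([(1, 0, 0, 0), (0, 1, 27, 0), (0, 0, 31, 0), (0, 2, 31, 0), (3, 0, 3, 4), (0, 2, 27, 0), (0, 5, 4, 0), (3, 0, 6, 7), (0, 8, 14, 0)], (0, 9, 0)),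
  ([(1, 0, 0, 0), (0, 1, 27, 0), (0, 2, 15, 0), (0, 2, 16, 0), (3, 0, 3, 4), (0, 5, 8, 0)], (0, 6, 0)),
  ([(1, 0, 0, 0), (0, 1, 27, 0), (0, 2, 4, 0), (0, 2, 27, 0), (3, 0, 3, 4), (0, 5, 29, 0)], (0, 6, 0)),
  ([(1, 0, 0, 0), (0, 1, 27, 0), (0, 2, 19, 0), (0, 2, 12, 0), (3, 0, 3, 4), (0, 5, 30, 0)], (0, 6, 0)),
  ([(1, 0, 0, 0), (0, 1, 27, 0), (0, 2, 10, 0), (0, 2, 21, 0), (3, 0, 3, 4), (0, 5, 9, 0)], (0, 6, 0))]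

/-- All refutations. -/
def cases5_4 : List (List (ℕ × ℕ × ℕ × ℕ) × (ℕ × ℕ × ℕ)) :=
  case5_4_0 ++
  case5_4_1 ++
  case5_4_2 ++
  case5_4_3 ++
  case5_4_4 ++
  case5_4_5 ++
  case5_4_6 ++
  case5_4_7 ++
  case5_4_8 ++
  case5_4_9 ++
  case5_4_10 ++
  case5_4_11 ++
  case5_4_12 ++
  case5_4_13 ++
  case5_4_14 ++
  case5_4_15 ++
  case5_4_16 ++
  case5_4_17 ++
  case5_4_18 ++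
  case5_4_19 ++
  case5_4_20 ++
  case5_4_21 ++
  case5_4_22 ++
  case5_4_23 ++
  case5_4_24 ++
  case5_4_25 ++
  case5_4_26 ++
  case5_4_27 ++
  case5_4_28 ++
  case5_4_29 ++
  case5_4_30 ++
  case5_4_31

end Cfsg.Agent.SzSmall.Data
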