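import Cfsg.Agent.Lib.SzSmall.Check
import Cfsg.Agent.Lib.SzSmall.Data

/-!
# The certificates for the fields with 8 and 32 elements
-/

set_option autoImplicit false
set_option maxRecDepth 100000

namespace Cfsg.Agent.SzSmall

/-- The field with 8 elements. -/
def T3 : Tab := ⟨3, Data.rows3, Data.invs3⟩

/-- The field with 32 elements. -/
def T5 : Tab := ⟨5, Data.rows5, Data.invs5⟩

instance good3 : Tab.Good T3 := ⟨by decide +kernel⟩

instance good5 : Tab.Good T5 := ⟨by decide +kernel⟩

theorem ph3_2 : Code.phOK T3 2 = true := by decide +kernel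

theorem ph5_3 : Code.phOK T5 3 = true := by decide +kernel

theorem ph5_4 : Code.phOK T5 4 = true := by decide +kernel

theorem bad3_2 : Code.allBad T3 2 [(0, 1), (1, 0), (0, 0)] Data.cases3_2 = true := by decide +kernel

theorem bad5_3 : Code.allBad T5 3 [(0, 1), (1, 0), (0, 0)] Data.cases5_3 = true := by decide +kernel

theorem bad5_4 : Code.allBad T5 4 [(0, 1), (0, 0)] Data.cases5_4 = true := by decide +kernel

theorem solve3_2 : Code.solves T3 2 Data.ops3_2 Data.cov3_2 = true := by decide +kernel

theorem solve5_3 : Code.solves T5 3 Data.ops5_3 Data.cov5_3 = true := by decide +kernel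

end Cfsg.Agent.SzSmall
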