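import Cfsg.Agent.Lib.SzSmall.Frame
import Mathlib.Algebra.CharP.Two

/-!
# Changes of coordinates
-/

set_option autoImplicit false

namespace Cfsg.Agent.SzSmall

universe u v w x

namespace Frame

variable {K : Type u} [Field K] {φ : K →+* K} {G : Type v} {Ω : Type w} [Group G] [MulAction G Ω]

/-- New coordinates along a compatible bijection. -/
def reparam {K' : Type x} [Field K'] {φ' : K' →+* K'} (F : Frame φ G Ω) (c : K' × K' ≃ K × K)
    (ν : K'ˣ ≃* Kˣ) (hmul : ∀ p q, c (pmul φ' p q) = pmul φ (c p) (c q))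
    (hact : ∀ k p, c (pact φ' k p) = pact φ (ν k) (c p)) : Frame φ' G Ω where
  a := F.a
  b := F.b
  T p := F.T (c p)
  d := F.d.comp ν.toMonoidHom
  s := F.s
  ne := F.ne
  T_mul p q := by rw [F.T_mul, hmul]
  d_conj k p := by rw [hact]; exact F.d_conj (ν k) (c p)
  s_sq := F.s_sq
  s_d k := by
    show F.s * F.d (ν k) * F.s = F.d (ν k⁻¹)
    rw [F.s_d, map_inv ν]
  T_a p := F.T_a _
  d_a k := F.d_a _
  d_b k := F.d_b _
  s_a := F.s_a
  reg e he := by
    obtain ⟨p, hp, hu⟩ := F.reg e he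
    exact ⟨c.symm p, by show F.T (c (c.symm p)) • F.b = e; rw [c.apply_symm_apply]; exact hp,
      fun q hq => c.eq_symm_apply.2 (hu (c q) hq)⟩
  stab g hg := by
    obtain ⟨p, k, e⟩ := F.stab g hg
    exact ⟨c.symm p, ν.symm k, by simpa using e⟩
  faith := F.faith

/-- Coordinates over an isomorphic field. -/
def transport {K' : Type x} [Field K'] (F : Frame φ G Ω) (e : K ≃+* K') (φ' : K' →+* K')
    (h : ∀ x, φ' (e x) = e (φ x)) : Frame φ' G Ω :=
  F.reparam (Equiv.prodCongr e.symm.toEquiv e.symm.toEquiv) (Units.mapEquiv e.symm.toMulEquiv)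
    (fun p q => by
      have h' : ∀ y, e.symm (φ' y) = φ (e.symm y) := fun y => by
        obtain ⟨y, rfl⟩ := e.surjective y
        rw [h, e.symm_apply_apply, e.symm_apply_apply]
      simp [pmul, Equiv.prodCongr, map_add, map_mul, h'])
    (fun k p => by
      have h' : ∀ y, e.symm (φ' y) = φ (e.symm y) := fun y => by
        obtain ⟨y, rfl⟩ := e.surjective y
        rw [h, e.symm_apply_apply, e.symm_apply_apply]
      simp [pact, Equiv.prodCongr, map_mul, h'])

/-- Coordinates for the inverse twisting map. -/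
def mirror [CharP K 2] (F : Frame φ G Ω) (ψ : K →+* K) (h1 : ∀ x, φ (ψ x) = x) (h2 : ∀ x, ψ (φ x) = x) :
    Frame ψ G Ω :=
  F.reparam
    { toFun := fun p => (p.1, φ p.2 + φ p.1 * p.1)
      invFun := fun p => (p.1, ψ (p.2 + φ p.1 * p.1))
      left_inv := fun p => Prod.ext rfl (by
        show ψ (φ p.2 + φ p.1 * p.1 + φ p.1 * p.1) = p.2
        rw [add_assoc, CharTwo.add_self_eq_zero, add_zero, h2])
      right_inv := fun p => Prod.ext rfl (by
        show φ (ψ (p.2 + φ p.1 * p.1)) + φ p.1 * p.1 = p.2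
        rw [h1, add_assoc, CharTwo.add_self_eq_zero, add_zero]) }
    (MulEquiv.refl _)
    (fun p q => by
      simp only [pmul, Equiv.coe_fn_mk, map_add, map_mul, h1, Prod.mk.injEq, true_and]
      linear_combination (φ q.1 * p.1) * CharTwo.two_eq_zero (R := K))
    (fun k p => by
      simp only [pact, Equiv.coe_fn_mk, MulEquiv.refl_apply, map_mul, h1, Prod.mk.injEq, true_and]
      ring)

/-- Moving the swapping involution. -/
def reswap (F : Frame φ G Ω) (k : Kˣ) : Frame φ G Ω :=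
  { F with
    s := F.s * F.d k
    s_sq := by rw [← mul_assoc, F.s_d, ← map_mul, inv_mul_cancel, map_one]
    s_d := fun l => by
      show F.s * F.d k * F.d l * (F.s * F.d k) = F.d l⁻¹
      rw [mul_assoc F.s, ← map_mul, ← mul_assoc, F.s_d, ← map_mul]
      simp [mul_comm k l]
    s_a := by rw [mul_smul, F.d_a, F.s_a] }

theorem reswap_rel (F : Frame φ G Ω) {u f g : K × K} {h : Kˣ} (r : F.Rel u f h g) :
    (F.reswap h).Rel u (pact φ h⁻¹ f) 1 (pact φ h⁻¹ g) := by
  show F.s * F.d h * F.T u * (F.s * F.d h) = F.T _ * F.d 1 * (F.s * F.d h) * F.T _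
  rw [← F.d_conj, ← F.d_conj, map_inv, inv_inv, map_one, mul_one]
  calc F.s * F.d h * F.T u * (F.s * F.d h)
      = (F.d h)⁻¹ * F.s * F.T u * (F.s * F.d h) := by rw [← F.s_mul_d]
    _ = (F.d h)⁻¹ * (F.s * F.T u * F.s) * F.d h := by group
    _ = (F.d h)⁻¹ * (F.T f * F.d h * F.s * F.T g) * F.d h := by
        rw [show F.s * F.T u * F.s = F.T f * F.d h * F.s * F.T g from r]
    _ = _ := by group

end Frame

end Cfsg.Agent.SzSmall
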