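import Cfsg.Agent.Lib.SzSmall.Coords
import Cfsg.Agent.Lib.SzSmall.Reparam
import Cfsg.Agent.Lib.SzSmall.Cert
import Cfsg.Agent.Lib.ZassSuz.NotCube
import Mathlib.FieldTheory.Finite.Basic

/-!
# Coordinates for a simple Zassenhaus group with nonabelian kernel
-/

set_option autoImplicit false
set_option linter.unusedSectionVars false

namespace Cfsg.Agent.SzSmall

open Cfsg.Agent.Zass MulAction
open Cfsg.Agent.CosetCert (allBelow allBelow_spec)
open Tab (el)

universe u v

variable {G : Type u} [Group G] [Fintype G] {Ω : Type v} [MulAction G Ω] [Fintype Ω]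

/-- The coordinates of the model. -/
theorem exists_frame {a b : Ω} {H : Subgroup G} (S : ZassSuz.Suz a b H) :
    ∃ (F : Type) (_ : Field F) (_ : Fintype F) (φ : F ≃+* F),
      Fintype.card F = Nat.card (two (G := G) a b) + 1 ∧ φ ≠ RingEquiv.refl F ∧
      Nonempty (Frame (φ : F →+* F) G Ω) := by
  classical
  obtain ⟨F, _, _, φ, T, μ, hF, hne, hT, hmul, hμ⟩ := exists_model S.datum S.hna'
    (show Nat.card H = Nat.card S.V ^ 2 by rw [S.card_sq, S.card_V])
  refine ⟨F, inferInstance, inferInstance, φ, hF.trans S.card_V, hne, ?_⟩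
  let e : Fˣ ≃* two (G := G) a b := μ.trans (MonoidHom.ofInjective S.act_injective).symm
  have hd : ∀ k, ((e k : two (G := G) a b) : G) • a = a ∧ ((e k : two (G := G) a b) : G) • b = b := fun k =>
    mem_two.mp (e k).2
  have he : ∀ k, S.act (e k) = (μ k : MulAut H) := fun k =>
    MonoidHom.apply_ofInjective_symm S.act_injective (μ k)
  obtain ⟨s, hs⟩ := S.toData.exists_swap
  have hTa : ∀ p, (T p : G) • a = a := fun p => S.le (T p).2
  have hne' : ∀ p, (T p : G) • b ≠ a := fun p h =>
    S.ne.symm (smul_left_cancel (T p : G) (h.trans (hTa p).symm))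
  have hbij : Function.Bijective (fun p => (⟨(T p : G) • b, hne' p⟩ : {c : Ω // c ≠ a})) := by
    rw [Nat.bijective_iff_injective_and_card]
    refine ⟨fun p q h => hT.1 ?_, ?_⟩
    · have h' : ((T q : G)⁻¹ * T p) • b = b := by
        rw [mul_smul, inv_smul_eq_iff]; exact congrArg Subtype.val h
      by_contra hpq
      refine S.ne.symm (S.fixed _ (mul_mem (inv_mem (T q).2) (T p).2) (fun e1 => hpq (Subtype.ext ?_)) b h')
      exact (inv_mul_eq_one.mp e1).symm
    · rw [Nat.card_eq_of_bijective T hT, Nat.card_eq_fintype_card (α := {c : Ω // c ≠ a}),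
        Fintype.card_subtype_compl, Fintype.card_subtype_eq]
      have := S.card
      omega
  have hreg : ∀ c, c ≠ a → ∃! p, (T p : G) • b = c := fun c hc => by
    obtain ⟨p, hp⟩ := hbij.2 ⟨c, hc⟩
    exact ⟨p, congrArg Subtype.val hp, fun q hq => hbij.1 ((Subtype.ext hq).trans hp.symm)⟩
  exact ⟨{
    a := a
    b := b
    T := fun p => (T p : G)
    d := (two (G := G) a b).subtype.comp e.toMonoidHom
    s := s
    ne := S.ne
    T_mul := fun p q => by
      show ((T p * T q : H) : G) = _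
      rw [hmul]; rfl
    d_conj := fun k p => by
      show ((S.act (e k) (T p) : H) : G) = _
      rw [he, hμ]; rfl
    s_sq := hs.sq
    s_d := fun k => by
      have h := congrArg Subtype.val (S.toData.sig_eq_inv S.even hs (e k))
      show s * (e k : G) * s = ((e k⁻¹ : two (G := G) a b) : G)
      rw [map_inv]
      exact h
    T_a := hTa
    d_a := fun k => (hd k).1
    d_b := fun k => (hd k).2
    s_a := hs.sa
    reg := hreg
    stab := fun g hg => by
      have hc : g • b ≠ a := fun h => S.ne.symm (smul_left_cancel g (h.trans hg.symm))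
      obtain ⟨p, hp, -⟩ := hreg _ hc
      have hmem : (T p : G)⁻¹ * g ∈ two (G := G) a b := mem_two.mpr
        ⟨by rw [mul_smul, hg, inv_smul_eq_iff, hTa], by rw [mul_smul, ← hp, inv_smul_smul]⟩
      refine ⟨p, e.symm ⟨_, hmem⟩, ?_⟩
      show g = (T p : G) * ((e (e.symm ⟨_, hmem⟩) : two (G := G) a b) : G)
      rw [e.apply_symm_apply]
      exact (mul_inv_cancel_left _ _).symm
    faith := fun g hg => by
      haveI := S.zg.1
      exact eq_of_smul_eq_smul fun c : Ω => (hg c).trans (one_smul G c).symm }⟩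

/-- Powers in codes. -/
def Code.pw (T : Tab) (a i : ℕ) : ℕ := Nat.rec 1 (fun _ r => T.mul r a) i

/-- The code two generates the multiplicative group. -/
def Code.genOK (T : Tab) : Bool :=
  allBelow (fun a => Nat.beq a 0 || (List.range T.q).any fun i => Nat.beq (Code.pw T 2 i) a) T.q

variable {T : Tab} [Tab.Good T]

theorem el_pw {a : ℕ} (ha : a < T.q) : ∀ i, Code.pw T a i < T.q ∧ (el (Code.pw T a i) : Tab.El T) = el a ^ i
  | 0 => ⟨Tab.q_gt_one, by rw [pow_zero]; exact Tab.el_one⟩
  | i + 1 => by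
    obtain ⟨h1, h2⟩ := el_pw ha i
    refine ⟨((Tab.spec h1).2.2.2.2 a ha).1, ?_⟩
    show el (T.mul (Code.pw T a i) a) = _
    rw [Tab.el_mul h1 ha, h2, pow_succ]

theorem el_ph {a : ℕ} (ha : a < T.q) :
    ∀ j, Code.ph T j a < T.q ∧ (el (Code.ph T j a) : Tab.El T) = el a ^ 2 ^ j
  | 0 => ⟨ha, by rw [pow_zero, pow_one]; rfl⟩
  | j + 1 => by
    obtain ⟨h1, h2⟩ := el_ph ha j
    refine ⟨((Tab.spec h1).2.2.2.2 _ h1).1, ?_⟩
    show el (T.mul (Code.ph T j a) (Code.ph T j a)) = _
    rw [Tab.el_mul h1 h1, h2, ← pow_add]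
    ring_nf

theorem phi_eq_pow (j : ℕ) (hph : Code.phOK T j = true) (x : Tab.El T) :
    Code.phi T j hph x = x ^ 2 ^ j := by
  conv_rhs => rw [← Tab.el_of_val x]
  exact (el_ph x.v.2 j).2

/-- A ring endomorphism is determined by the generator. -/
theorem hom_eq_of_two (hg : Code.genOK T = true) (h2 : 2 < T.q) (f g : Tab.El T →+* Tab.El T)
    (h : f (el 2) = g (el 2)) : f = g := by
  refine RingHom.ext fun x => ?_
  have hs := allBelow_spec hg x.v.2
  simp only [Bool.or_eq_true, Nat.beq_eq, List.any_eq_true] at hs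
  rcases hs with h0 | ⟨i, -, hi⟩
  · rw [← Tab.el_of_val x, h0, Tab.el_zero, map_zero, map_zero]
  · rw [← Tab.el_of_val x, ← hi, (el_pw h2 i).2, map_pow, map_pow, h]

/-- The relation for the first point, normalised. -/
theorem exists_normal {K : Type*} [Field K] [CharP K 2] {φ : K →+* K} {G' : Type*} {Ω' : Type*}
    [Group G'] [MulAction G' Ω'] (F : Frame φ G' Ω') :
    ∃ (F' : Frame φ G' Ω') (f : K × K), F'.Rel (0, 1) f 1 (pinv φ f) := by
  obtain ⟨f, h, g, r⟩ := F.rel_exists (u := (0, 1)) (fun e => one_ne_zero (congrArg Prod.snd e))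
  have r1 := F.reswap_rel r
  refine ⟨F.reswap h, pact φ h⁻¹ f, ?_⟩
  have r2 := (F.reswap h).rel_inv r1
  rw [show pinv φ ((0 : K), (1 : K)) = (0, 1) by simp [pinv, CharTwo.neg_eq]] at r2
  obtain ⟨-, -, e⟩ := (F.reswap h).rel_unique r1 r2
  rw [e] at r1
  exact r1

/-- Fixing the first point forces an element of order three. -/
theorem three_dvd {K : Type*} [Field K] [CharP K 2] {φ : K →+* K} {G' : Type*} {Ω' : Type*}
    [Group G'] [MulAction G' Ω'] (F : Frame φ G' Ω') (r : F.Rel (0, 1) (0, 1) 1 (pinv φ (0, 1))) :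
    3 ∣ Nat.card G' := by
  rw [show pinv φ ((0 : K), (1 : K)) = (0, 1) by simp [pinv, CharTwo.neg_eq]] at r
  set t := F.T (0, 1) with ht
  have ht2 : t * t = 1 := by
    rw [ht, F.T_mul, show pmul φ ((0 : K), (1 : K)) (0, 1) = 0 by
      simp [pmul, CharTwo.add_self_eq_zero], F.T_zero]
  have r' : F.s * t * F.s = t * F.s * t := by
    have := r
    rw [Frame.Rel, map_one, mul_one] at this
    exact this
  have h3 : (F.s * t) ^ 3 = 1 := by
    calc (F.s * t) ^ 3 = (F.s * t * F.s) * (t * F.s * t) := by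
          simp [pow_succ, mul_assoc]
      _ = (t * F.s * t) * (t * F.s * t) := by rw [r']
      _ = t * F.s * (t * t) * F.s * t := by group
      _ = 1 := by rw [ht2, mul_one, mul_assoc t, F.s_sq, mul_one, ht2]
  have hne : F.s * t ≠ 1 := fun e => by
    have e' := congrArg (· • F.a) e
    simp only [mul_smul, one_smul, ht, F.T_a, F.s_a] at e'
    exact F.ne e'.symm
  haveI : Fact (Nat.Prime 3) := ⟨Nat.prime_three⟩
  rw [← orderOf_eq_prime h3 hne]
  exact orderOf_dvd_natCard _

end Cfsg.Agent.SzSmall
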