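import Cfsg.Agent.Lib.Compute.CosetCert
import Mathlib.Algebra.Field.MinimalAxioms
import Mathlib.Algebra.CharP.Two
import Mathlib.Data.Fintype.Card
import Mathlib.Tactic

/-!
# Small fields of characteristic two given by a multiplication table
-/

set_option autoImplicit false

namespace Cfsg.Agent.SzSmall

open Cfsg.Agent.CosetCert (allBelow allBelow_spec)

/-- A multiplication table on codes below `2 ^ n`; the rows pack the products in bytes. -/
structure Tab where
  n : ℕ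
  rows : List ℕ
  invs : List ℕ

namespace Tab

variable (T : Tab)

/-- The number of elements. -/
def q : ℕ := 2 ^ T.n

/-- Addition of codes. -/
def xor (a b : ℕ) : ℕ := Nat.xor a b

/-- Multiplication of codes. -/
def mul (a b : ℕ) : ℕ := Nat.land (Nat.shiftRight (T.rows.getD a 0) (8 * b)) 255

/-- Inversion of codes. -/
def inv (a : ℕ) : ℕ := T.invs.getD a 0

/-- The field axioms. -/
def ok : Bool :=
  Nat.ble 1 T.n && allBelow (fun a =>
    Nat.beq (T.mul 1 a) a && (Nat.blt (T.inv a) T.q &&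
      ((Nat.beq a 0 || Nat.beq (T.mul a (T.inv a)) 1) && (!(Nat.beq a 0) || Nat.beq (T.inv a) 0) &&
        allBelow (fun b => Nat.blt (T.mul a b) T.q && (Nat.beq (T.mul a b) (T.mul b a) &&
          allBelow (fun c => Nat.beq (T.mul (T.mul a b) c) (T.mul a (T.mul b c)) &&
            Nat.beq (T.mul a (Tab.xor b c)) (Tab.xor (T.mul a b) (T.mul a c))) T.q)) T.q))) T.q

/-- The table of a field. -/
class Good (T : Tab) : Prop where
  ok : T.ok = true

/-- The elements. -/
@[ext] structure El (T : Tab) where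
  v : Fin T.q

variable {T} [hT : Good T]

theorem n_pos : 1 ≤ T.n := by
  have h := hT.ok
  simp only [ok, Bool.and_eq_true, Nat.ble_eq] at h
  exact h.1

theorem spec {a : ℕ} (ha : a < T.q) : T.mul 1 a = a ∧ T.inv a < T.q ∧
    (a ≠ 0 → T.mul a (T.inv a) = 1) ∧ (a = 0 → T.inv a = 0) ∧
    ∀ b, b < T.q → T.mul a b < T.q ∧ T.mul a b = T.mul b a ∧
      ∀ c, c < T.q → T.mul (T.mul a b) c = T.mul a (T.mul b c) ∧
        T.mul a (Tab.xor b c) = Tab.xor (T.mul a b) (T.mul a c) := by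
  have h := hT.ok
  simp only [ok, Bool.and_eq_true] at h
  have h' := allBelow_spec h.2 ha
  simp only [Bool.and_eq_true, Bool.or_eq_true, Nat.blt_eq, Nat.beq_eq, Bool.not_eq_true'] at h'
  obtain ⟨h1, h2, ⟨h3, h4⟩, h5⟩ := h'
  refine ⟨h1, h2, fun hne => h3.resolve_left hne, fun he => h4.resolve_left ?_, fun b hb => ?_⟩
  · rw [he]; decide
  have h6 := allBelow_spec h5 hb
  simp only [Bool.and_eq_true, Nat.blt_eq, Nat.beq_eq] at h6
  exact ⟨h6.1, h6.2.1, fun c hc => by
    have h7 := allBelow_spec h6.2.2 hc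
    simp only [Bool.and_eq_true, Nat.beq_eq] at h7
    exact h7⟩

theorem q_gt_one : 1 < T.q := Nat.one_lt_two_pow (Nat.one_le_iff_ne_zero.1 n_pos)

theorem xor_lt {a b : ℕ} (ha : a < T.q) (hb : b < T.q) : Tab.xor a b < T.q :=
  Nat.xor_lt_two_pow ha hb

instance : Add (El T) := ⟨fun a b => ⟨⟨Tab.xor a.v b.v, xor_lt a.v.2 b.v.2⟩⟩⟩
instance : Mul (El T) := ⟨fun a b => ⟨⟨T.mul a.v b.v, ((spec a.v.2).2.2.2.2 b.v b.v.2).1⟩⟩⟩
instance : Neg (El T) := ⟨id⟩
instance : Inv (El T) := ⟨fun a => ⟨⟨T.inv a.v, (spec a.v.2).2.1⟩⟩⟩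
instance : Zero (El T) := ⟨⟨⟨0, lt_trans one_pos q_gt_one⟩⟩⟩
instance : One (El T) := ⟨⟨⟨1, q_gt_one⟩⟩⟩

theorem val_inj {a b : El T} (h : (a.v : ℕ) = b.v) : a = b := El.ext (Fin.ext h)

instance field : Field (El T) :=
  Field.ofMinimalAxioms (El T)
    (fun _ _ _ => val_inj (Nat.xor_assoc _ _ _))
    (fun _ => val_inj (Nat.zero_xor _))
    (fun _ => val_inj (Nat.xor_self _))
    (fun a b c => val_inj (((spec a.v.2).2.2.2.2 b.v b.v.2).2.2 c.v c.v.2).1)
    (fun a b => val_inj (((spec a.v.2).2.2.2.2 b.v b.v.2).2.1))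
    (fun a => val_inj (spec a.v.2).1)
    (fun a ha => val_inj ((spec a.v.2).2.2.1 fun e => ha (val_inj e)))
    (val_inj ((spec (show (((0 : El T).v : ℕ)) < T.q from (0 : El T).v.2)).2.2.2.1 rfl))
    (fun a b c => val_inj (((spec a.v.2).2.2.2.2 b.v b.v.2).2.2 c.v c.v.2).2)
    ⟨0, 1, fun e => absurd (congrArg (fun x : El T => (x.v : ℕ)) e) (show (0 : ℕ) ≠ 1 by decide)⟩

instance : Fintype (El T) :=
  Fintype.ofEquiv (Fin T.q) ⟨fun a => ⟨a⟩, El.v, fun _ => rfl, fun _ => rfl⟩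

theorem card_El : Fintype.card (El T) = T.q := by
  rw [Fintype.ofEquiv_card, Fintype.card_fin]

theorem two_eq_zero : (2 : El T) = 0 := by
  rw [← one_add_one_eq_two]
  exact val_inj (Nat.xor_self _)

instance : CharP (El T) 2 := CharTwo.of_one_ne_zero_of_two_eq_zero one_ne_zero two_eq_zero

/-- The element of a code. -/
def el (a : ℕ) : El T := ⟨⟨a % T.q, Nat.mod_lt _ (lt_trans one_pos q_gt_one)⟩⟩

theorem el_val {a : ℕ} (ha : a < T.q) : ((el a : El T).v : ℕ) = a := Nat.mod_eq_of_lt ha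

theorem el_of_val (x : El T) : el (T := T) (x.v : ℕ) = x := val_inj (el_val x.v.2)

theorem el_inj {a b : ℕ} (ha : a < T.q) (hb : b < T.q) (h : (el a : El T) = el b) : a = b := by
  rw [← el_val (T := T) ha, ← el_val (T := T) hb, h]

theorem el_xor {a b : ℕ} (ha : a < T.q) (hb : b < T.q) : (el (Tab.xor a b) : El T) = el a + el b :=
  val_inj (by rw [el_val (xor_lt ha hb)]; show _ = Tab.xor _ _; rw [el_val ha, el_val hb])

theorem el_mul {a b : ℕ} (ha : a < T.q) (hb : b < T.q) : (el (T.mul a b) : El T) = el a * el b :=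
  val_inj (by rw [el_val ((spec ha).2.2.2.2 b hb).1]; show _ = T.mul _ _; rw [el_val ha, el_val hb])

theorem el_inv {a : ℕ} (ha : a < T.q) : (el (T.inv a) : El T) = (el a)⁻¹ :=
  val_inj (by rw [el_val (spec ha).2.1]; show _ = T.inv _; rw [el_val ha])

theorem el_zero : (el 0 : El T) = 0 := val_inj (el_val (lt_trans one_pos q_gt_one))

theorem el_one : (el 1 : El T) = 1 := val_inj (el_val q_gt_one)

theorem el_eq_zero {a : ℕ} (ha : a < T.q) : (el a : El T) = 0 ↔ a = 0 :=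
  ⟨fun h => el_inj ha (lt_trans one_pos q_gt_one) (h.trans el_zero.symm), fun h => h ▸ el_zero⟩

end Tab

end Cfsg.Agent.SzSmall
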