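import Cfsg.Agent.Lib.SzSmall.Frame
import Cfsg.Agent.Lib.SzSmall.TabField

/-!
# Replaying derivations of the structure function
-/

set_option autoImplicit false
set_option linter.unusedSectionVars false

namespace Cfsg.Agent.SzSmall

open Cfsg.Agent.CosetCert (allBelow allBelow_spec)
open Tab (el)

/-- A derived relation, in codes. -/
structure FQ where
  ux : ℕ
  uy : ℕ
  fx : ℕ
  fy : ℕ
  h : ℕ
  gx : ℕ
  gy : ℕ

namespace Code

variable (T : Tab) (j : ℕ)

/-- The twisting map: `j` squarings. -/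
def ph (a : ℕ) : ℕ := Nat.rec a (fun _ r => T.mul r r) j

/-- The twisting map is a ring endomorphism. -/
def phOK : Bool :=
  Nat.beq (ph T j 1) 1 && (Nat.beq (ph T j 0) 0 && allBelow (fun a => Nat.blt (ph T j a) T.q &&
    allBelow (fun b => Nat.beq (ph T j (Tab.xor a b)) (Tab.xor (ph T j a) (ph T j b)) &&
      Nat.beq (ph T j (T.mul a b)) (T.mul (ph T j a) (ph T j b))) T.q) T.q)

/-- Product of pairs. -/
def pm (p r : ℕ × ℕ) : ℕ × ℕ :=
  (Tab.xor p.1 r.1, Tab.xor (Tab.xor p.2 r.2) (T.mul (ph T j p.1) r.1))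

/-- Inverse of pairs. -/
def pi (p : ℕ × ℕ) : ℕ × ℕ := (p.1, Tab.xor p.2 (T.mul (ph T j p.1) p.1))

/-- Torus action on pairs. -/
def pa (k : ℕ) (p : ℕ × ℕ) : ℕ × ℕ := (T.mul k p.1, T.mul (T.mul (ph T j k) k) p.2)

/-- The pairs of a fact. -/
def fu (x : FQ) : ℕ × ℕ := (x.ux, x.uy)
/-- The image. -/
def ff (x : FQ) : ℕ × ℕ := (x.fx, x.fy)
/-- The right factor. -/
def fg (x : FQ) : ℕ × ℕ := (x.gx, x.gy)

/-- A fact from pairs. -/
def mk (u f : ℕ × ℕ) (h : ℕ) (g : ℕ × ℕ) : FQ := ⟨u.1, u.2, f.1, f.2, h, g.1, g.2⟩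

/-- Equality of pairs. -/
def peq (p r : ℕ × ℕ) : Bool := Nat.beq p.1 r.1 && Nat.beq p.2 r.2

/-- Scaling a fact. -/
def scale (x : FQ) (k : ℕ) : FQ :=
  mk (pa T j k (fu x)) (pa T j (T.inv k) (ff x)) (T.mul (T.mul x.h (T.inv k)) (T.inv k))
    (pa T j (T.inv k) (fg x))

/-- The symmetric fact. -/
def sym (x : FQ) : FQ := mk (ff x) (fu x) (T.inv x.h) (pa T j (T.inv x.h) (pi T j (fg x)))

/-- The inverse fact. -/
def inv' (x : FQ) : FQ := mk (pi T j (fu x)) (pi T j (fg x)) x.h (pi T j (ff x))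

/-- The fact of the functional equation. -/
def eqn (w u r : FQ) : FQ :=
  mk (pm T j (fu w) (ff u)) (pm T j (ff w) (pa T j w.h (ff r))) (T.mul (T.mul w.h r.h) (T.inv u.h))
    (pa T j (T.inv u.h) (pm T j (fg r) (pi T j (fg u))))

/-- An operation: tag and three arguments. -/
def step (st : List FQ) (op : ℕ × ℕ × ℕ × ℕ) : Option FQ :=
  match op with
  | (0, i, k, _) => st[i]?.bind fun x => if Nat.blt 0 k && Nat.blt k T.q then some (scale T j x k) else none
  | (1, i, _, _) => st[i]?.map (sym T j)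
  | (2, i, _, _) => st[i]?.map (inv' T j)
  | (_, i, k, l) => st[i]?.bind fun w => st[k]?.bind fun u => st[l]?.bind fun r =>
      if peq (fu r) (pm T j (fg w) (fu u)) then some (eqn T j w u r) else none

/-- Replay. -/
def run : List (ℕ × ℕ × ℕ × ℕ) → List FQ → Option (List FQ)
  | [], st => some st
  | op :: ops, st => (step T j st op).bind fun x => run ops (st ++ [x])

/-- A contradiction among the facts. -/
def bad (st : List FQ) (e : ℕ × ℕ × ℕ) : Bool :=
  match e with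
  | (0, i, k) => (st[i]?.bind fun x => st[k]?.map fun y => peq (fu x) (fu y) &&
      !(peq (ff x) (ff y) && (Nat.beq x.h y.h && peq (fg x) (fg y)))).getD false
  | (1, i, _) => (st[i]?.map fun x => peq (fu x) (0, 0) || (peq (ff x) (0, 0) || peq (fg x) (0, 0))).getD false
  | (_, i, k) => (st[i]?.bind fun w => st[k]?.map fun u =>
      peq (pm T j (fg w) (fu u)) (0, 0) && !(peq (pm T j (fu w) (ff u)) (0, 0))).getD false

/-- The first fact. -/
def start (a c : ℕ) : List FQ := [mk (0, 1) (a, c) 1 (pi T j (a, c))]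

/-- A refutation of the value `(a, c)`. -/
def refutes (a c : ℕ) (ops : List (ℕ × ℕ × ℕ × ℕ)) (e : ℕ × ℕ × ℕ) : Bool :=
  ((run T j ops (start T j a c)).map fun st => bad T j st e).getD false

/-- All values but the two exceptional ones are refuted. -/
def allBad (exc : List (ℕ × ℕ)) (cases : List (List (ℕ × ℕ × ℕ × ℕ) × (ℕ × ℕ × ℕ))) : Bool :=
  allBelow (fun a => allBelow (fun c =>
    (exc.any fun p => peq p (a, c)) ||
      refutes T j a c (cases.getD (a * T.q + c) ([], 0, 0, 0)).1 (cases.getD (a * T.q + c) ([], 0, 0, 0)).2)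
    T.q) T.q

/-- The structure function of the Suzuki group, in codes. -/
def szF (p : ℕ × ℕ) : ℕ × ℕ :=
  let z := Tab.xor (Tab.xor (T.mul p.1 p.2) (T.mul (ph T j p.1) (T.mul p.1 p.1))) (ph T j p.2)
  (T.mul p.2 (T.inv z), T.mul p.1 (T.inv z))

/-- The facts determine the whole structure function. -/
def covers (st : List FQ) (cov : List (ℕ × ℕ)) : Bool :=
  allBelow (fun x => allBelow (fun y => (Nat.beq x 0 && Nat.beq y 0) ||
    ((st[(cov.getD (x * T.q + y) (0, 0)).1]?.map fun f =>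
      Nat.blt 0 (cov.getD (x * T.q + y) (0, 0)).2 && (Nat.blt (cov.getD (x * T.q + y) (0, 0)).2 T.q &&
        (peq (fu (scale T j f (cov.getD (x * T.q + y) (0, 0)).2)) (x, y) &&
          peq (ff (scale T j f (cov.getD (x * T.q + y) (0, 0)).2)) (szF T j (x, y))))).getD false)) T.q) T.q

/-- The good value gives the Suzuki structure function. -/
def solves (ops : List (ℕ × ℕ × ℕ × ℕ)) (cov : List (ℕ × ℕ)) : Bool :=
  ((run T j ops (start T j 1 0)).map fun st => covers T j st cov).getD false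

variable [hT : Tab.Good T]

local notation "KK" => Tab.El T

/-- A pair of codes as coordinates. -/
def pt (p : ℕ × ℕ) : KK × KK := (el p.1, el p.2)

variable (hph : phOK T j = true)
include hph

theorem ph_spec {a : ℕ} (ha : a < T.q) : ph T j a < T.q ∧ ∀ b, b < T.q →
    ph T j (Tab.xor a b) = Tab.xor (ph T j a) (ph T j b) ∧
      ph T j (T.mul a b) = T.mul (ph T j a) (ph T j b) := by
  simp only [phOK, Bool.and_eq_true] at hph
  have h := allBelow_spec hph.2.2 ha
  simp only [Bool.and_eq_true, Nat.blt_eq] at h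
  refine ⟨h.1, fun b hb => ?_⟩
  have h' := allBelow_spec h.2 hb
  simpa only [Bool.and_eq_true, Nat.beq_eq] using h'

/-- The twisting endomorphism. -/
def phi : KK →+* KK where
  toFun x := el (ph T j (x.v : ℕ))
  map_one' := by
    have h := hph
    simp only [phOK, Bool.and_eq_true, Nat.beq_eq] at h
    rw [show ((1 : KK).v : ℕ) = 1 from rfl, h.1, Tab.el_one]
  map_zero' := by
    have h := hph
    simp only [phOK, Bool.and_eq_true, Nat.beq_eq] at h
    rw [show ((0 : KK).v : ℕ) = 0 from rfl, h.2.1, Tab.el_zero]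
  map_add' x y := by
    rw [show ((x + y).v : ℕ) = Tab.xor x.v y.v from rfl, ((ph_spec T j hph x.v.2).2 _ y.v.2).1,
      Tab.el_xor (ph_spec T j hph x.v.2).1 (ph_spec T j hph y.v.2).1]
  map_mul' x y := by
    rw [show ((x * y).v : ℕ) = T.mul x.v y.v from rfl, ((ph_spec T j hph x.v.2).2 _ y.v.2).2,
      Tab.el_mul (ph_spec T j hph x.v.2).1 (ph_spec T j hph y.v.2).1]

theorem phi_el {a : ℕ} (ha : a < T.q) : phi T j hph (el a) = el (ph T j a) :=
  congrArg (fun n => (el (ph T j n) : KK)) (Tab.el_val ha)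

omit hph in
/-- Bounded pairs. -/
def Bd (p : ℕ × ℕ) : Prop := p.1 < T.q ∧ p.2 < T.q

theorem mul_lt {a b : ℕ} (ha : a < T.q) (hb : b < T.q) : T.mul a b < T.q :=
  ((Tab.spec ha).2.2.2.2 b hb).1

theorem pm_spec {p r : ℕ × ℕ} (hp : Bd T p) (hr : Bd T r) :
    Bd T (pm T j p r) ∧ pt T (pm T j p r) = pmul (phi T j hph) (pt T p) (pt T r) := by
  have h1 := (ph_spec T j hph hp.1).1
  refine ⟨⟨Tab.xor_lt hp.1 hr.1, Tab.xor_lt (Tab.xor_lt hp.2 hr.2) (mul_lt T j hph h1 hr.1)⟩, ?_⟩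
  simp only [pt, pm, pmul]
  rw [Tab.el_xor hp.1 hr.1, Tab.el_xor (Tab.xor_lt hp.2 hr.2) (mul_lt T j hph h1 hr.1),
    Tab.el_xor hp.2 hr.2, Tab.el_mul h1 hr.1, phi_el T j hph hp.1]

theorem pi_spec {p : ℕ × ℕ} (hp : Bd T p) :
    Bd T (pi T j p) ∧ pt T (pi T j p) = pinv (phi T j hph) (pt T p) := by
  have h1 := (ph_spec T j hph hp.1).1
  refine ⟨⟨hp.1, Tab.xor_lt hp.2 (mul_lt T j hph h1 hp.1)⟩, ?_⟩
  simp only [pt, pi, pinv, CharTwo.neg_eq]
  rw [Tab.el_xor hp.2 (mul_lt T j hph h1 hp.1), Tab.el_mul h1 hp.1, phi_el T j hph hp.1]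

theorem pa_spec {k : ℕ} {p : ℕ × ℕ} (hk : k < T.q) (kk : KKˣ) (hkk : (kk : KK) = el k) (hp : Bd T p) :
    Bd T (pa T j k p) ∧ pt T (pa T j k p) = pact (phi T j hph) kk (pt T p) := by
  have h1 := (ph_spec T j hph hk).1
  refine ⟨⟨mul_lt T j hph hk hp.1, mul_lt T j hph (mul_lt T j hph h1 hk) hp.2⟩, ?_⟩
  simp only [pt, pa, pact]
  rw [Tab.el_mul hk hp.1, Tab.el_mul (mul_lt T j hph h1 hk) hp.2, Tab.el_mul h1 hk, hkk, phi_el T j hph hk]

variable {G : Type*} {Ω : Type*} [Group G] [MulAction G Ω]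

/-- A valid fact. -/
def Sem (F : Frame (phi T j hph) G Ω) (x : FQ) : Prop :=
  Bd T (fu x) ∧ Bd T (ff x) ∧ Bd T (fg x) ∧ x.h < T.q ∧
    ∃ hh : KKˣ, (hh : KK) = el x.h ∧ F.Rel (pt T (fu x)) (pt T (ff x)) hh (pt T (fg x))

theorem inv_unit {k : ℕ} (hk : k < T.q) (kk : KKˣ) (hkk : (kk : KK) = el k) :
    T.inv k < T.q ∧ ((kk⁻¹ : KKˣ) : KK) = el (T.inv k) :=
  ⟨(Tab.spec hk).2.1, by rw [Units.val_inv_eq_inv_val, hkk, Tab.el_inv hk]⟩

variable (F : Frame (phi T j hph) G Ω)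
include F

theorem step_spec {st : List FQ} (hst : ∀ x ∈ st, Sem T j hph F x) {op : ℕ × ℕ × ℕ × ℕ} {y : FQ}
    (h : step T j st op = some y) : Sem T j hph F y := by
  obtain ⟨t, i, k, l⟩ := op
  have hget : ∀ {i : ℕ} {x : FQ}, st[i]? = some x → Sem T j hph F x := fun hx =>
    hst _ (List.mem_of_getElem? hx)
  match t with
  | 0 =>
    simp only [step, Option.bind_eq_some_iff, Option.ite_none_right_eq_some, Bool.and_eq_true,
      Nat.blt_eq, Option.some.injEq] at h
    obtain ⟨x, hx, ⟨hk0, hk⟩, rfl⟩ := h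
    obtain ⟨hu, hf, hg, hh, hh', heq, r⟩ := hget hx
    have hne : (el k : KK) ≠ 0 := fun e => hk0.ne' ((Tab.el_eq_zero hk).1 e)
    set kk : KKˣ := Units.mk0 (el k) hne
    obtain ⟨hi, hie⟩ := inv_unit T j hph hk kk rfl
    obtain ⟨b1, e1⟩ := pa_spec T j hph hk kk rfl hu
    obtain ⟨b2, e2⟩ := pa_spec T j hph hi kk⁻¹ hie hf
    obtain ⟨b3, e3⟩ := pa_spec T j hph hi kk⁻¹ hie hg
    refine ⟨b1, b2, b3, mul_lt T j hph (mul_lt T j hph hh hi) hi, hh' * kk⁻¹ * kk⁻¹, ?_, ?_⟩
    · show _ = el (T.mul (T.mul x.h (T.inv k)) (T.inv k))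
      rw [Tab.el_mul (mul_lt T j hph hh hi) hi, Tab.el_mul hh hi, Units.val_mul, Units.val_mul, heq, hie]
    · show F.Rel (pt T (pa T j k (fu x))) (pt T (pa T j (T.inv k) (ff x))) _ (pt T (pa T j (T.inv k) (fg x)))
      rw [e1, e2, e3]
      exact F.rel_scale r kk
  | 1 =>
    simp only [step, Option.map_eq_some_iff] at h
    obtain ⟨x, hx, rfl⟩ := h
    obtain ⟨hu, hf, hg, hh, hh', heq, r⟩ := hget hx
    obtain ⟨hi, hie⟩ := inv_unit T j hph hh hh' heq
    obtain ⟨b1, e1⟩ := pi_spec T j hph hg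
    obtain ⟨b2, e2⟩ := pa_spec T j hph hi hh'⁻¹ hie b1
    refine ⟨hf, hu, b2, hi, hh'⁻¹, hie, ?_⟩
    show F.Rel (pt T (ff x)) (pt T (fu x)) _ (pt T (pa T j (T.inv x.h) (pi T j (fg x))))
    rw [e2, e1]
    exact F.rel_sym r
  | 2 =>
    simp only [step, Option.map_eq_some_iff] at h
    obtain ⟨x, hx, rfl⟩ := h
    obtain ⟨hu, hf, hg, hh, hh', heq, r⟩ := hget hx
    obtain ⟨b1, e1⟩ := pi_spec T j hph hu
    obtain ⟨b2, e2⟩ := pi_spec T j hph hg
    obtain ⟨b3, e3⟩ := pi_spec T j hph hf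
    refine ⟨b1, b2, b3, hh, hh', heq, ?_⟩
    show F.Rel (pt T (pi T j (fu x))) (pt T (pi T j (fg x))) _ (pt T (pi T j (ff x)))
    rw [e1, e2, e3]
    exact F.rel_inv r
  | t + 3 =>
    simp only [step, Option.bind_eq_some_iff, Option.ite_none_right_eq_some, Option.some.injEq] at h
    obtain ⟨w, hw, u, hu, r, hr, hpeq, rfl⟩ := h
    obtain ⟨wu, wf, wg, wh, hw', hwe, Rw⟩ := hget hw
    obtain ⟨uu, uf, ug, uh, hu', hue, Ru⟩ := hget hu
    obtain ⟨ru, rf', rg, rh, hr', hre, Rr⟩ := hget hr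
    simp only [peq, Bool.and_eq_true, Nat.beq_eq] at hpeq
    have hR : fu r = pm T j (fg w) (fu u) := Prod.ext hpeq.1 hpeq.2
    obtain ⟨-, eR⟩ := pm_spec T j hph wg uu
    rw [hR, eR] at Rr
    obtain ⟨b1, e1⟩ := pm_spec T j hph wu uf
    obtain ⟨b2, e2⟩ := pa_spec T j hph wh hw' hwe rf'
    obtain ⟨b3, e3⟩ := pm_spec T j hph wf b2
    obtain ⟨hi, hie⟩ := inv_unit T j hph uh hu' hue
    obtain ⟨b4, e4⟩ := pi_spec T j hph ug
    obtain ⟨b5, e5⟩ := pm_spec T j hph rg b4
    obtain ⟨b6, e6⟩ := pa_spec T j hph hi hu'⁻¹ hie b5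
    refine ⟨b1, b3, b6, mul_lt T j hph (mul_lt T j hph wh rh) hi, hw' * hr' * hu'⁻¹, ?_, ?_⟩
    · show _ = el (T.mul (T.mul w.h r.h) (T.inv u.h))
      rw [Tab.el_mul (mul_lt T j hph wh rh) hi, Tab.el_mul wh rh, Units.val_mul, Units.val_mul, hwe, hre, hie]
    · show F.Rel (pt T (pm T j (fu w) (ff u))) (pt T (pm T j (ff w) (pa T j w.h (ff r)))) _
        (pt T (pa T j (T.inv u.h) (pm T j (fg r) (pi T j (fg u)))))
      rw [e1, e3, e2, e6, e5, e4]
      exact F.rel_eq Rw Ru Rr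

theorem run_spec : ∀ {ops : List (ℕ × ℕ × ℕ × ℕ)} {st st' : List FQ}, (∀ x ∈ st, Sem T j hph F x) →
    run T j ops st = some st' → ∀ x ∈ st', Sem T j hph F x
  | [], st, st', h, e => by simp only [run, Option.some.injEq] at e; exact e ▸ h
  | op :: ops, st, st', h, e => by
    simp only [run, Option.bind_eq_some_iff] at e
    obtain ⟨y, hy, e⟩ := e
    refine run_spec (fun x hx => ?_) e
    rcases List.mem_append.1 hx with hx | hx
    · exact h x hx
    · rw [List.mem_singleton.1 hx]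
      exact step_spec T j hph F h hy

theorem pt_eq_zero {p : ℕ × ℕ} (hp : Bd T p) : pt T p = 0 ↔ p = (0, 0) := by
  simp only [pt, Prod.ext_iff, Prod.fst_zero, Prod.snd_zero, Tab.el_eq_zero hp.1, Tab.el_eq_zero hp.2]

theorem pt_inj {p r : ℕ × ℕ} (hp : Bd T p) (hr : Bd T r) (h : pt T p = pt T r) : p = r :=
  Prod.ext (Tab.el_inj hp.1 hr.1 (congrArg Prod.fst h)) (Tab.el_inj hp.2 hr.2 (congrArg Prod.snd h))

theorem bad_spec {st : List FQ} (hst : ∀ x ∈ st, Sem T j hph F x) {e : ℕ × ℕ × ℕ}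
    (h : bad T j st e = true) : False := by
  obtain ⟨t, i, k⟩ := e
  have hget : ∀ {i : ℕ} {x : FQ}, st[i]? = some x → Sem T j hph F x := fun hx =>
    hst _ (List.mem_of_getElem? hx)
  match t with
  | 0 =>
    simp only [bad] at h
    cases hx : st[i]? with
    | none => simp [hx] at h
    | some x =>
      cases hy : st[k]? with
      | none => simp [hx, hy] at h
      | some y =>
        simp only [hx, hy, Option.bind_some, Option.map_some, Option.getD_some, peq, Bool.and_eq_true,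
          Nat.beq_eq, Bool.not_eq_true', ← Bool.not_eq_true] at h
        obtain ⟨xu, xf, xg, xh, x', xe, rx⟩ := hget hx
        obtain ⟨yu, yf, yg, yh, y', ye, ry⟩ := hget hy
        rw [show fu x = fu y from Prod.ext h.1.1 h.1.2] at rx
        obtain ⟨e1, e2, e3⟩ := F.rel_unique rx ry
        have p1 := pt_inj T j hph F xf yf e1
        have p2 := pt_inj T j hph F xg yg e3
        have p3 := Tab.el_inj xh yh (by rw [← xe, ← ye, e2])
        exact h.2 ⟨⟨congrArg Prod.fst p1, congrArg Prod.snd p1⟩, p3, congrArg Prod.fst p2, congrArg Prod.snd p2⟩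
  | 1 =>
    simp only [bad] at h
    cases hx : st[i]? with
    | none => simp [hx] at h
    | some x =>
      simp only [hx, Option.map_some, Option.getD_some, Bool.or_eq_true, peq, Bool.and_eq_true, Nat.beq_eq] at h
      obtain ⟨xu, xf, xg, -, x', -, rx⟩ := hget hx
      obtain ⟨n1, n2, n3⟩ := F.rel_ne_zero rx
      rcases h with h | h | h
      · exact n1 ((pt_eq_zero T j hph F xu).2 (Prod.ext h.1 h.2))
      · exact n2 ((pt_eq_zero T j hph F xf).2 (Prod.ext h.1 h.2))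
      · exact n3 ((pt_eq_zero T j hph F xg).2 (Prod.ext h.1 h.2))
  | t + 2 =>
    simp only [bad] at h
    cases hx : st[i]? with
    | none => simp [hx] at h
    | some w =>
      cases hy : st[k]? with
      | none => simp [hx, hy] at h
      | some u =>
        simp only [hx, hy, Option.bind_some, Option.map_some, Option.getD_some, peq, Bool.and_eq_true,
          Nat.beq_eq, Bool.not_eq_true', ← Bool.not_eq_true] at h
        obtain ⟨wu, wf, wg, -, w', -, rw_⟩ := hget hx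
        obtain ⟨uu, uf, ug, -, u', -, ru⟩ := hget hy
        obtain ⟨b1, e1⟩ := pm_spec T j hph wg uu
        obtain ⟨b2, e2⟩ := pm_spec T j hph wu uf
        have h0 := F.rel_eq_zero rw_ ru (e1 ▸ (pt_eq_zero T j hph F b1).2 (Prod.ext h.1.1 h.1.2))
        have h2 := (pt_eq_zero T j hph F b2).1 (e2.trans h0)
        exact h.2 ⟨congrArg Prod.fst h2, congrArg Prod.snd h2⟩

theorem start_spec {a c : ℕ} (ha : a < T.q) (hc : c < T.q)
    (r : F.Rel (0, 1) (el a, el c) 1 (pinv (phi T j hph) (el a, el c))) :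
    ∀ x ∈ start T j a c, Sem T j hph F x := by
  intro x hx
  rw [List.mem_singleton.1 hx]
  have h0 : (0 : ℕ) < T.q := lt_trans one_pos Tab.q_gt_one
  obtain ⟨b1, e1⟩ := pi_spec T j hph (p := (a, c)) ⟨ha, hc⟩
  refine ⟨⟨h0, Tab.q_gt_one⟩, ⟨ha, hc⟩, b1, Tab.q_gt_one, 1, Tab.el_one.symm, ?_⟩
  show F.Rel (pt T (0, 1)) (pt T (a, c)) 1 (pt T (pi T j (a, c)))
  rw [e1, show pt T (0, 1) = (0, 1) by simp [pt, Tab.el_zero, Tab.el_one]]
  exact r

/-- The first value is exceptional. -/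
theorem exceptional {exc : List (ℕ × ℕ)} {cases : List (List (ℕ × ℕ × ℕ × ℕ) × (ℕ × ℕ × ℕ))}
    (hc : allBad T j exc cases = true) {x y : KK} (r : F.Rel (0, 1) (x, y) 1 (pinv (phi T j hph) (x, y))) :
    ∃ p ∈ exc, x = el p.1 ∧ y = el p.2 := by
  have h := allBelow_spec (allBelow_spec hc x.v.2) y.v.2
  rw [Bool.or_eq_true] at h
  rcases h with h | h
  · simp only [List.any_eq_true, peq, Bool.and_eq_true, Nat.beq_eq] at h
    obtain ⟨p, hp, e1, e2⟩ := h
    exact ⟨p, hp, by rw [e1, Tab.el_of_val], by rw [e2, Tab.el_of_val]⟩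
  · exfalso
    simp only [refutes] at h
    cases hr : run T j (cases.getD ((x.v : ℕ) * T.q + y.v) ([], 0, 0, 0)).1 (start T j x.v y.v) with
    | none => rw [hr] at h; exact Bool.noConfusion h
    | some st =>
      rw [hr, Option.map_some, Option.getD_some] at h
      refine bad_spec T j hph F (run_spec T j hph F (start_spec T j hph F x.v.2 y.v.2 ?_) hr) h
      rw [Tab.el_of_val, Tab.el_of_val]
      exact r

/-- The good value gives the structure function of the Suzuki group. -/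
theorem solved {ops : List (ℕ × ℕ × ℕ × ℕ)} {cov : List (ℕ × ℕ)} (hs : solves T j ops cov = true)
    (r : F.Rel (0, 1) (1, 0) 1 (pinv (phi T j hph) (1, 0))) (u : KK × KK) (hu : u ≠ 0) :
    ∃ h g, F.Rel u (pt T (szF T j ((u.1.v : ℕ), (u.2.v : ℕ)))) h g := by
  simp only [solves] at hs
  cases hr : run T j ops (start T j 1 0) with
  | none => simp [hr] at hs
  | some st =>
    simp only [hr, Option.map_some, Option.getD_some] at hs
    have hsem := run_spec T j hph F (start_spec T j hph F (a := 1) (c := 0) Tab.q_gt_one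
      (lt_trans one_pos Tab.q_gt_one) (by rw [Tab.el_one, Tab.el_zero]; exact r)) hr
    have h := allBelow_spec (allBelow_spec hs u.1.v.2) u.2.v.2
    rw [Bool.or_eq_true] at h
    rcases h with h | h
    · simp only [Bool.and_eq_true, Nat.beq_eq] at h
      exact absurd (Prod.ext (Tab.val_inj h.1) (Tab.val_inj h.2)) hu
    generalize cov.getD ((u.1.v : ℕ) * T.q + u.2.v) (0, 0) = ik at h
    obtain ⟨i, k⟩ := ik
    cases hi : st[i]? with
    | none => simp [hi] at h
    | some f =>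
      simp only [hi, Option.map_some, Option.getD_some, Bool.and_eq_true, peq, Nat.beq_eq] at h
      obtain ⟨h0, hk, hfu, hff⟩ := h
      have hmem : f ∈ st := List.mem_of_getElem? hi
      have hsc : step T j st (0, i, k, 0) = some (scale T j f k) := by
        simp [step, hi, h0, hk]
      obtain ⟨-, -, -, -, h', -, R⟩ := step_spec T j hph F hsem hsc
      rw [show fu (scale T j f k) = ((u.1.v : ℕ), (u.2.v : ℕ)) from Prod.ext hfu.1 hfu.2,
        show ff (scale T j f k) = szF T j ((u.1.v : ℕ), (u.2.v : ℕ)) from Prod.ext hff.1 hff.2] at R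
      rw [show pt T ((u.1.v : ℕ), (u.2.v : ℕ)) = u from
        Prod.ext (Tab.el_of_val u.1) (Tab.el_of_val u.2)] at R
      exact ⟨h', _, R⟩

end Code

end Cfsg.Agent.SzSmall
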