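import Cfsg.Agent.Lib.Suzuki2.TypeA

/-!
# Equivariant coordinates on a Suzuki 2-group of order `q ^ 2`
-/

set_option autoImplicit false
set_option linter.style.haveILetI false

namespace Cfsg.Agent.SzSmall

open Cfsg.Agent.Suzuki2 Cfsg.Agent.Suzuki2.Datum
open Cfsg.Agent.RankOne

universe u v

variable {P : Type u} [Group P] [Finite P]

/-- A finite symmetric cocycle vanishing on the diagonal, in characteristic two, is a coboundary. -/
theorem exists_coboundary {F : Type v} [Field F] [Finite F] [CharP F 2] (δ : F → F → F)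
    (hz : ∀ a, δ 0 a = 0) (hs : ∀ a b, δ a b = δ b a) (hd : ∀ a, δ a a = 0)
    (hc : ∀ a b c, δ a b + δ (a + b) c = δ b c + δ a (b + c)) :
    ∃ d : F → F, ∀ a b, δ a b = d (a + b) + d a + d b := by
  classical
  let mulE : F × F → F × F → F × F := fun p r => (p.1 + r.1, p.2 + r.2 + δ p.1 r.1)
  letI iM : Mul (Multiplicative (F × F)) := ⟨fun p r => Multiplicative.ofAdd (mulE p.toAdd r.toAdd)⟩
  letI iO : One (Multiplicative (F × F)) := ⟨Multiplicative.ofAdd (0, 0)⟩
  letI iI : Inv (Multiplicative (F × F)) := ⟨id⟩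
  letI : Group (Multiplicative (F × F)) :=
    Group.ofLeftAxioms
      (fun p r t => Multiplicative.toAdd.injective (Prod.ext (add_assoc _ _ _) (by
        show p.toAdd.2 + r.toAdd.2 + δ p.toAdd.1 r.toAdd.1 + t.toAdd.2 + δ (p.toAdd.1 + r.toAdd.1) t.toAdd.1 =
          p.toAdd.2 + (r.toAdd.2 + t.toAdd.2 + δ r.toAdd.1 t.toAdd.1) + δ p.toAdd.1 (r.toAdd.1 + t.toAdd.1)
        linear_combination hc p.toAdd.1 r.toAdd.1 t.toAdd.1)))
      (fun p => Multiplicative.toAdd.injective (Prod.ext (zero_add _) (by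
        show 0 + p.toAdd.2 + δ 0 _ = _
        rw [hz, zero_add, add_zero])))
      (fun p => Multiplicative.toAdd.injective (Prod.ext (CharTwo.add_self_eq_zero _) (by
        show p.toAdd.2 + p.toAdd.2 + δ p.toAdd.1 p.toAdd.1 = 0
        rw [hd, CharTwo.add_self_eq_zero, add_zero])))
  let j : F → Multiplicative (F × F) := fun y => Multiplicative.ofAdd (0, y)
  let V1 : Subgroup (Multiplicative (F × F)) :=
    { carrier := {p | p.toAdd.1 = 0}
      one_mem' := rfl
      mul_mem' := fun {p r} hp hr => by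
        show p.toAdd.1 + r.toAdd.1 = 0
        rw [show p.toAdd.1 = 0 from hp, show r.toAdd.1 = 0 from hr, add_zero]
      inv_mem' := fun {p} hp => hp }
  have hsq : ∀ p : Multiplicative (F × F), p * p = 1 := fun p => inv_mul_cancel p
  obtain ⟨W, hW, hW'⟩ := exists_complement_of_sq hsq V1
  have hcomm : ∀ p r : Multiplicative (F × F), p * r = r * p := fun p r =>
    Multiplicative.toAdd.injective (Prod.ext (add_comm _ _) (by
      show p.toAdd.2 + r.toAdd.2 + δ _ _ = r.toAdd.2 + p.toAdd.2 + δ _ _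
      rw [hs, add_comm p.toAdd.2]))
  haveI : V1.Normal := ⟨fun n hn g => by rwa [hcomm g n, mul_inv_cancel_right]⟩
  have hex : ∀ a : F, ∃ y, Multiplicative.ofAdd (a, y) ∈ W := fun a => by
    obtain ⟨w, hw, v, hv, e⟩ := Subgroup.mem_sup_of_normal_right.1
      (hW' ▸ Subgroup.mem_top (Multiplicative.ofAdd (a, (0 : F))))
    refine ⟨w.toAdd.2, ?_⟩
    have e1 : w.toAdd.1 + v.toAdd.1 = a := congrArg (fun p => p.toAdd.1) e
    rw [show v.toAdd.1 = 0 from hv, add_zero] at e1
    rwa [← e1]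
  choose d hdW using hex
  refine ⟨d, fun a b => ?_⟩
  have h1 := mul_mem (mul_mem (hdW a) (hdW b)) (hdW (a + b))
  have h2 : Multiplicative.ofAdd (a, d a) * Multiplicative.ofAdd (b, d b) * Multiplicative.ofAdd (a + b, d (a + b))
      ∈ W ⊓ V1 := ⟨h1, CharTwo.add_self_eq_zero (a + b)⟩
  rw [hW, Subgroup.mem_bot] at h2
  have h3 : d a + d b + δ a b + d (a + b) + δ (a + b) (a + b) = 0 := congrArg (fun p => p.toAdd.2) h2
  rw [hd, add_zero] at h3
  linear_combination h3 - (CharTwo.two_eq_zero (R := F)) * (d (a + b) + d a + d b)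

theorem exists_square_coord_act (D : Datum P) (hna : ∃ x y : P, x * y ≠ y * x)
    (hcard : Nat.card P = Nat.card D.V ^ 2) :
    ∃ (F : Type) (_ : Field F) (_ : Fintype F) (_ : CharP F 2) (π co : P → F) (el : F → P)
      (Q : F → F) (mU : D.K ≃* Fˣ) (mV : D.K →* Fˣ),
      Fintype.card F = Nat.card D.V ∧ (∀ x y, π (x * y) = π x + π y) ∧ (∀ x, π x = 0 ↔ x ∈ D.V) ∧
      Function.Surjective π ∧ (∀ x, el x ∈ D.V) ∧ (∀ x, co (el x) = x) ∧ (∀ v ∈ D.V, el (co v) = v) ∧
      (∀ v ∈ D.V, ∀ w ∈ D.V, co (v * w) = co v + co w) ∧ (∀ x, co (x * x) = Q (π x)) ∧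
      (∀ (k : D.K) x, π ((k : MulAut P) x) = (mU k : F) * π x) ∧
      (∀ (k : D.K), ∀ v ∈ D.V, co ((k : MulAut P) v) = (mV k : F) * co v) ∧
      Function.Injective (mV.comp mU.symm.toMonoidHom) ∧
      ∀ (a : Fˣ) x, Q ((a : F) * x) = (mV (mU.symm a) : F) * Q x := by
  classical
  haveI : Fact (Nat.Prime 2) := ⟨Nat.prime_two⟩
  letI : CommGroup (P ⧸ D.V) :=
    { (inferInstance : Group (P ⧸ D.V)) with
      mul_comm := fun a b => by
        obtain ⟨x, rfl⟩ := QuotientGroup.mk_surjective a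
        obtain ⟨y, rfl⟩ := QuotientGroup.mk_surjective b
        rw [← QuotientGroup.mk_mul, ← QuotientGroup.mk_mul, QuotientGroup.eq]
        rw [show (x * y)⁻¹ * (y * x) = y⁻¹ * x⁻¹ * y⁻¹⁻¹ * x⁻¹⁻¹ by group]
        exact D.comm_mem_V hna _ _ }
  let act : D.K → P ⧸ D.V → P ⧸ D.V := fun k =>
    QuotientGroup.map D.V D.V (k : MulAut P).toMonoidHom (fun v hv => D.map_V _ hv)
  have hact : ∀ (k : D.K) (x : P), act k (x : P ⧸ D.V) = ((k : MulAut P) x : P) := fun k x => rfl
  have hcardU : Nat.card (P ⧸ D.V) = Nat.card D.V := by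
    have h := Subgroup.card_eq_card_quotient_mul_card_subgroup D.V
    rw [hcard, pow_two] at h
    exact (Nat.eq_of_mul_eq_mul_right Nat.card_pos h).symm
  have hreg : ∀ a b : P ⧸ D.V, a ≠ 1 → b ≠ 1 → ∃! k, act k a = b := by
    intro a b ha hb
    obtain ⟨x, rfl⟩ := QuotientGroup.mk_surjective a
    have hxV : x ∉ D.V := fun h => ha ((QuotientGroup.eq_one_iff x).2 h)
    have hne : ∀ k, act k (x : P ⧸ D.V) ≠ 1 := fun k e => by
      rw [hact, QuotientGroup.eq_one_iff] at e
      refine hxV ?_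
      have := D.map_V ((k⁻¹ : D.K) : MulAut P) e
      simpa using this
    have hinj : Function.Injective (fun k => act k (x : P ⧸ D.V)) := by
      intro k l e
      by_contra hne'
      simp only [hact, QuotientGroup.eq] at e
      have h3 := D.free_section (N := D.V) D.V_stable (k := l * k⁻¹)
        (fun h => hne' (mul_inv_eq_one.1 h).symm) (x := (k : MulAut P) x) (by
          have e2 : ((l * k⁻¹ : D.K) : MulAut P) ((k : MulAut P) x) = (l : MulAut P) x := by
            show (l : MulAut P) (((k⁻¹ * k : D.K) : MulAut P) x) = _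
            rw [inv_mul_cancel]; rfl
          rw [e2]; exact e)
      refine hxV ?_
      have := D.map_V ((k⁻¹ : D.K) : MulAut P) h3
      simpa using this
    haveI := Fintype.ofFinite (P ⧸ D.V)
    haveI := Fintype.ofFinite D.K
    have hbij : Function.Bijective
        (fun k => (⟨act k (x : P ⧸ D.V), hne k⟩ : {z : P ⧸ D.V // z ≠ 1})) := by
      rw [Fintype.bijective_iff_injective_and_card]
      refine ⟨fun k l e => hinj (congrArg Subtype.val e), ?_⟩
      rw [Fintype.card_subtype_compl, Fintype.card_subtype_eq, ← Nat.card_eq_fintype_card,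
        ← Nat.card_eq_fintype_card, hcardU, ← D.card_K_add_one, Nat.add_sub_cancel]
    obtain ⟨k, hk⟩ := hbij.2 ⟨b, hb⟩
    exact ⟨k, congrArg Subtype.val hk, fun l hl => hinj (hl.trans (congrArg Subtype.val hk).symm)⟩
  obtain ⟨x0, hx0⟩ : ∃ x, x ∉ D.V := by
    obtain ⟨x, y, hxy⟩ := hna
    exact ⟨x, fun h => hxy (D.V_central h y).symm⟩
  obtain ⟨FU, _, _, _, e, g, hg⟩ := exists_field (U := Additive (P ⧸ D.V)) (K := D.K)
    (fun k u => Additive.ofMul (act k u.toMul))
    (fun u => by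
      obtain ⟨x, hx⟩ := QuotientGroup.mk_surjective u.toMul
      show Additive.ofMul (act 1 u.toMul) = u
      rw [← hx, hact]
      exact Additive.toMul.injective hx)
    (fun k l u => by
      obtain ⟨x, hx⟩ := QuotientGroup.mk_surjective u.toMul
      show Additive.ofMul (act (k * l) u.toMul) = Additive.ofMul (act k (act l u.toMul))
      rw [← hx, hact, hact, hact]; rfl)
    (fun k u w => congrArg Additive.ofMul (map_mul (QuotientGroup.map D.V D.V _ _) u.toMul w.toMul))
    (fun u => by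
      obtain ⟨x, hx⟩ := QuotientGroup.mk_surjective u.toMul
      refine Additive.toMul.injective ?_
      show u.toMul * u.toMul = 1
      rw [← hx, ← QuotientGroup.mk_mul, QuotientGroup.eq_one_iff]
      exact D.sq_mem_V hna x)
    D.comm
    (fun u w hu hw => by
      obtain ⟨k, hk, hk'⟩ := hreg u.toMul w.toMul (fun e => hu (Additive.toMul.injective e))
        (fun e => hw (Additive.toMul.injective e))
      exact ⟨k, congrArg Additive.ofMul hk, fun l hl => hk' l (congrArg Additive.toMul hl)⟩)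
    ⟨Additive.ofMul (x0 : P ⧸ D.V), fun e => hx0 ((QuotientGroup.eq_one_iff x0).1 (congrArg Additive.toMul e))⟩
  obtain ⟨FV, _, _, _, ⟨C⟩, hFV⟩ := exists_coord D
  obtain ⟨n, hn⟩ := IsPGroup.iff_card.1 (D.isp.to_subgroup D.V)
  have hn0 : n ≠ 0 := fun h => by
    have h2 := two_le_card_K (D := D)
    have := D.card_K_add_one
    rw [hn, h, pow_zero] at this
    omega
  letI : Fintype (GaloisField 2 n) := Fintype.ofFinite _
  have hG : Fintype.card (GaloisField 2 n) = Nat.card D.V := by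
    rw [← Nat.card_eq_fintype_card, GaloisField.card 2 n hn0, hn]
  have h1 : Fintype.card FU = Fintype.card (GaloisField 2 n) := by
    rw [hG, ← Nat.card_eq_fintype_card, ← hcardU]
    exact Nat.card_congr (Additive.ofMul.trans e.toEquiv).symm
  have h2 : Fintype.card FV = Fintype.card (GaloisField 2 n) := by
    rw [hG, ← Nat.card_eq_fintype_card, hFV]
  let ιU := FiniteField.ringEquivOfCardEq (K := FU) (K' := GaloisField 2 n) h1
  let ιV := FiniteField.ringEquivOfCardEq (K := FV) (K' := GaloisField 2 n) h2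
  let π : P → GaloisField 2 n := fun x => ιU (e (Additive.ofMul (x : P ⧸ D.V)))
  let co : P → GaloisField 2 n := fun x => ιV (C.co x)
  have hπadd : ∀ x y, π (x * y) = π x + π y := fun x y => by
    show ιU _ = ιU _ + ιU _
    rw [← map_add, ← map_add]; rfl
  have hπk : ∀ (k : D.K) x, π ((k : MulAut P) x) = ιU (g k : FU) * π x := fun k x => by
    show ιU _ = _ * ιU _
    rw [← map_mul, ← hg]; rfl
  have hπ0 : ∀ x, π x = 0 ↔ x ∈ D.V := fun x => by
    show ιU _ = 0 ↔ _
    rw [map_eq_zero_iff _ ιU.injective, AddEquiv.map_eq_zero_iff, ← QuotientGroup.eq_one_iff]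
    exact ⟨fun e => congrArg Additive.toMul e, fun e => congrArg Additive.ofMul e⟩
  have hπs : Function.Surjective π := fun a => by
    obtain ⟨x, hx⟩ := QuotientGroup.mk_surjective (e.symm (ιU.symm a)).toMul
    exact ⟨x, by show ιU (e (Additive.ofMul _)) = a; rw [hx, ofMul_toMul, e.apply_symm_apply, ιU.apply_symm_apply]⟩
  choose r hr using hπs
  let Q : GaloisField 2 n → GaloisField 2 n := fun a => co (r a * r a)
  have hQ : ∀ x, co (x * x) = Q (π x) := by
    intro x
    have hv : (r (π x))⁻¹ * x ∈ D.V := (hπ0 _).1 (by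
      have e1 := hπadd (r (π x)) ((r (π x))⁻¹ * x)
      rw [mul_inv_cancel_left, hr] at e1
      exact left_eq_add.1 e1)
    show ιV (C.co _) = ιV (C.co _)
    conv_lhs => rw [show x = r (π x) * ((r (π x))⁻¹ * x) by group]
    set v := (r (π x))⁻¹ * x
    set a := r (π x)
    rw [show a * v * (a * v) = a * a * (v * v) by
      calc a * v * (a * v) = a * (v * a) * v := by group
        _ = a * (a * v) * v := by rw [D.V_central hv a]
        _ = _ := by group, D.mem_V.1 hv, mul_one]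
  let mV : D.K →* (GaloisField 2 n)ˣ :=
    (Units.map (ιV : FV →* GaloisField 2 n)).comp (MonoidHom.mk' C.μ C.μ_mul)
  let mU : D.K ≃* (GaloisField 2 n)ˣ := g.trans (Units.mapEquiv ιU.toMulEquiv)
  refine ⟨GaloisField 2 n, inferInstance, inferInstance, inferInstance, π, co, fun a => C.el (ιV.symm a),
    Q, mU, mV, hG, hπadd, hπ0, fun a => ⟨r a, hr a⟩, fun a => C.el_mem _,
    fun a => ?_, fun v hv => ?_, fun v hv w hw => ?_, hQ, fun k x => hπk k x, fun k v hv => ?_, ?_, fun a x => ?_⟩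
  · show ιV (C.co (C.el _)) = a
    rw [C.co_el, ιV.apply_symm_apply]
  · show C.el (ιV.symm (ιV _)) = v
    rw [ιV.symm_apply_apply, C.el_co v hv]
  · show ιV _ = ιV _ + ιV _
    rw [C.co_mul v hv w hw, map_add]
  · show ιV _ = ιV (C.μ k : FV) * ιV (C.co v)
    rw [← map_mul, C.co_k k v hv]
  · exact ((Units.map_injective ιV.injective).comp C.μ_bij.1).comp mU.symm.injective
  · obtain ⟨k, rfl⟩ := mU.surjective a
    show Q _ = ((mV (mU.symm (mU k)) : (GaloisField 2 n)ˣ) : GaloisField 2 n) * Q x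
    rw [mU.symm_apply_apply]
    conv_lhs => rw [show x = π (r x) from (hr x).symm]
    rw [show ((mU k : (GaloisField 2 n)ˣ) : GaloisField 2 n) * π (r x) = π ((k : MulAut P) (r x)) from
      (hπk k (r x)).symm, ← hQ, ← map_mul]
    show ιV (C.co _) = ιV (C.μ k : FV) * ιV (C.co _)
    rw [← map_mul, C.co_k k _ (D.sq_mem_V hna _)]

/-- Coordinates in which the Suzuki 2-group has type A and the regular group acts by scalars. -/
theorem exists_model (D : Datum P) (hna : ∃ x y : P, x * y ≠ y * x) (hcard : Nat.card P = Nat.card D.V ^ 2) :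
    ∃ (F : Type) (_ : Field F) (_ : Fintype F) (φ : F ≃+* F) (T : F × F → P) (μ : Fˣ ≃* D.K),
      Fintype.card F = Nat.card D.V ∧ φ ≠ RingEquiv.refl F ∧ Function.Bijective T ∧
      (∀ p r, T p * T r = T (p.1 + r.1, p.2 + r.2 + φ p.1 * r.1)) ∧
      ∀ k p, (μ k : MulAut P) (T p) = T ((k : F) * p.1, φ (k : F) * k * p.2) := by
  classical
  obtain ⟨F, _, _, _, π, co, el, Q, mU, mV, hF, hπadd, hπ0, hπs, hel, hcoel, helco, hcomul, hQ, hπk, hcok,
    hs, hQs⟩ := exists_square_coord_act D hna hcard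
  have hsq := D.sq_mem_V hna
  have hcoinj : ∀ v ∈ D.V, ∀ w ∈ D.V, co v = co w → v = w := fun v hv w hw e => by
    rw [← helco v hv, e, helco w hw]
  have hco1 : co 1 = 0 := by
    have h := hcomul 1 (one_mem _) 1 (one_mem _)
    rw [one_mul] at h
    exact left_eq_add.1 h
  have hπ1 : π 1 = 0 := (hπ0 1).2 (one_mem _)
  set s : Fˣ →* Fˣ := mV.comp mU.symm.toMonoidHom with hsdef
  replace hQs : ∀ (a : Fˣ) x, Q ((a : F) * x) = (s a : F) * Q x := hQs
  have hQ0 : Q 0 = 0 := by
    have h := hQ 1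
    rw [one_mul, hco1, hπ1] at h
    exact h.symm
  have hQne : ∀ x, x ≠ 0 → Q x ≠ 0 := fun x hx e => by
    obtain ⟨p, rfl⟩ := hπs x
    refine hx ((hπ0 p).2 (D.mem_V.2 (hcoinj _ (hsq p) _ (one_mem _) ?_)))
    rw [hQ, e, hco1]
  set c0 := Q 1 with hc0
  have hc0ne : c0 ≠ 0 := hQne 1 one_ne_zero
  have hR : ∀ a : Fˣ, c0⁻¹ * Q (a : F) = (s a : F) := fun a => by
    have := hQs a 1
    rw [mul_one] at this
    rw [this, ← hc0]; field_simp
  let R : F →* F :=
    { toFun := fun x => c0⁻¹ * Q x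
      map_one' := inv_mul_cancel₀ hc0ne
      map_mul' := fun x y => by
        rcases eq_or_ne x 0 with rfl | hx
        · simp [hQ0]
        rw [show x * y = (Units.mk0 x hx : F) * y from rfl, hQs, ← hR, Units.val_mk0]
        ring }
  let β : P → P → F := fun x y => co (y * x * y⁻¹ * x⁻¹)
  have hcV : ∀ x y : P, y * x * y⁻¹ * x⁻¹ ∈ D.V := fun x y => D.comm_mem_V hna y x
  have hsum : ∀ x y, co (x * y * (x * y)) = co (x * x) + co (y * y) + β x y := by
    intro x y
    have hc := hcV x y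
    have e : x * y * (x * y) = (x * x) * (y * y) * (y * x * y⁻¹ * x⁻¹) := by
      calc x * y * (x * y) = x * (y * x * y⁻¹ * x⁻¹) * (x * (y * y)) := by group
        _ = (y * x * y⁻¹ * x⁻¹) * (x * x * (y * y)) := by rw [D.V_central hc x]; group
        _ = _ := (D.V_central hc _).symm
    rw [e, hcomul _ (mul_mem (hsq x) (hsq y)) _ hc, hcomul _ (hsq x) _ (hsq y)]
  have hβl : ∀ x x' y, β (x * x') y = β x y + β x' y := by
    intro x x' y
    have h2 := hcV x' y
    have e : y * (x * x') * y⁻¹ * (x * x')⁻¹ = (y * x * y⁻¹ * x⁻¹) * (y * x' * y⁻¹ * x'⁻¹) := by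
      calc y * (x * x') * y⁻¹ * (x * x')⁻¹
          = y * x * y⁻¹ * ((y * x' * y⁻¹ * x'⁻¹) * x⁻¹) := by group
        _ = _ := by rw [← D.V_central h2 x⁻¹]; group
    show co _ = co _ + co _
    rw [e, hcomul _ (hcV x y) _ h2]
  have hβ : ∀ x y, β x y = Q (π x + π y) - Q (π x) - Q (π y) := fun x y => by
    rw [← hπadd, ← hQ, ← hQ, ← hQ, hsum]; ring
  have hBl : ∀ a a' b : F, Q (a + a' + b) - Q (a + a') - Q b =
      (Q (a + b) - Q a - Q b) + (Q (a' + b) - Q a' - Q b) := by
    intro a a' b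
    obtain ⟨x, rfl⟩ := hπs a
    obtain ⟨x', rfl⟩ := hπs a'
    obtain ⟨y, rfl⟩ := hπs b
    rw [← hβ, ← hβ, ← hπadd x x', ← hβ, hβl]
  let B : F →+ F →+ F := AddMonoidHom.mk' (fun a => AddMonoidHom.mk'
      (fun b => c0⁻¹ * (Q (a + b) - Q a - Q b)) (fun b b' => by
        rw [← mul_add, add_comm a (b + b'), add_comm a b, add_comm a b']
        exact congrArg _ (by linear_combination hBl b b' a)))
    (fun a a' => AddMonoidHom.ext fun b => by
      show c0⁻¹ * _ = c0⁻¹ * _ + c0⁻¹ * _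
      rw [hBl, mul_add])
  obtain ⟨σ, τ, hστ⟩ := quad_monomial R (show c0⁻¹ * Q 0 = 0 by rw [hQ0, mul_zero]) B (fun a b => by
    show c0⁻¹ * Q (a + b) = c0⁻¹ * Q a + c0⁻¹ * Q b + c0⁻¹ * (Q (a + b) - Q a - Q b)
    ring)
  set φ : F ≃+* F := σ.symm.trans τ with hφ
  have hQeq : ∀ x, Q x = c0 * (σ x * φ (σ x)) := fun x => by
    have e : c0⁻¹ * Q x = σ x * τ x := hστ x
    rw [hφ, RingEquiv.trans_apply, RingEquiv.symm_apply_apply, ← e]
    field_simp
  have hne : φ ≠ RingEquiv.refl F := by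
    intro hrefl
    obtain ⟨x, y, hxy⟩ := hna
    refine hxy (mul_inv_eq_iff_eq_mul.1 (mul_inv_eq_one.1 ?_))
    refine hcoinj _ (hcV y x) _ (one_mem _) ?_
    show β y x = _
    rw [hco1, hβ]
    simp only [hQeq, hrefl, RingEquiv.refl_apply, map_add]
    linear_combination (c0 * σ (π y) * σ (π x)) * CharTwo.two_eq_zero (R := F)
  have hσ0 : ∀ x, σ (π x) = 0 ↔ x ∈ D.V := fun x => (map_eq_zero_iff _ σ.injective).trans (hπ0 x)
  let μ : Fˣ ≃* D.K := (Units.mapEquiv σ.toMulEquiv).symm.trans mU.symm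
  have hμπ : ∀ k x, σ (π ((μ k : MulAut P) x)) = (k : F) * σ (π x) := fun k x => by
    rw [hπk, show mU (μ k) = (Units.mapEquiv σ.toMulEquiv).symm k from mU.apply_symm_apply _, map_mul,
      show σ (((Units.mapEquiv σ.toMulEquiv).symm k : Fˣ) : F) = (k : F) from σ.apply_symm_apply _]
  have hQco : ∀ x, c0⁻¹ * co (x * x) = σ (π x) * φ (σ (π x)) := fun x => by
    rw [hQ, hQeq, inv_mul_cancel_left₀ hc0ne]
  obtain ⟨x1, hx1⟩ := hπs (σ.symm 1)
  have hx1' : σ (π x1) = 1 := by rw [hx1, σ.apply_symm_apply]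
  have hμco : ∀ k, ∀ v ∈ D.V, c0⁻¹ * co ((μ k : MulAut P) v) = φ (k : F) * k * (c0⁻¹ * co v) := by
    intro k v hv
    have key : (mV (μ k) : F) = φ (k : F) * k := by
      have h1 := hQco ((μ k : MulAut P) x1)
      rw [← map_mul, hcok _ _ (hsq x1), ← mul_left_comm, hQco x1, hμπ, hx1', map_one, mul_one, mul_one,
        mul_one] at h1
      rw [h1, mul_comm]
    rw [hcok _ v hv, key]
    ring
  have hco' : ∀ v ∈ D.V, ∀ w ∈ D.V, c0⁻¹ * co (v * w) = c0⁻¹ * co v + c0⁻¹ * co w := fun v hv w hw => by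
    rw [hcomul v hv w hw, mul_add]
  let ι : F → P := fun a => if h : a = 0 then 1 else (μ (Units.mk0 a h) : MulAut P) x1
  have hι0 : ι 0 = 1 := dif_pos rfl
  have hιπ : ∀ a, σ (π (ι a)) = a := fun a => by
    by_cases h : a = 0
    · rw [h, hι0, hπ1, map_zero]
    · show σ (π (dite _ _ _)) = a
      rw [dif_neg h, hμπ, hx1', mul_one, Units.val_mk0]
  have hιk : ∀ (k : Fˣ) a, (μ k : MulAut P) (ι a) = ι ((k : F) * a) := fun k a => by
    by_cases h : a = 0
    · rw [h, mul_zero, hι0, map_one]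
    · show (μ k : MulAut P) (dite _ _ _) = dite _ _ _
      rw [dif_neg h, dif_neg (mul_ne_zero k.ne_zero h), ← MulAut.mul_apply, ← Subgroup.coe_mul, ← map_mul]
      congr 3
      exact Units.ext rfl
  let ev : F → P := fun y => el (c0 * y)
  have hev : ∀ y, ev y ∈ D.V := fun y => hel _
  have hcev : ∀ y, c0⁻¹ * co (ev y) = y := fun y => by
    show c0⁻¹ * co (el _) = y
    rw [hcoel, inv_mul_cancel_left₀ hc0ne]
  have hevco : ∀ v ∈ D.V, ev (c0⁻¹ * co v) = v := fun v hv => by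
    show el _ = v
    rw [mul_inv_cancel_left₀ hc0ne, helco v hv]
  have hev_eq : ∀ v ∈ D.V, ∀ y, c0⁻¹ * co v = y → v = ev y := fun v hv y e => by rw [← e, hevco v hv]
  have hevadd : ∀ y z, ev y * ev z = ev (y + z) := fun y z =>
    hev_eq _ (mul_mem (hev y) (hev z)) _ (by rw [hco' _ (hev y) _ (hev z), hcev, hcev])
  have hevk : ∀ (k : Fˣ) y, (μ k : MulAut P) (ev y) = ev (φ (k : F) * k * y) := fun k y =>
    hev_eq _ (D.map_V _ (hev y)) _ (by rw [hμco k _ (hev y), hcev])
  have hev0 : ev 0 = 1 := (hev_eq 1 (one_mem _) 0 (by rw [hco1, mul_zero])).symm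
  let T0 : F × F → P := fun p => ι p.1 * ev p.2
  have hcV : ∀ a b, (ι (a + b))⁻¹ * (ι a * ι b) ∈ D.V := fun a b => (hσ0 _).1 (by
    have h := congrArg σ (hπadd (ι (a + b)) ((ι (a + b))⁻¹ * (ι a * ι b)))
    rw [mul_inv_cancel_left, hπadd, map_add, map_add, hιπ, hιπ, hιπ] at h
    exact (left_eq_add.1 h))
  let c : F → F → F := fun a b => c0⁻¹ * co ((ι (a + b))⁻¹ * (ι a * ι b))
  have hmulι : ∀ a b, ι a * ι b = ι (a + b) * ev (c a b) := fun a b => by
    rw [← hev_eq _ (hcV a b) (c a b) rfl, mul_inv_cancel_left]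
  have hT0 : ∀ p r, T0 p * T0 r = T0 (p.1 + r.1, p.2 + r.2 + c p.1 r.1) := fun p r => by
    show ι p.1 * ev p.2 * (ι r.1 * ev r.2) = ι (p.1 + r.1) * ev (p.2 + r.2 + c p.1 r.1)
    calc ι p.1 * ev p.2 * (ι r.1 * ev r.2) = ι p.1 * (ev p.2 * ι r.1) * ev r.2 := by group
      _ = ι p.1 * (ι r.1 * ev p.2) * ev r.2 := by rw [← D.V_central (hev _) (ι r.1)]
      _ = (ι p.1 * ι r.1) * (ev p.2 * ev r.2) := by group
      _ = ι (p.1 + r.1) * (ev (c p.1 r.1) * (ev p.2 * ev r.2)) := by rw [hmulι]; group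
      _ = _ := by rw [hevadd, hevadd, add_comm (c p.1 r.1)]
  have hT0i : Function.Injective T0 := fun p r e => by
    have h1 : p.1 = r.1 := by
      have h := congrArg (fun x => σ (π x)) e
      simp only [T0, hπadd, map_add, hιπ, (hσ0 _).2 (hev _), add_zero] at h
      exact h
    have h2 : ev p.2 = ev r.2 := mul_left_cancel (a := ι r.1) (by rw [← h1]; exact e.trans (by rw [h1]))
    refine Prod.ext h1 ?_
    have h := congrArg (fun v => c0⁻¹ * co v) h2
    simpa only [hcev] using h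
  have hz : ∀ a, c 0 a = 0 := fun a => by
    show c0⁻¹ * co ((ι (0 + a))⁻¹ * (ι 0 * ι a)) = 0
    rw [zero_add, hι0, one_mul, inv_mul_cancel, hco1, mul_zero]
  have hcd : ∀ a, c a a = φ a * a := fun a => by
    show c0⁻¹ * co ((ι (a + a))⁻¹ * (ι a * ι a)) = φ a * a
    rw [CharTwo.add_self_eq_zero, hι0, inv_one, one_mul, hQco, hιπ, mul_comm]
  have hcoc : ∀ a b e, c a b + c (a + b) e = c b e + c a (b + e) := fun a b e => by
    have h := congrArg Prod.snd (hT0i (show T0 ((a + b) + e, _) = T0 (a + (b + e), _) from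
      ((congrArg (· * T0 (e, 0)) (hT0 (a, 0) (b, 0))).trans (hT0 _ (e, 0))).symm.trans
        ((mul_assoc _ _ _).trans ((congrArg (T0 (a, 0) * ·) (hT0 (b, 0) (e, 0))).trans (hT0 (a, 0) _)))))
    simpa using h
  have hck : ∀ (k : Fˣ) a b, c ((k : F) * a) ((k : F) * b) = φ (k : F) * k * c a b := fun k a b => by
    rw [← hμco k _ (hcV a b)]
    show c0⁻¹ * co _ = _
    rw [map_mul, map_inv, map_mul, hιk, hιk, hιk, ← mul_add]
  obtain ⟨d, hd⟩ := exists_coboundary (fun a b => c a b + φ a * b) (fun a => by simp [hz])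
    (fun a b => by
      have e1 := hcoc a b (a + b)
      have e2 := hcoc b a b
      have e3 := hcoc a b b
      have z : ∀ a, c a 0 = 0 := fun a => by
        show c0⁻¹ * co ((ι (a + 0))⁻¹ * (ι a * ι 0)) = 0
        rw [add_zero, hι0, mul_one, inv_mul_cancel, hco1, mul_zero]
      have hab : b + (a + b) = a := by
        linear_combination b * CharTwo.two_eq_zero (R := F)
      simp only [hab, hcd, CharTwo.add_self_eq_zero, z, map_add, add_comm b a] at e1 e2 e3
      linear_combination e1 + e2 + e3 + (c b (a + b) - c (a + b) b - c b a - φ b * a) *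
        CharTwo.two_eq_zero (R := F))
    (fun a => by rw [hcd]; exact CharTwo.add_self_eq_zero _)
    (fun a b e => by
      rw [map_add]
      linear_combination hcoc a b e)
  let w : Fˣ → F := fun k => φ (k : F) * k
  let d' : F → F := fun a => ∑ k : Fˣ, (w k)⁻¹ * d ((k : F) * a)
  have hw : ∀ k, w k ≠ 0 := fun k => mul_ne_zero (φ.injective.ne_iff' (map_zero φ) |>.2 k.ne_zero) k.ne_zero
  have hd' : ∀ a b, c a b + φ a * b = d' (a + b) + d' a + d' b := fun a b => by
    have hsum : ∀ k : Fˣ, (w k)⁻¹ * d ((k : F) * (a + b)) + (w k)⁻¹ * d ((k : F) * a) +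
        (w k)⁻¹ * d ((k : F) * b) = c a b + φ a * b := fun k => by
      rw [← mul_add, ← mul_add, mul_add (k : F), ← hd, hck, map_mul]
      show (φ (k : F) * k)⁻¹ * _ = _
      rw [inv_mul_eq_iff_eq_mul₀ (hw k)]
      ring
    show _ = ∑ k : Fˣ, _ + ∑ k : Fˣ, _ + ∑ k : Fˣ, _
    rw [← Finset.sum_add_distrib, ← Finset.sum_add_distrib, Finset.sum_congr rfl fun k _ => hsum k,
      Finset.sum_const, Finset.card_univ, Fintype.card_units, nsmul_eq_mul,
      Nat.cast_sub Fintype.card_pos, Nat.cast_card_eq_zero, Nat.cast_one, zero_sub, CharTwo.neg_eq, one_mul]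
  have hd'k : ∀ (k : Fˣ) a, d' ((k : F) * a) = w k * d' a := fun k a => by
    show ∑ l : Fˣ, _ = w k * ∑ l : Fˣ, _
    rw [Finset.mul_sum]
    refine Fintype.sum_equiv (Equiv.mulRight k) _ _ fun l => ?_
    show _ = w k * ((w (l * k))⁻¹ * d (((l * k : Fˣ) : F) * a))
    rw [Units.val_mul, mul_assoc]
    simp only [w, Units.val_mul, map_mul]
    field_simp [hw l, hw k, k.ne_zero, l.ne_zero]
  refine ⟨F, inferInstance, inferInstance, φ, fun p => T0 (p.1, p.2 + d' p.1), μ, hF, hne,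
    (Nat.bijective_iff_injective_and_card _).2 ⟨fun p r e => ?_, ?_⟩, fun p r => ?_, fun k p => ?_⟩
  · have h := hT0i e
    have h1 : p.1 = r.1 := (Prod.ext_iff.mp h).1
    refine Prod.ext h1 ?_
    have h2 : p.2 + d' p.1 = r.2 + d' r.1 := (Prod.ext_iff.mp h).2
    rw [h1] at h2
    exact add_right_cancel h2
  · rw [hcard, Nat.card_prod, Nat.card_eq_fintype_card, hF, sq]
  · rw [hT0]
    refine congrArg T0 (Prod.ext rfl ?_)
    show p.2 + d' p.1 + (r.2 + d' r.1) + c p.1 r.1 = p.2 + r.2 + φ p.1 * r.1 + d' (p.1 + r.1)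
    linear_combination hd' p.1 r.1 + (d' p.1 + d' r.1 - φ p.1 * r.1) * CharTwo.two_eq_zero (R := F)
  · show (μ k : MulAut P) (ι p.1 * ev (p.2 + d' p.1)) = ι _ * ev _
    rw [map_mul, hιk, hevk]
    congr 2
    show φ (k : F) * k * (p.2 + d' p.1) = φ (k : F) * k * p.2 + d' ((k : F) * p.1)
    rw [hd'k]
    show _ = _ + φ (k : F) * k * d' p.1
    ring

end Cfsg.Agent.SzSmall
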