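import Mathlib.GroupTheory.GroupAction.Defs
import Mathlib.GroupTheory.Perm.Basic
import Mathlib.Algebra.Field.Basic
import Mathlib.Algebra.Group.Subgroup.Map
import Mathlib.Tactic

/-!
# Coordinates for a group with the structure of a Suzuki group

The root group in coordinates `(x, y)`, the torus acting by scalars, and a swapping involution `s`.
The relation `Rel u f h g` says `s T(u) s = T(f) d(h) s T(g)`.
-/

set_option autoImplicit false
set_option linter.unusedSectionVars false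

namespace Cfsg.Agent.SzSmall

universe u v w

variable {K : Type u} [Field K]

/-- Multiplication of coordinates. -/
def pmul (φ : K →+* K) (p q : K × K) : K × K := (p.1 + q.1, p.2 + q.2 + φ p.1 * q.1)

/-- Inverse of coordinates. -/
def pinv (φ : K →+* K) (p : K × K) : K × K := (-p.1, -p.2 + φ p.1 * p.1)

/-- The torus action on coordinates. -/
def pact (φ : K →+* K) (k : Kˣ) (p : K × K) : K × K := ((k : K) * p.1, φ (k : K) * k * p.2)

/-- Coordinates for the group. -/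
structure Frame (φ : K →+* K) (G : Type v) (Ω : Type w) [Group G] [MulAction G Ω] where
  a : Ω
  b : Ω
  T : K × K → G
  d : Kˣ →* G
  s : G
  ne : a ≠ b
  T_mul : ∀ p q, T p * T q = T (pmul φ p q)
  d_conj : ∀ k p, d k * T p * (d k)⁻¹ = T (pact φ k p)
  s_sq : s * s = 1
  s_d : ∀ k, s * d k * s = d k⁻¹
  T_a : ∀ p, T p • a = a
  d_a : ∀ k, d k • a = a
  d_b : ∀ k, d k • b = b
  s_a : s • a = b
  reg : ∀ c, c ≠ a → ∃! p, T p • b = c
  stab : ∀ g : G, g • a = a → ∃ p k, g = T p * d k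
  faith : ∀ g : G, (∀ c : Ω, g • c = c) → g = 1

namespace Frame

variable {φ : K →+* K} {G : Type v} {Ω : Type w} [Group G] [MulAction G Ω] (F : Frame φ G Ω)

theorem T_zero : F.T 0 = 1 := by
  have h := F.T_mul 0 0
  rw [show pmul φ (0 : K × K) 0 = 0 by simp [pmul]] at h
  exact mul_left_cancel (h.trans (mul_one _).symm)

theorem T_inv (p : K × K) : (F.T p)⁻¹ = F.T (pinv φ p) := by
  refine inv_eq_of_mul_eq_one_right ?_
  rw [F.T_mul, ← F.T_zero]
  congr 1
  simp only [pmul, pinv, Prod.ext_iff, Prod.fst_zero, Prod.snd_zero]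
  constructor <;> ring

theorem d_inv (k : Kˣ) : (F.d k)⁻¹ = F.d k⁻¹ := (map_inv F.d k).symm

theorem s_b : F.s • F.b = F.a := by rw [← F.s_a, ← mul_smul, F.s_sq, one_smul]

theorem s_mul_d (k : Kˣ) : F.s * F.d k = (F.d k)⁻¹ * F.s := by
  calc F.s * F.d k = F.s * F.d k * (F.s * F.s) := by rw [F.s_sq, mul_one]
    _ = _ := by rw [← mul_assoc, F.s_d, F.d_inv]

theorem T_b_inj {p q : K × K} (h : F.T p • F.b = F.T q • F.b) : p = q := by
  have hc : F.T q • F.b ≠ F.a := fun e => F.ne (smul_left_cancel (F.T q) ((F.T_a q).trans e.symm))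
  exact (F.reg _ hc).unique h rfl

theorem T_injective : Function.Injective F.T := fun p q h => F.T_b_inj (by rw [h])

theorem T_b_ne (p : K × K) : F.T p • F.b ≠ F.a := fun e =>
  F.ne (smul_left_cancel (F.T p) ((F.T_a p).trans e.symm))

/-- The defining relation. -/
def Rel (u f : K × K) (h : Kˣ) (g : K × K) : Prop :=
  F.s * F.T u * F.s = F.T f * F.d h * F.s * F.T g

theorem rel_apply_a {u f g : K × K} {h : Kˣ} (r : F.Rel u f h g) :
    F.s • (F.T u • F.b) = F.T f • F.b := by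
  have e := congrArg (· • F.a) r
  simp only [mul_smul, F.T_a, F.s_a, F.d_b] at e
  exact e

theorem rel_unique {u f f' g g' : K × K} {h h' : Kˣ} (r : F.Rel u f h g) (r' : F.Rel u f' h' g') :
    f = f' ∧ h = h' ∧ g = g' := by
  have hf : f = f' := F.T_b_inj ((F.rel_apply_a r).symm.trans (F.rel_apply_a r'))
  subst hf
  have e : F.d h * F.s * F.T g = F.d h' * F.s * F.T g' := by
    have := r.symm.trans r'
    simp only [mul_assoc] at this ⊢
    exact mul_left_cancel this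
  have e2 : F.T g * (F.T g')⁻¹ = F.s * F.d (h⁻¹ * h') * F.s := by
    rw [map_mul, map_inv]
    have e1 : F.T g = F.s * (F.d h)⁻¹ * (F.d h' * F.s * F.T g') := by
      rw [← e]; simp only [← mul_assoc]; simp [F.s_sq]
    rw [e1]; group
  rw [F.s_d, F.T_inv, F.T_mul] at e2
  have hp : pmul φ g (pinv φ g') = 0 := F.T_b_inj (by rw [e2, F.d_b, F.T_zero, one_smul])
  have hg : g = g' := by
    have h1 : F.T g * (F.T g')⁻¹ = 1 := by rw [F.T_inv, F.T_mul, hp, F.T_zero]
    exact F.T_injective (mul_inv_eq_one.1 h1)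
  subst hg
  refine ⟨rfl, ?_, rfl⟩
  by_contra hne
  have e3 : F.d h = F.d h' := mul_right_cancel (mul_right_cancel e)
  have h4 := F.d_conj h (1, 0)
  rw [e3, F.d_conj] at h4
  have h5 := congrArg Prod.fst (F.T_injective h4)
  simp only [pact, mul_one] at h5
  exact hne (Units.ext h5).symm

theorem rel_ne_zero {u f g : K × K} {h : Kˣ} (r : F.Rel u f h g) : u ≠ 0 ∧ f ≠ 0 ∧ g ≠ 0 := by
  have hu : u ≠ 0 := by
    rintro rfl
    have := F.rel_apply_a r
    rw [F.T_zero, one_smul, F.s_b] at this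
    exact F.T_b_ne f this.symm
  refine ⟨hu, ?_, ?_⟩
  · rintro rfl
    have := F.rel_apply_a r
    rw [F.T_zero, one_smul, smul_eq_iff_eq_inv_smul, inv_eq_of_mul_eq_one_right F.s_sq, F.s_b] at this
    exact F.T_b_ne u this
  · rintro rfl
    have e := congrArg (· • F.b) r
    simp only [mul_smul, F.T_zero, one_smul, F.s_b, F.T_a, F.d_a, F.s_a] at e
    exact F.ne e.symm

theorem rel_exists {u : K × K} (hu : u ≠ 0) : ∃ f h g, F.Rel u f h g := by
  have hc : F.s • (F.T u • F.b) ≠ F.a := fun e => hu (F.T_b_inj (by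
    rw [F.T_zero, one_smul]
    rw [smul_eq_iff_eq_inv_smul, inv_eq_of_mul_eq_one_right F.s_sq, F.s_a] at e
    exact e))
  obtain ⟨f, hf, -⟩ := F.reg _ hc
  have hfix : ((F.T f * F.s)⁻¹ * (F.s * F.T u * F.s)) • F.a = F.a := by
    rw [mul_smul, inv_smul_eq_iff, mul_smul, mul_smul, mul_smul, F.s_a, hf]
  obtain ⟨g', k, e⟩ := F.stab _ hfix
  rw [inv_mul_eq_iff_eq_mul] at e
  refine ⟨f, k⁻¹, pact φ k⁻¹ g', ?_⟩
  show _ = _
  have hk := F.d_conj k⁻¹ g'
  rw [map_inv, inv_inv] at hk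
  rw [e, ← hk, map_inv]
  calc F.T f * F.s * (F.T g' * F.d k) = F.T f * (F.s * F.d k) * ((F.d k)⁻¹ * F.T g' * F.d k) := by group
    _ = F.T f * ((F.d k)⁻¹ * F.s) * ((F.d k)⁻¹ * F.T g' * F.d k) := by rw [F.s_mul_d]
    _ = _ := by group

theorem rel_sym {u f g : K × K} {h : Kˣ} (r : F.Rel u f h g) :
    F.Rel f u h⁻¹ (pact φ h⁻¹ (pinv φ g)) := by
  show _ = _
  rw [← F.d_conj, ← F.T_inv, map_inv, inv_inv]
  have ef : F.T f = F.s * F.T u * F.s * (F.T g)⁻¹ * F.s * (F.d h)⁻¹ := by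
    have r' : F.s * F.T u * F.s = F.T f * F.d h * F.s * F.T g := r
    rw [r']; simp only [mul_assoc, mul_inv_cancel_left]
    rw [← mul_assoc F.s F.s, F.s_sq, one_mul, mul_inv_cancel, mul_one]
  rw [ef]
  have hd : F.s * (F.d h)⁻¹ * F.s = F.d h := by rw [F.d_inv, F.s_d, inv_inv]
  have hs : F.s * (F.d h)⁻¹ = F.d h * F.s := by
    calc F.s * (F.d h)⁻¹ = F.s * (F.d h)⁻¹ * (F.s * F.s) := by rw [F.s_sq, mul_one]
      _ = F.d h * F.s := by rw [← mul_assoc, hd]
  calc F.s * (F.s * F.T u * F.s * (F.T g)⁻¹ * F.s * (F.d h)⁻¹) * F.s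
      = (F.s * F.s) * F.T u * (F.s * (F.T g)⁻¹ * (F.s * (F.d h)⁻¹ * F.s)) := by group
    _ = F.T u * (F.s * (F.T g)⁻¹ * F.d h) := by rw [F.s_sq, one_mul, hd]
    _ = F.T u * ((F.s * F.d h) * ((F.d h)⁻¹ * (F.T g)⁻¹ * F.d h)) := by group
    _ = F.T u * (((F.d h)⁻¹ * F.s) * ((F.d h)⁻¹ * (F.T g)⁻¹ * F.d h)) := by
        rw [F.s_mul_d]
    _ = _ := by group

theorem rel_inv {u f g : K × K} {h : Kˣ} (r : F.Rel u f h g) :
    F.Rel (pinv φ u) (pinv φ g) h (pinv φ f) := by
  show _ = _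
  rw [← F.T_inv, ← F.T_inv, ← F.T_inv]
  have hs : F.s * (F.d h)⁻¹ = F.d h * F.s := by
    calc F.s * (F.d h)⁻¹ = F.s * (F.d h)⁻¹ * (F.s * F.s) := by rw [F.s_sq, mul_one]
      _ = F.d h * F.s := by rw [← mul_assoc, F.d_inv, F.s_d, inv_inv]
  have e := congrArg (·⁻¹) r
  simp only [mul_inv_rev, inv_eq_of_mul_eq_one_right F.s_sq] at e
  simp only [mul_assoc] at e ⊢
  rw [e, ← mul_assoc F.s, hs]
  simp only [mul_assoc]

theorem rel_scale {u f g : K × K} {h : Kˣ} (r : F.Rel u f h g) (k : Kˣ) :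
    F.Rel (pact φ k u) (pact φ k⁻¹ f) (h * k⁻¹ * k⁻¹) (pact φ k⁻¹ g) := by
  show _ = _
  rw [← F.d_conj, ← F.d_conj, ← F.d_conj, map_inv, inv_inv, map_mul, map_mul, map_inv]
  have hs : F.s * F.d k = (F.d k)⁻¹ * F.s := by
    calc F.s * F.d k = F.s * F.d k * (F.s * F.s) := by rw [F.s_sq, mul_one]
      _ = _ := by rw [← mul_assoc, F.s_d, F.d_inv]
  have hs' : (F.d k)⁻¹ * F.s = F.s * F.d k := hs.symm
  have hs2 : F.s * (F.d k)⁻¹ = F.d k * F.s := by
    calc F.s * (F.d k)⁻¹ = F.s * (F.d k)⁻¹ * (F.s * F.s) := by rw [F.s_sq, mul_one]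
      _ = _ := by rw [← mul_assoc, F.d_inv, F.s_d, inv_inv]
  calc F.s * (F.d k * F.T u * (F.d k)⁻¹) * F.s = (F.s * F.d k) * F.T u * ((F.d k)⁻¹ * F.s) := by group
    _ = ((F.d k)⁻¹ * F.s) * F.T u * (F.s * F.d k) := by rw [hs]
    _ = (F.d k)⁻¹ * (F.s * F.T u * F.s) * F.d k := by group
    _ = (F.d k)⁻¹ * (F.T f * F.d h * F.s * F.T g) * F.d k := by
        rw [show F.s * F.T u * F.s = F.T f * F.d h * F.s * F.T g from r]
    _ = ((F.d k)⁻¹ * F.T f * F.d k) * ((F.d k)⁻¹ * F.d h * (F.s * F.d k)) *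
          ((F.d k)⁻¹ * F.T g * F.d k) := by group
    _ = _ := by
        rw [hs]
        have hc : (F.d k)⁻¹ * F.d h = F.d h * (F.d k)⁻¹ := by
          rw [← map_inv, ← map_mul, ← map_mul, mul_comm]
        rw [hc]; group

theorem rel_eq_mid {w fw gw u fu gu : K × K} {hw hu : Kˣ} (rw_ : F.Rel w fw hw gw)
    (ru : F.Rel u fu hu gu) :
    F.s * F.T (pmul φ w fu) * F.s = F.T fw * F.d hw * (F.s * F.T (pmul φ gw u) * F.s) *
      (F.T gu)⁻¹ * F.d hu := by
  have hd : F.s * (F.d hu)⁻¹ * F.s = F.d hu := by rw [F.d_inv, F.s_d, inv_inv]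
  have efu : F.T fu = F.s * F.T u * F.s * (F.T gu)⁻¹ * F.s * (F.d hu)⁻¹ := by
    rw [show F.s * F.T u * F.s = F.T fu * F.d hu * F.s * F.T gu from ru]
    simp only [mul_assoc, mul_inv_cancel_left]
    rw [← mul_assoc F.s F.s, F.s_sq, one_mul, mul_inv_cancel, mul_one]
  rw [← F.T_mul, ← F.T_mul, efu]
  calc F.s * (F.T w * (F.s * F.T u * F.s * (F.T gu)⁻¹ * F.s * (F.d hu)⁻¹)) * F.s
      = (F.s * F.T w * F.s) * F.T u * F.s * (F.T gu)⁻¹ * (F.s * (F.d hu)⁻¹ * F.s) := by group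
    _ = (F.T fw * F.d hw * F.s * F.T gw) * F.T u * F.s * (F.T gu)⁻¹ * F.d hu := by
        rw [show F.s * F.T w * F.s = F.T fw * F.d hw * F.s * F.T gw from rw_, hd]
    _ = _ := by group

theorem rel_eq {w fw gw u fu gu f2 g2 : K × K} {hw hu h2 : Kˣ} (rw_ : F.Rel w fw hw gw)
    (ru : F.Rel u fu hu gu) (rR : F.Rel (pmul φ gw u) f2 h2 g2) :
    F.Rel (pmul φ w fu) (pmul φ fw (pact φ hw f2)) (hw * h2 * hu⁻¹)
      (pact φ hu⁻¹ (pmul φ g2 (pinv φ gu))) := by
  have hs : F.s * F.d hu = (F.d hu)⁻¹ * F.s := by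
    calc F.s * F.d hu = F.s * F.d hu * (F.s * F.s) := by rw [F.s_sq, mul_one]
      _ = _ := by rw [← mul_assoc, F.s_d, F.d_inv]
  show _ = _
  rw [F.rel_eq_mid rw_ ru, show F.s * F.T (pmul φ gw u) * F.s = F.T f2 * F.d h2 * F.s * F.T g2 from rR,
    ← F.T_mul, ← F.d_conj, ← F.d_conj, ← F.T_mul, ← F.T_inv, map_inv, inv_inv, map_mul, map_mul, map_inv]
  calc F.T fw * F.d hw * (F.T f2 * F.d h2 * F.s * F.T g2) * (F.T gu)⁻¹ * F.d hu
      = F.T fw * (F.d hw * F.T f2 * (F.d hw)⁻¹) * F.d hw * F.d h2 * (F.s * F.d hu) *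
          ((F.d hu)⁻¹ * (F.T g2 * (F.T gu)⁻¹) * F.d hu) := by group
    _ = _ := by rw [hs]; group

theorem rel_eq_zero {w fw gw u fu gu : K × K} {hw hu : Kˣ} (rw_ : F.Rel w fw hw gw)
    (ru : F.Rel u fu hu gu) (hR : pmul φ gw u = 0) : pmul φ w fu = 0 := by
  by_contra hL
  obtain ⟨f, h, g, r⟩ := F.rel_exists hL
  have e := F.rel_eq_mid rw_ ru
  rw [hR, F.T_zero, mul_one, F.s_sq, mul_one, F.T_inv] at e
  have e' := congrArg (· • F.a) e
  simp only [mul_smul, F.d_a, F.T_a, F.s_a] at e'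
  exact F.T_b_ne f ((F.rel_apply_a r).symm.trans e')

/-- The points as coordinates. -/
noncomputable def pts : Option (K × K) ≃ Ω := by
  refine Equiv.ofBijective (fun o => o.elim F.a fun p => F.T p • F.b) ⟨?_, fun c => ?_⟩
  · rintro (_ | p) (_ | q) h
    · rfl
    · exact absurd h.symm (F.T_b_ne q)
    · exact absurd h (F.T_b_ne p)
    · exact congrArg some (F.T_b_inj h)
  · by_cases hc : c = F.a
    · exact ⟨none, hc.symm⟩
    · obtain ⟨p, hp, -⟩ := F.reg c hc
      exact ⟨some p, hp⟩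

theorem pts_none : F.pts none = F.a := rfl

theorem pts_some (p : K × K) : F.pts (some p) = F.T p • F.b := rfl

/-- The permutation representation on coordinates. -/
noncomputable def perm : G →* Equiv.Perm (Option (K × K)) where
  toFun g := F.pts.trans ((MulAction.toPerm g).trans F.pts.symm)
  map_one' := Equiv.ext fun o => by simp
  map_mul' g h := Equiv.ext fun o => by simp [mul_smul]

theorem perm_injective : Function.Injective F.perm := by
  refine (injective_iff_map_eq_one _).2 fun g hg => F.faith g fun c => ?_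
  obtain ⟨o, rfl⟩ := F.pts.surjective c
  exact F.pts.symm_apply_eq.1 (Equiv.congr_fun hg o)

/-- Generators. -/
def gens : Set G := Set.range F.T ∪ Set.range F.d ∪ {F.s}

theorem closure_gens : Subgroup.closure F.gens = ⊤ := by
  refine (Subgroup.eq_top_iff' _).2 fun g => ?_
  have hT : ∀ p, F.T p ∈ Subgroup.closure F.gens := fun p =>
    Subgroup.subset_closure (Or.inl (Or.inl ⟨p, rfl⟩))
  have hd : ∀ k, F.d k ∈ Subgroup.closure F.gens := fun k =>
    Subgroup.subset_closure (Or.inl (Or.inr ⟨k, rfl⟩))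
  have hs : F.s ∈ Subgroup.closure F.gens := Subgroup.subset_closure (Or.inr rfl)
  have hstab : ∀ g : G, g • F.a = F.a → g ∈ Subgroup.closure F.gens := fun g hg => by
    obtain ⟨p, k, rfl⟩ := F.stab g hg
    exact mul_mem (hT p) (hd k)
  by_cases hg : g • F.a = F.a
  · exact hstab g hg
  obtain ⟨p, hp, -⟩ := F.reg _ hg
  have h1 : ((F.T p * F.s)⁻¹ * g) • F.a = F.a := by
    rw [mul_smul, inv_smul_eq_iff, mul_smul, F.s_a, hp]
  have h2 := mul_mem (mul_mem (hT p) hs) (hstab _ h1)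
  rwa [mul_inv_cancel_left] at h2

theorem perm_T (p : K × K) (o : Option (K × K)) : F.perm (F.T p) o = o.map (pmul φ p) := by
  refine F.pts.symm_apply_eq.2 ?_
  rcases o with _ | q
  · exact F.T_a p
  · show F.T p • (F.T q • F.b) = F.T (pmul φ p q) • F.b
    rw [← mul_smul, F.T_mul]

theorem perm_d (k : Kˣ) (o : Option (K × K)) : F.perm (F.d k) o = o.map (pact φ k) := by
  refine F.pts.symm_apply_eq.2 ?_
  rcases o with _ | q
  · exact F.d_a k
  · show F.d k • (F.T q • F.b) = F.T (pact φ k q) • F.b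
    rw [← F.d_conj, mul_smul, mul_smul, inv_smul_eq_iff.2 (F.d_b k).symm]

open Classical in
theorem perm_s (fn : K × K → K × K) (hfn : ∀ u, u ≠ 0 → ∃ h g, F.Rel u (fn u) h g)
    (o : Option (K × K)) :
    F.perm F.s o = o.elim (some 0) fun u => if u = 0 then none else some (fn u) := by
  refine F.pts.symm_apply_eq.2 ?_
  rcases o with _ | u
  · show F.s • F.a = F.T 0 • F.b
    rw [F.T_zero, one_smul, F.s_a]
  · by_cases hu : u = 0
    · subst hu
      simp only [Option.elim, if_true]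
      show F.s • (F.T 0 • F.b) = F.a
      rw [F.T_zero, one_smul, F.s_b]
    · simp only [Option.elim, if_neg hu]
      obtain ⟨h, g, r⟩ := hfn u hu
      exact F.rel_apply_a r

end Frame

/-- Two groups with coordinates and the same structure function are isomorphic. -/
theorem equiv_of_frames {φ : K →+* K} {G : Type v} {Ω : Type w} [Group G] [MulAction G Ω]
    {G' : Type*} {Ω' : Type*} [Group G'] [MulAction G' Ω'] (F : Frame φ G Ω) (F' : Frame φ G' Ω')
    (fn : K × K → K × K) (h : ∀ u, u ≠ 0 → ∃ k g, F.Rel u (fn u) k g)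
    (h' : ∀ u, u ≠ 0 → ∃ k g, F'.Rel u (fn u) k g) : Nonempty (G ≃* G') := by
  have himg : F.perm.range = F'.perm.range := by
    rw [MonoidHom.range_eq_map, MonoidHom.range_eq_map, ← F.closure_gens, ← F'.closure_gens,
      MonoidHom.map_closure, MonoidHom.map_closure]
    congr 1
    simp only [Frame.gens, Set.image_union, ← Set.range_comp, Set.image_singleton]
    have hT : F.perm ∘ F.T = F'.perm ∘ F'.T :=
      funext fun p => Equiv.ext fun o => (F.perm_T p o).trans (F'.perm_T p o).symm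
    have hd : F.perm ∘ F.d = F'.perm ∘ F'.d :=
      funext fun k => Equiv.ext fun o => (F.perm_d k o).trans (F'.perm_d k o).symm
    have hs : F.perm F.s = F'.perm F'.s :=
      Equiv.ext fun o => (F.perm_s fn h o).trans (F'.perm_s fn h' o).symm
    rw [hT, hd, hs]
  exact ⟨(MonoidHom.ofInjective F.perm_injective).trans ((MulEquiv.subgroupCongr himg).trans
    (MonoidHom.ofInjective F'.perm_injective).symm)⟩

end Cfsg.Agent.SzSmall
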